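import Cfsg.Agent.SM.Om.Defs

/-!
# SM (S3570), socle `PΩ⁻_{2m}(q)`: one more box (helper87)
-/

set_option autoImplicit false

namespace Cfsg.Agent.SM.Om

open Cfsg Cfsg.Geo
open scoped MatrixGroups

/-- `n = 20`, `q = 2`: a proper subgroup of order divisible by `19` and `41` -/
def BoxK2 : Prop :=
  ∀ (F : Type) [Field F] [Fintype F] (n : ℕ) (Q : QuadraticForm F (Fin n → F)) (X : Subgroup (GL (Fin n) F)), Spc Q 10 →
    X ≤ Og Q → ¬ Og Q ≤ X → Fintype.card F = 2 → 41 ∣ Nat.card X → 19 ∣ Nat.card X → Fld X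

end Cfsg.Agent.SM.Om
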