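import Cfsg.Agent.SM.Om.Lin
import Cfsg.Agent.SM.Om.Defs2
import Cfsg.Agent.SM.Ex78.Base
import Cfsg.Agent.H193.Dg.Cyc
import Cfsg.Agent.H951.Rl.BigN

/-!
# SM (S3570), socle `PΩ⁻_{2m}(q)`: the list of the factorisations, generic primes (helper87)
-/

set_option autoImplicit false
set_option linter.unusedSectionVars false

namespace Cfsg.Agent.SM.Om

open Module QuadraticMap Cfsg Cfsg.Geo Cfsg.Agent.LieClassical.OrthCore Cfsg.Agent.LieClassical.OrthTrans
  Cfsg.Agent.H955 Cfsg.Agent.H884.El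
open Cfsg.Agent.H278.Cov (Red Ext)
open scoped MatrixGroups Matrix commutatorElement

variable {n : ℕ} {F : Type} [Field F] [Fintype F] {Q : QuadraticForm F (Fin n → F)} {m : ℕ}
  {X Y : Subgroup (GL (Fin n) F)} {k r : ℕ}

theorem ncard (F : Type) [Fintype F] : Nat.card F = Fintype.card F := Nat.card_eq_fintype_card

/-- the `r`-subgroups are cyclic -/
theorem cyc_gl (hr : PP (Nat.card F) k r) (hk : 2 ≤ k) (hn : n < 2 * k) {Γ : Type} [Group Γ] [Finite Γ] (hΓ : IsPGroup r Γ)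
    (φ : Γ →* GL (Fin n) F) (hφ : Function.Injective φ) : IsCyclic Γ := by
  have := Fact.mk hr.prime
  have hq := one_lt_q F
  let ρ : Γ →* Module.End F (Fin n → F) :=
    { toFun := fun s => lin (φ s)
      map_one' := by rw [map_one]; exact lin_one
      map_mul' := fun a b => by
        show Matrix.toLin' _ = Matrix.toLin' _ * Matrix.toLin' _
        rw [Module.End.mul_eq_comp, ← Matrix.toLin'_mul, map_mul]
        rfl }
  have hρ : Function.Injective ρ := fun a b hab => hφ (lin_injective hab)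
  refine H193.Dg.isCyclic_of_R hΓ ρ hρ (d := k) (fun j hj => (hr.dvd_iff hq.le j).1 hj) (by omega) (hr.ne0 (by omega)) ?_
  intro γ h1 h2
  exact (H449.Reg.elt_data (x := ρ γ) hr hk (by rwa [Fintype.card_fin]) (by rw [← map_pow, h1, map_one])
    (fun h3 => h2 (hρ (by rw [h3, map_one])))).2.1

theorem Spc.dvd_of (h : Spc Q m) {u : ℕ} (hu : Odd u) (hd : u ∣ oM (Fintype.card F) m) : u ∣ Nat.card (Og Q) := by
  obtain ⟨z, -, hz⟩ := h.ord
  have h1 : u ∣ Nat.gcd 4 (Fintype.card F ^ m + 1) * Nat.card (Og Q) := by rw [hz]; exact hd.mul_left _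
  refine Nat.Coprime.dvd_of_dvd_mul_left ?_ h1
  refine Nat.Coprime.coprime_dvd_right (Nat.gcd_dvd_left _ _) ?_
  exact Nat.Coprime.pow_right 2 (Nat.coprime_two_right.2 hu)

theorem sub_dvd_oM (q : ℕ) {i : ℕ} (h1 : 1 ≤ i) (h2 : i < m) : q ^ (2 * i) - 1 ∣ oM q m := by
  refine Dvd.dvd.mul_left ?_ _
  have h3 := Finset.dvd_prod_of_mem (fun i => q ^ (2 * (i + 1)) - 1) (a := i - 1) (s := Finset.range (m - 1))
    (Finset.mem_range.2 (by omega))
  rwa [show i - 1 + 1 = i by omega] at h3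

theorem Spc.pow_dvd (h : Spc Q m) (hr : PP (Nat.card F) k r) (he : Even k) (hk : 2 ≤ k) (hkm : k ≤ 2 * m) {a : ℕ}
    (hd : r ^ a ∣ Nat.card F ^ k - 1) : r ^ a ∣ Nat.card (Og Q) := by
  refine h.dvd_of ((hr.odd hk).pow) ?_
  rw [← ncard]
  obtain ⟨i, rfl⟩ := he
  have hq := one_lt_q F
  by_cases hi : i < m
  · rw [← two_mul] at hd
    exact hd.trans (sub_dvd_oM _ (by omega) hi)
  · have h1 : i = m := by omega
    subst h1
    have h2 : Nat.card F ^ (i + i) - 1 = (Nat.card F ^ i + 1) * (Nat.card F ^ i - 1) := by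
      rw [pow_add, ← Nat.sq_sub_sq, pow_two, one_pow]
    rw [h2] at hd
    have h3 : ¬ r ∣ Nat.card F ^ i - 1 := fun h4 => by
      have := Nat.le_of_dvd (by omega) ((hr.dvd_iff hq.le i).1 h4)
      omega
    have h4 := (Nat.Coprime.pow_left a ((Nat.Prime.coprime_iff_not_dvd hr.prime).2 h3)).dvd_of_dvd_mul_right hd
    exact (h4.mul_left _).mul_right _

theorem Spc.dvd_even (h : Spc Q m) (hr : PP (Nat.card F) k r) (he : Even k) (hk : 2 ≤ k) (hkm : k ≤ 2 * m) :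
    r ∣ Nat.card (Og Q) := by
  have := h.pow_dvd hr he hk hkm (a := 1) (by rw [pow_one]; exact (hr.dvd_iff (one_lt_q F).le k).2 dvd_rfl)
  rwa [pow_one] at this

theorem Spc.dvd_lt (h : Spc Q m) (hr : PP (Nat.card F) k r) (hk : 2 ≤ k) (hkm : k < m) : r ∣ Nat.card (Og Q) := by
  refine h.dvd_of (hr.odd hk) (Dvd.dvd.trans ?_ (sub_dvd_oM _ (i := k) (by omega) hkm))
  rw [← ncard]
  exact (hr.dvd_iff (one_lt_q F).le _).2 (dvd_mul_left _ _)

/-- a cyclic Sylow subgroup lies in one of the factors -/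
theorem Pr.side (h : Pr Q m X Y) (hr : PP (Nat.card F) k r) (hmk : m < k) {a : ℕ} (hd : r ^ a ∣ Nat.card (Og Q)) :
    r ^ a ∣ Nat.card X ∨ r ^ a ∣ Nat.card Y := by
  have h4 := h.four
  have hn := h.dim
  have hp : Ex78.Pd (X.subgroupOf (Og Q)) (Y.subgroupOf (Og Q)) := fun g => by
    obtain ⟨x, hx, y, hy, e⟩ := h.fac g g.2
    exact ⟨⟨x, h.leX hx⟩, hx, ⟨y, h.leY hy⟩, hy, Subtype.ext e⟩
  have key : ∀ Z : Subgroup (GL (Fin n) F), Z ≤ Og Q → ¬ r ∣ (Z.subgroupOf (Og Q)).index → r ^ a ∣ Nat.card Z := by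
    intro Z hZ h1
    rw [← (Z.subgroupOf (Og Q)).card_mul_index] at hd
    rw [← Nat.card_congr (Subgroup.subgroupOfEquivOfLe hZ).toEquiv]
    exact (Nat.Coprime.pow_left a ((Nat.Prime.coprime_iff_not_dvd hr.prime).2 h1)).dvd_of_dvd_mul_right hd
  refine (hp.cyc hr.prime fun P hP => cyc_gl hr (by omega) (n := n) (by omega) hP ((Og Q).subtype.comp P.subtype)
    ((Og Q).subtype_injective.comp P.subtype_injective)).imp (key X h.leX) (key Y h.leY)

theorem exists_pow (hr : PP (Nat.card F) k r) (hk : 2 ≤ k) (hn : n < 2 * k) {a : ℕ} (hd : r ^ a ∣ Nat.card X) :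
    ∃ g ∈ X, orderOf g = r ^ a := by
  have := Fact.mk hr.prime
  obtain ⟨P, hP⟩ := Sylow.exists_subgroup_card_pow_prime r hd
  have hc := cyc_gl hr hk hn (IsPGroup.of_card hP) (X.subtype.comp P.subtype) (X.subtype_injective.comp P.subtype_injective)
  obtain ⟨g, hg⟩ := hc.exists_ofOrder_eq_natCard
  refine ⟨((g : X) : GL (Fin n) F), (g : X).2, ?_⟩
  rw [Subgroup.orderOf_coe, Subgroup.orderOf_coe, hg, hP]

/-- a large power of a primitive prime divides `N` -/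
def Bg (F : Type) (k N : ℕ) : Prop :=
  ∃ p f r a : ℕ, p.Prime ∧ 1 ≤ f ∧ Nat.card F = p ^ f ∧ PP p (f * k) r ∧ 2 * k + 1 < r ^ a ∧ r ^ a ∣ (p ^ f) ^ k - 1 ∧ r ^ a ∣ N

theorem bg_zero (hk : 8 ≤ k) (he : Even k)
    (h2 : ¬ (Fintype.card F = 2 ∧ (k = 8 ∨ k = 10 ∨ k = 12 ∨ k = 18 ∨ k = 20))) (h3 : ¬ (Fintype.card F = 3 ∧ k = 18)) :
    Bg F k 0 := by
  obtain ⟨p, f, hp, hf, hF⟩ := exists_char F
  obtain ⟨r, hr⟩ := H951.Rl.exists_big hp hf (k := k) (by omega) (by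
    simp only [List.mem_cons, Prod.mk.injEq, List.not_mem_nil, or_false]
    rw [← ncard, hF] at h2 h3
    obtain ⟨c, hc⟩ := he
    rintro (h | h | h | h | h | h | h | h | h | h | h | h) <;> obtain ⟨rfl, rfl, h⟩ := h <;> omega)
  exact ⟨p, f, r, _, hp, hf, hF, ⟨hr.prime, hr.ord⟩, hr.big, hr.dvd, dvd_zero _⟩

theorem Bg.pp {N : ℕ} (h : Bg F k N) : ∃ r, PP (Nat.card F) k r ∧ r ∣ N := by
  obtain ⟨p, f, r, a, -, hf, hF, hr, hb, -, hd⟩ := h
  refine ⟨r, by rw [hF]; exact hr.of_pow hf, Dvd.dvd.trans (dvd_pow_self r ?_) hd⟩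
  rintro rfl
  rw [pow_zero] at hb
  omega

theorem Pr.bg (h : Pr Q m X Y) (he : Even k) (hmk : m < k) (hk : k ≤ 2 * m) (hb : Bg F k 0) :
    Bg F k (Nat.card X) ∨ Bg F k (Nat.card Y) := by
  obtain ⟨p, f, r, a, hp, hf, hF, hr, hb, hd, -⟩ := hb
  have h4 := h.four
  have hr' : PP (Nat.card F) k r := by rw [hF]; exact hr.of_pow hf
  exact (h.side hr' hmk (h.toSpc.pow_dvd hr' he (by omega) hk (by rwa [hF]))).imp
    (fun h1 => ⟨p, f, r, a, hp, hf, hF, hr, hb, hd, h1⟩) fun h1 => ⟨p, f, r, a, hp, hf, hF, hr, hb, hd, h1⟩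

/-- **the list lemma** -/
theorem list (hP : H659.CovCore.S5948Stmt.{0}) (h : Spc Q m) (hm : 5 ≤ m) (hX : X ≤ Og Q) (hn : ¬ Og Q ≤ X) (hmk : m < k)
    (hk : k ≤ 2 * m) (hb : Bg F k (Nat.card X)) : Red X ∨ Ext (Nat.gcd n k) X := by
  obtain ⟨p, f, r, a, hp, hf, hF, hr, hb, hd, hdX⟩ := hb
  have hd' := h.dim
  have hr' : PP (Nat.card F) k r := by rw [hF]; exact hr.of_pow hf
  obtain ⟨g, hg, ho⟩ := exists_pow hr' (by omega) (by omega) hdX
  have hnum := H449.Reg.num_of hp hf hr (n := n) (by omega) (by omega) (by omega) hb hd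
  rcases H449.Reg.og_iso hP (k := k) h.nd' (H := X) (fun x hx => Q_mv (hX hx)) hg
    (by rw [Fintype.card_fin, ho, ← ncard, hF]; exact hnum) with h1 | h1 | h1
  · exact Or.inl h1
  · rw [Fintype.card_fin] at h1
    exact Or.inr h1
  · exact absurd h1 hn

theorem fld_of_ext {d : ℕ} (hr : PP (Nat.card F) n r) (hd : r ∣ Nat.card X) (h : Ext d X) : Fld X := by
  obtain ⟨s, K, hs, -, hK, hX⟩ := h
  exact ⟨r, s, K, hr, hd, hs, hK, hX⟩

theorem Fld.not_red (h : Spc Q m) (hX : X ≤ Og Q) (hF : Fld X) : ¬ Red X := by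
  obtain ⟨r, -, -, hr, hd, -⟩ := hF
  exact Om.not_red h hX hr hd

theorem not_prime_big {s : ℕ} (hm : 2 ≤ m) (hs : s.Prime) (hd : s ∣ 2 * m) (h : m < s) : False := by
  obtain ⟨c, hc⟩ := hd
  have h1 : c = 1 := by
    rcases c with _ | _ | c
    · omega
    · rfl
    · nlinarith
  subst h1
  have := hs.eq_one_or_self_of_dvd 2 ⟨m, by omega⟩
  omega

/-- the order `k` is good -/
structure Gd (m k : ℕ) : Prop where
  even : Even k
  lt : m < k
  le : k ≤ 2 * m
  par : Odd (m + k / 2)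
  two : ∀ s, s.Prime → s ∣ 2 * m → s ∣ k → s = 2

theorem gd_two (hm : 4 ≤ m) : Gd m (2 * m - 2) :=
  ⟨⟨m - 1, by omega⟩, by omega, by omega, ⟨m - 1, by omega⟩, fun s hs h1 h2 => by
    have h3 := Nat.dvd_sub h1 h2
    rw [show 2 * m - (2 * m - 2) = 2 by omega] at h3
    exact (Nat.prime_dvd_prime_iff_eq hs Nat.prime_two).1 h3⟩

theorem gd_of (he : k % 2 = 0) (h1 : m < k) (h2 : k ≤ 2 * m) (h3 : (m + k / 2) % 2 = 1) (h4 : Nat.gcd (2 * m) k = 2) : Gd m k :=
  ⟨Nat.even_iff.2 he, h1, h2, Nat.odd_iff.2 h3, fun _ hs a b =>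
    (Nat.prime_dvd_prime_iff_eq hs Nat.prime_two).1 (h4 ▸ Nat.dvd_gcd a b)⟩

/-- the primes of a good order miss the field extension subgroup -/
theorem Fld.not_gd (h : Spc Q m) (hX : X ≤ Og Q) (hF : Fld X) (hk : Gd m k) {t : ℕ} (ht : PP (Nat.card F) k t) :
    ¬ t ∣ Nat.card X := by
  intro hd
  have hirr := hF.not_red h hX
  obtain ⟨r, s, K, hr, hrd, hs, hK, hXK⟩ := hF
  have h4 := h.four
  have hn := h.dim
  have h1 := hk.lt
  have hsn : s ∣ 2 * m := hn ▸ fld_dvd (by omega) hK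
  rcases fld_big ht (by omega) (by omega) hd hs hK hXK with h2 | h2
  · have := ht.lt (by omega)
    exact not_prime_big (by omega) hs hsn (by omega)
  · have h3 := hk.two s hs hsn h2
    subst h3
    refine fld_two h hX hirr hr ht (by rw [hn]; exact even_two_mul m) hk.even (by omega) h1 ?_ hrd hd hK hXK
    rw [hn, show 2 * m / 2 = m by omega]
    exact hk.par

/-- the odd order -/
def oe (m : ℕ) : ℕ := if Even m then m - 1 else m - 2

theorem oe_spec (hm : 4 ≤ m) : Odd (oe m) ∧ 3 ≤ oe m ∧ oe m < m ∧ m ≤ oe m + 2 ∧ ∀ s, s.Prime → s ∣ 2 * m → ¬ s ∣ oe m := by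
  have key : ∀ e c, Odd e → 2 * m = 2 * e + c → c ∣ 4 → ∀ s, s.Prime → s ∣ 2 * m → ¬ s ∣ e := by
    intro e c he h1 h2 s hs h3 h4
    have h5 : s ∣ c := (Nat.dvd_add_right (h4.mul_left 2)).1 (h1 ▸ h3)
    have h6 : s = 2 := (Nat.prime_dvd_prime_iff_eq hs Nat.prime_two).1 (hs.dvd_of_dvd_pow (n := 2) (h5.trans h2))
    subst h6
    exact (Nat.not_even_iff_odd.2 he) (even_iff_two_dvd.2 h4)
  unfold oe
  split_ifs with h
  · obtain ⟨c, hc⟩ := h
    have ho : Odd (m - 1) := ⟨c - 1, by omega⟩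
    exact ⟨ho, by omega, by omega, by omega, key _ 2 ho (by omega) (by norm_num)⟩
  · obtain ⟨c, hc⟩ := Nat.not_even_iff_odd.1 h
    have ho : Odd (m - 2) := ⟨c - 1, by omega⟩
    exact ⟨ho, by omega, by omega, by omega, key _ 4 ho (by omega) (by norm_num)⟩

/-- the primes of the odd order miss every field extension subgroup -/
theorem not_oe (h : Spc Q m) (hm : 5 ≤ m) (hX : X ≤ Og Q) {d : ℕ} (hE : Ext d X) {t : ℕ} (ht : PP (Nat.card F) (oe m) t) :
    ¬ t ∣ Nat.card X := by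
  intro hd
  obtain ⟨s, K, hs, -, hK, hXK⟩ := hE
  have hn := h.dim
  obtain ⟨h1, h2, h3, h4, h5⟩ := oe_spec h.four
  have hsn : s ∣ 2 * m := hn ▸ fld_dvd (by omega) hK
  rcases fld_odd h hX ht h1 h2 (by omega) hd hs hK hXK with h6 | h6
  · have h7 := Nat.le_of_dvd (by have := ht.prime.two_le; omega) (ht.two_mul_dvd h2 h1)
    exact not_prime_big (by omega) hs hsn (by omega)
  · exact h5 s hs hsn h6

theorem Fld.ext (hF : Fld X) : Ext 0 X := by
  obtain ⟨-, s, K, -, -, hs, hK, hXK⟩ := hF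
  exact ⟨s, K, hs, dvd_zero _, hK, hXK⟩

theorem two_le_q (F : Type) [Field F] [Fintype F] : 2 ≤ Nat.card F := one_lt_q F

namespace Pr

variable (h : Pr Q m X Y)
include h

theorem gd_right (hF : Fld X) (hk : Gd m k) {t : ℕ} (ht : PP (Nat.card F) k t) : t ∣ Nat.card Y :=
  (h.dvd ht.prime (h.toSpc.dvd_even ht hk.even (by have := hk.lt; have := h.four; omega) hk.le)).resolve_left
    (hF.not_gd h.toSpc h.leX hk ht)

theorem oe_right (hm : 5 ≤ m) (hF : Fld X) {t : ℕ} (ht : PP (Nat.card F) (oe m) t) : t ∣ Nat.card Y := by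
  obtain ⟨-, h2, h3, -⟩ := oe_spec h.four
  exact (h.dvd ht.prime (h.toSpc.dvd_lt ht (by omega) h3)).resolve_left (not_oe h.toSpc hm h.leX hF.ext ht)

theorem sm_of (hm : 5 ≤ m) (hF : Fld X) (hred : Red Y) : Sm Q Y := by
  obtain ⟨r, hr⟩ := exists_pp (q := Nat.card F) (e := 2 * m - 2) (two_le_q F) (by omega) (by omega)
  exact sm_of_red h.toSpc h.leY hr (h.gd_right hF (gd_two h.four) hr) hred

/-- the second factor is reducible -/
theorem sm_gen (hP : H659.CovCore.S5948Stmt.{0}) (hm : 5 ≤ m) (hF : Fld X) (hk : Gd m k) (hb : Bg F k 0) : Sm Q Y := by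
  refine h.sm_of hm hF ?_
  rcases h.bg hk.even hk.lt hk.le hb with h1 | h1
  · obtain ⟨t, ht, hd⟩ := h1.pp
    exact (hF.not_gd h.toSpc h.leX hk ht hd).elim
  · refine (list hP h.toSpc hm h.leY h.nY hk.lt hk.le h1).resolve_right fun h2 => ?_
    obtain ⟨h3, h4, -⟩ := oe_spec h.four
    obtain ⟨t, ht⟩ := exists_pp (q := Nat.card F) (e := oe m) (two_le_q F) h4 (by
      rintro ⟨-, h5⟩
      rw [h5] at h3
      exact absurd h3 (by decide))
    exact not_oe h.toSpc hm h.leY h2 ht (h.oe_right hm hF ht)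

/-- from `Fld X` to `Sm Q Y` -/
theorem sm (hP : H659.CovCore.S5948Stmt.{0}) (h14 : Box14) (hm : 5 ≤ m) (h5 : ¬ (Fintype.card F = 2 ∧ m ≤ 6)) (hF : Fld X) :
    Sm Q Y := by
  by_cases h7 : Fintype.card F = 2 ∧ m = 7
  · obtain ⟨hq, rfl⟩ := h7
    obtain rfl : n = 14 := h.dim
    have hq' : Nat.card F = 2 := by rw [ncard, hq]
    refine h.sm_of hm hF (h14 F Q Y h.toSpc h.leY h.nY hq ?_ ?_ ?_)
    · exact h.gd_right hF (k := 12) (gd_of rfl (by norm_num) (by norm_num) rfl rfl)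
        (by rw [hq']; exact ⟨by norm_num, by rw [orderOf_eq_iff (by norm_num)]; decide⟩)
    · exact h.gd_right hF (k := 8) (gd_of rfl (by norm_num) (by norm_num) rfl rfl)
        (by rw [hq']; exact ⟨by norm_num, by rw [orderOf_eq_iff (by norm_num)]; decide⟩)
    · exact h.oe_right hm hF (by
        rw [hq', show oe 7 = 5 by decide]; exact ⟨by norm_num, by rw [orderOf_eq_iff (by norm_num)]; decide⟩)
  by_cases h10 : m = 10
  · subst h10
    exact h.sm_gen hP hm hF (k := 14) (gd_of rfl (by norm_num) (by norm_num) rfl rfl)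
      (bg_zero (by norm_num) (by decide) (by omega) (by omega))
  by_cases h11 : m = 11
  · subst h11
    exact h.sm_gen hP hm hF (k := 16) (gd_of rfl (by norm_num) (by norm_num) rfl rfl)
      (bg_zero (by norm_num) (by decide) (by omega) (by omega))
  exact h.sm_gen hP hm hF (gd_two h.four) (bg_zero (by omega) ⟨m - 1, by omega⟩ (by omega) (by omega))

/-- a large element of order `r_n` -/
theorem fld_gen (hP : H659.CovCore.S5948Stmt.{0}) (hm : 5 ≤ m) (hb : Bg F (2 * m) (Nat.card X)) : Fld X := by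
  obtain ⟨r, hr, hd⟩ := hb.pp
  rw [← h.dim] at hr
  exact fld_of_ext hr hd ((list hP h.toSpc hm h.leX h.nX (by omega) le_rfl hb).resolve_left (not_red h.toSpc h.leX hr hd))

/-- small `r_n`: the large primes of the orders `16` and `14` lie in the other factor -/
theorem red_of (hP : H659.CovCore.S5948Stmt.{0}) (hm : m = 9 ∨ m = 10) (hr : PP (Nat.card F) n r) (hd : r ∣ Nat.card X)
    (hF : ¬ Fld X) : Red Y ∧ ∃ t, PP (Nat.card F) 16 t ∧ t ∣ Nat.card Y := by
  have key : ∀ k, k = 14 ∨ k = 16 → Bg F k (Nat.card Y) := by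
    intro k hk
    have he : Even k := by rcases hk with rfl | rfl <;> decide
    refine (h.bg he (by omega) (by omega) (bg_zero (by omega) he (by omega) (by omega))).resolve_left fun h1 => hF ?_
    exact fld_of_ext hr hd ((list hP h.toSpc (by omega) h.leX h.nX (by omega) (by omega) h1).resolve_left
      (not_red h.toSpc h.leX hr hd))
  obtain ⟨t, ht, htd⟩ := (key 16 (Or.inr rfl)).pp
  obtain ⟨u, hu, hud⟩ := (key 14 (Or.inl rfl)).pp
  refine ⟨?_, t, ht, htd⟩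
  by_contra hirr
  obtain ⟨s, K, hs, hsd, hK, hYK⟩ :=
    (list hP h.toSpc (by omega) h.leY h.nY (by omega) (by omega) (key 16 (Or.inr rfl))).resolve_left hirr
  have h2 : s = 2 := (Nat.prime_dvd_prime_iff_eq hs Nat.prime_two).1
    (hs.dvd_of_dvd_pow (n := 4) (hsd.trans (Nat.gcd_dvd_right _ _)))
  subst h2
  exact fld_two h.toSpc h.leY hirr ht hu (by decide) (by decide) (by omega) (by omega) (by decide) htd hud hK hYK

theorem fld_nine (hP : H659.CovCore.S5948Stmt.{0}) {q : ℕ} (hK : BoxK 9 q r) (hm : m = 9) (hq : Fintype.card F = q) (h3 : q ≤ 3)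
    (hr : PP q 18 r) (hd : r ∣ Nat.card X) : Fld X := by
  by_contra hF
  subst hm
  have hn : n = 18 := h.dim
  obtain ⟨h1, t, ht, htd⟩ := h.red_of hP (Or.inl rfl) (r := r) (by rw [ncard, hq, hn]; exact hr) hd hF
  exact hF (hK F n Q X Y h hq hd ((sm_of_red h.toSpc h.leY ht htd h1).pt (by omega) h.leY))

theorem fld_ten (hP : H659.CovCore.S5948Stmt.{0}) (hK : BoxK 10 2 41) (hK2 : BoxK2) (hm : m = 10) (hq : Fintype.card F = 2)
    (hd : 41 ∣ Nat.card X) : Fld X := by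
  by_contra hF
  subst hm
  have hn : n = 20 := h.dim
  have hq' : Nat.card F = 2 := by rw [ncard, hq]
  obtain ⟨h1, -⟩ := h.red_of hP (Or.inr rfl) (r := 41)
    (by rw [hq', hn]; exact ⟨by norm_num, by rw [orderOf_eq_iff (by norm_num)]; decide⟩) hd hF
  have h19 : PP (Nat.card F) (2 * 10 - 2) 19 := by
    rw [hq']; exact ⟨by norm_num, by rw [orderOf_eq_iff (by norm_num)]; decide⟩
  rcases h.dvd h19.prime (h.toSpc.dvd_even h19 (by decide) (by norm_num) (by norm_num)) with h2 | h2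
  · exact hF (hK2 F n Q X h.toSpc h.leX h.nX hq hd h2)
  · exact hF (hK F n Q X Y h hq hd ((sm_of_red h.toSpc h.leY h19 h2 h1).pt (by omega) h.leY))

/-- one of the factors is of extension field type -/
theorem fld (hP : H659.CovCore.S5948Stmt.{0}) (k1 : BoxK 9 2 19) (k2 : BoxK 9 3 37) (k3 : BoxK 10 2 41) (k4 : BoxK2)
    (hm : 5 ≤ m) (h5 : ¬ (Fintype.card F = 2 ∧ m ≤ 6)) : Fld X ∨ Fld Y := by
  have key : ∀ q r, Fintype.card F = q → PP q (2 * m) r → r ∣ Nat.card X ∨ r ∣ Nat.card Y := by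
    intro q r hq hr
    rw [← hq, ← ncard] at hr
    exact h.dvd hr.prime (h.toSpc.dvd_even hr (even_two_mul m) (by omega) le_rfl)
  by_cases h1 : Fintype.card F = 2 ∧ m = 9
  · have hr : PP 2 18 19 := ⟨by norm_num, by rw [orderOf_eq_iff (by norm_num)]; decide⟩
    exact (key 2 19 h1.1 (by rw [h1.2]; exact hr)).imp (h.fld_nine hP k1 h1.2 h1.1 (by norm_num) hr)
      (h.symm.fld_nine hP k1 h1.2 h1.1 (by norm_num) hr)
  by_cases h2 : Fintype.card F = 3 ∧ m = 9
  · have hr : PP 3 18 37 := ⟨by norm_num, by rw [orderOf_eq_iff (by norm_num)]; decide⟩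
    exact (key 3 37 h2.1 (by rw [h2.2]; exact hr)).imp (h.fld_nine hP k2 h2.2 h2.1 (by norm_num) hr)
      (h.symm.fld_nine hP k2 h2.2 h2.1 (by norm_num) hr)
  by_cases h3 : Fintype.card F = 2 ∧ m = 10
  · have hr : PP 2 20 41 := ⟨by norm_num, by rw [orderOf_eq_iff (by norm_num)]; decide⟩
    exact (key 2 41 h3.1 (by rw [h3.2]; exact hr)).imp (h.fld_ten hP k3 k4 h3.2 h3.1) (h.symm.fld_ten hP k3 k4 h3.2 h3.1)
  exact (h.bg (even_two_mul m) (by omega) le_rfl (bg_zero (by omega) (even_two_mul m) (by omega) (by omega))).imp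
    (h.fld_gen hP hm) (h.symm.fld_gen hP hm)

end Pr

/-! ### the list -/

variable {T B : Subgroup (GL (Fin n) F)}

/-- `T` is perfect modulo scalars -/
theorem Ln.exists_comm (h : Ln Q m T B) {t : GL (Fin n) F} (ht : t ∈ T) : ∃ c ∈ ⁅T, T⁆, c⁻¹ * t ∈ scalars (Fin n) F := by
  have := h.simple
  have h1 : commutator (H915.LD.Soc T) = ⊤ := by
    refine (Subgroup.Normal.eq_bot_or_eq_top inferInstance).resolve_left fun h0 => h.nab ⟨⟨fun a b => ?_⟩⟩
    have h2 : ⁅a, b⁆ ∈ commutator (H915.LD.Soc T) := Subgroup.commutator_mem_commutator (Subgroup.mem_top _) (Subgroup.mem_top _)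
    rw [h0, Subgroup.mem_bot] at h2
    exact commutatorElement_eq_one_iff_mul_comm.1 h2
  have h2 : (commutator T).map (QuotientGroup.mk' ((scalars (Fin n) F).subgroupOf T)) = ⊤ := by
    rw [map_commutator_eq, MonoidHom.range_eq_top.2 (QuotientGroup.mk'_surjective _)]
    exact h1
  obtain ⟨c, hc, e⟩ : QuotientGroup.mk' ((scalars (Fin n) F).subgroupOf T) ⟨t, ht⟩ ∈
      (commutator T).map (QuotientGroup.mk' ((scalars (Fin n) F).subgroupOf T)) := by rw [h2]; exact Subgroup.mem_top _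
  refine ⟨c, ?_, (QuotientGroup.eq (s := (scalars (Fin n) F).subgroupOf T)).1 e⟩
  rw [← Subgroup.map_subtype_commutator]
  exact ⟨c, hc, rfl⟩

theorem scalar_two (hq : Fintype.card F = 2) {g : GL (Fin n) F} (hg : g ∈ scalars (Fin n) F) : g = 1 := by
  obtain ⟨c, rfl⟩ := hg
  have h1 : (c : F) = 1 := by
    have := FiniteField.pow_card_sub_one_eq_one (c : F) c.ne_zero
    rwa [hq, pow_one] at this
  rw [Units.val_eq_one.1 h1, map_one]

theorem Ln.perfect (h : Ln Q m T B) (hq : Fintype.card F = 2) : T ≤ ⁅T, T⁆ := fun t ht => by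
  obtain ⟨c, hc, h1⟩ := h.exists_comm ht
  rwa [← inv_mul_eq_one.1 (scalar_two hq h1)]

/-- the outcome -/
def Out (Q : QuadraticForm F (Fin n → F)) (T B : Subgroup (GL (Fin n) F)) : Prop :=
  (Fld T ∧ Sm Q B) ∨ (Sm Q T ∧ (Fld B ∨ (Fintype.card F = 2 ∧ NoNs Q T))) ∨
    (n = 10 ∧ Fintype.card F = 2 ∧ Sm Q B ∧ NoNs Q B ∧ ∃ P, T ≤ P ∧ P ≤ Og Q ∧ Nonempty (P ≃* alternatingGroup (Fin 12)))

/-- the boxes of the list -/
structure LBx : Prop where
  p : H659.CovCore.S5948Stmt.{0}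
  b8 : Box8
  b82 : Box82
  b10 : Box10
  b12 : Box12
  b14 : Box14
  k1 : BoxK 9 2 19
  k2 : BoxK 9 3 37
  k3 : BoxK 10 2 41
  k4 : BoxK2

/-- **the list of the factorisations** -/
theorem Ln.out (b : LBx) (h : Ln Q m T B) : Out Q T B := by
  have key : (Fld T ∧ Sm Q B) ∨ (Fld B ∧ Sm Q T) → Out Q T B := fun k =>
    k.elim Or.inl fun k => Or.inr (Or.inl ⟨k.2, Or.inl k.1⟩)
  have h4 := h.four
  have hq2 : 1 < Fintype.card F := Fintype.one_lt_card
  by_cases hm : m = 4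
  · subst hm
    obtain rfl : n = 8 := h.dim
    by_cases hq : Fintype.card F = 2
    · exact key (b.b82 F Q T B h hq)
    · exact key (b.b8 F Q T B h.toPr (by omega))
  by_cases h5 : Fintype.card F = 2 ∧ m = 5
  · obtain ⟨hq, rfl⟩ := h5
    obtain rfl : n = 10 := h.dim
    have hr : PP (Nat.card F) 10 11 := by
      rw [ncard, hq]; exact ⟨by norm_num, by rw [orderOf_eq_iff (by norm_num)]; decide⟩
    rcases h.toPr.dvd hr.prime (h.toSpc.dvd_even hr (by decide) (by norm_num) (by norm_num)) with h1 | h1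
    · obtain ⟨h2, h3 | ⟨h3, P, h5, h6⟩⟩ := b.b10 F Q T B h.toPr hq h1
      · exact Or.inl ⟨h3, h2⟩
      · exact Or.inr (Or.inr ⟨rfl, hq, h2, h3, P, (h.perfect hq).trans h5, h6⟩)
    · obtain ⟨h2, h3⟩ := b.b10 F Q B T h.toPr.symm hq h1
      exact Or.inr (Or.inl ⟨h2, h3.imp id fun h5 => ⟨hq, h5.1⟩⟩)
  by_cases h6 : Fintype.card F = 2 ∧ m = 6
  · obtain ⟨hq, rfl⟩ := h6
    obtain rfl : n = 12 := h.dim
    have hr : PP (Nat.card F) 12 13 := by
      rw [ncard, hq]; exact ⟨by norm_num, by rw [orderOf_eq_iff (by norm_num)]; decide⟩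
    exact key ((h.toPr.dvd hr.prime (h.toSpc.dvd_even hr (by decide) (by norm_num) (by norm_num))).imp
      (b.b12 F Q T B h.toPr hq) (b.b12 F Q B T h.toPr.symm hq))
  exact key ((h.toPr.fld b.p b.k1 b.k2 b.k3 b.k4 (by omega) (by omega)).imp
    (fun k => ⟨k, h.toPr.sm b.p b.b14 (by omega) (by omega) k⟩) fun k => ⟨k, h.toPr.symm.sm b.p b.b14 (by omega) (by omega) k⟩)

end Cfsg.Agent.SM.Om
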