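import Cfsg.Agent.SM.Om.Twelve
import Cfsg.Agent.SM.Om.Gen
import Cfsg.Agent.S5850
import Cfsg.Agent.S5851

/-!
# SM (S3570), socle `Ω⁻₁₀(2)`: `box10b_of` (helper87)
-/

set_option autoImplicit false
set_option linter.unusedSectionVars false

namespace Cfsg.Agent.SM.Om

open Module QuadraticMap Cfsg Cfsg.Geo Cfsg.Agent.LieClassical.OrthCore Cfsg.Agent.LieClassical.OrthTrans
  Cfsg.Agent.H955 Cfsg.Agent.H884.El Cfsg.Agent.H954.TSing
open Cfsg.Agent.H951 (fx cm Inv)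
open Cfsg.Agent.H278.Cov (Red Ext)
open Tw (pp11 pp17 exists_max)
open scoped MatrixGroups Matrix

namespace TnB

variable {F : Type} [Field F] [Fintype F] {Q : QuadraticForm F (Fin 10 → F)} {X Y Z H P : Subgroup (GL (Fin 10) F)}

theorem red_of {W : Submodule F (Fin 10 → F)} (hH : H < Og Q) (e : H = St W ⊓ Og Q) : Red H := by
  refine ⟨W, ?_, ?_, e.le.trans inf_le_left⟩
  · rintro rfl
    refine hH.not_ge (e.ge.trans' (le_inf (fun g _ => mem_St.2 fun w hw => ?_) le_rfl))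
    rw [(Submodule.mem_bot F).1 hw, Matrix.mulVec_zero]
    exact Submodule.zero_mem _
  · rintro rfl
    exact hH.not_ge (e.ge.trans' (le_inf (fun g _ => mem_St.2 fun w _ => Submodule.mem_top) le_rfl))

/-- a quadratic field which acts by similarities -/
def Un (Q : QuadraticForm F (Fin 10 → F)) (Z : Subgroup (GL (Fin 10) F)) : Prop :=
  ∃ K : Subalgebra F (Matrix (Fin 10) (Fin 10) F), IsFieldSubalgebra 2 K ∧ Z ≤ subalgebraNormalizer K ∧
    ∀ k ∈ K, ∃ c : F, ∀ v, Q (k *ᵥ v) = c * Q v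

theorem Un.no17 (hF : Fintype.card F = 2) (h : Spc Q 5) (hZ : Z ≤ Og Q) (hU : Un Q Z) : ¬ 17 ∣ Nat.card Z := by
  intro hd
  obtain ⟨K, hK, hle, hs⟩ := hU
  have hr := pp17 hF
  obtain ⟨g, hg, hiso, hgr, hg1⟩ := exists_elt (Q := Q) (hZ.trans og_le) hr (by omega) hd
  have hc := comm_field Nat.prime_two hK (hle hg) hr.prime (by omega) hgr
  obtain ⟨hcm, -⟩ := hiso.even_case h.nd (lin_ne_one hg1) hr (by decide) (by rw [h.finrank_V]; omega)
  have a5 := hiso.finrank_add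
  rw [h.finrank_V] at a5
  have hfx : finrank F (fx (lin g)) = 2 := by omega
  have := Fact.mk hiso.prime
  obtain ⟨e, f, hef, hD⟩ := hyp_of_plus hfx (nondeg_fx h.nd hiso.iso hiso.ne0 hiso.pow) (by
    rw [isPlus_fx_iff hiso.two_lt h.nd (by rw [h.finrank_V]; exact even_two_mul 5) hiso.iso hiso.ne0 hiso.pow (ord_eq hr)
      (by decide) (A := 1) (by rw [hcm, mul_one])]
    exact ⟨fun h5 => absurd h5 h.minus, fun h5 => absurd h5 (by decide)⟩)
  obtain ⟨y, hy, ns⟩ := exists_not_scalar le_rfl hK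
  have he : (g : Matrix (Fin 10) (Fin 10) F) *ᵥ e = e := H951.mem_fx.1 (hD.ge (Submodule.subset_span (Set.mem_insert _ _)))
  have h1 : y *ᵥ e ∈ Submodule.span F {e, f} := hD.le (H951.mem_fx.2 (by
    change (g : Matrix (Fin 10) (Fin 10) F) *ᵥ (y *ᵥ e) = _
    rw [Matrix.mulVec_mulVec, hc y hy, ← Matrix.mulVec_mulVec, he]))
  obtain ⟨a, b, hab⟩ := Submodule.mem_span_pair.1 h1
  obtain ⟨c, h2⟩ := hs y hy
  obtain ⟨d, h3⟩ := hs (y + 1) (K.add_mem hy K.one_mem)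
  have h4 := h2 e
  have h5 := h3 e
  rw [← hab, Q_pair hef, hef.left, mul_zero] at h4
  rw [Matrix.add_mulVec, Matrix.one_mulVec, ← hab, show a • e + b • f + e = (a + 1) • e + b • f by module, Q_pair hef, hef.left,
    mul_zero, add_mul, h4, zero_add, one_mul] at h5
  rw [h5, zero_smul, add_zero] at hab
  exact ns a (fld_scalar hK hy hef.left_ne hab.symm)

/-- `H` lies between `A₁₂` and `S₁₂` -/
structure Al (H P : Subgroup (GL (Fin 10) F)) : Prop where
  le : P ≤ H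
  iso : Nonempty (P ≃* alternatingGroup (Fin 12))
  comm : ⁅H, H⁆ ≤ P
  emb : ∃ f : H →* Equiv.Perm (Fin 12), Function.Injective f ∧ (f.range.index = 1 ∨ f.range.index = 2)

theorem al_of (hF : Fintype.card F = 2) (hc : IsResidualCore H P)
    (e : (P ⧸ (scalars (Fin 10) F).subgroupOf P) ≃* alternatingGroup (Fin 12)) : Al H P := by
  obtain ⟨f, hf⟩ := H989.Cov.res_hom hF hc e
  have h0 : (scalars (Fin 10) F).subgroupOf P = ⊥ := by rw [H989.Cov.scalars_bot hF, Subgroup.bot_subgroupOf]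
  have e1 : P ≃* alternatingGroup (Fin 12) := ((QuotientGroup.quotientBot (G := P)).symm.trans
    (QuotientGroup.quotientMulEquivOfEq h0.symm)).trans e
  let c := MulEquiv.ofBijective _ (S2119.result 12 (by norm_num) (by norm_num))
  have hi : Function.Injective (c.symm.toMonoidHom.comp f) := c.symm.injective.comp hf
  have h1 := (c.symm.toMonoidHom.comp f).range.card_mul_index
  have h2 := (P.subgroupOf H).card_mul_index
  rw [Nat.card_congr ((Subgroup.subgroupOfEquivOfLe hc.le).trans e1).toEquiv] at h2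
  rw [← Nat.card_congr (MonoidHom.ofInjective hi).toEquiv, ← two_mul_nat_card_alternatingGroup, ← h2, mul_assoc, mul_comm 2] at h1
  have h3 := Nat.eq_of_mul_eq_mul_left Nat.card_pos h1
  refine ⟨hc.le, ⟨e1⟩, ?_, _, hi, (Nat.dvd_prime Nat.prime_two).1 (Dvd.intro_left _ h3)⟩
  have hN : (P.subgroupOf H).Normal := ⟨fun x hx g => hc.normal g g.2 x hx⟩
  have h4 : IsCyclic (H ⧸ P.subgroupOf H) := isCyclic_of_card_dvd_prime (p := 2) (Dvd.intro _ h3)
  have h5 := Subgroup.Normal.quotient_commutative_iff_commutator_le.1 h4.isMulCommutative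
  exact Subgroup.commutator_le.2 fun x hx y hy =>
    h5 (Subgroup.commutator_mem_commutator (Subgroup.mem_top (⟨x, hx⟩ : H)) (Subgroup.mem_top (⟨y, hy⟩ : H)))

theorem Al.no17 (h : Al H P) (hZ : Z ≤ H) : ¬ 17 ∣ Nat.card Z := by
  obtain ⟨f, hf, -⟩ := h.emb
  have h1 := (Subgroup.card_dvd_of_le hZ).trans (Subgroup.card_dvd_of_injective f hf)
  rw [Nat.card_perm, Nat.card_fin] at h1
  exact fun k => absurd (k.trans h1) (by decide)

theorem Al.kill (h : Al H P) {N : ℕ} (hN : NoIdx 12 N) (S : Subgroup (GL (Fin 10) F)) : S.relIndex H ≠ N := by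
  obtain ⟨f, hf, h1⟩ := h.emb
  intro e
  have h2 := (S.subgroupOf H).index_map_of_injective hf
  rw [show (S.subgroupOf H).index = N from e] at h2
  rcases h1 with h1 | h1
  · exact (hN _).1 (by rw [h2, h1, mul_one])
  · exact (hN _).2 (by rw [h2, h1, mul_comm])

theorem cases (hF : Fintype.card F = 2) (h : Spc Q 5) (hZ : Z ≤ Og Q) (hn : ¬ Og Q ≤ Z) {d r : ℕ} (hr : PP (Nat.card F) d r)
    (hd : 5 < d) (hrZ : r ∣ Nat.card Z) : Red Z ∨ Un Q Z ∨ ∃ H P, Z ≤ H ∧ H < Og Q ∧ Al H P := by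
  obtain ⟨H, hH, hZH⟩ := exists_max (lt_of_le_of_ne hZ fun e => hn e.ge)
  have red : ∀ W : Submodule F (Fin 10 → F), H = St W ⊓ Og Q → Red Z := fun W e => by
    obtain ⟨U, h1, h2, h3⟩ := red_of hH.1 e
    exact ⟨U, h1, h2, hZH.trans h3⟩
  rcases S5850.result ⇑Q h.nd' h.minus' H hH with ⟨W, -, -, e⟩ | ⟨-, W, -, -, -, -, -, e⟩ | ⟨W, -, -, -, e⟩ | ⟨-, W, -, -, -, e⟩ |
    ⟨W, -, -, e⟩ | ⟨-, v, -, e⟩ | ⟨⟨p, -, h1, h2⟩, -⟩ | ⟨-, D, h1, e⟩ | ⟨h1, -⟩ | ⟨h1, -⟩ | ⟨h1, -⟩ | ⟨K, h1, -, -, h2, e⟩ |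
    ⟨F₀, s, _, _, hs, -, h1, -⟩ | hc
  iterate 6 exact Or.inl (red _ e)
  · omega
  · have h5 := decomp_le h1.decomp.decomp (hZH.trans (e.le.trans inf_le_left)) hr (by omega) hrZ
    have h6 := hr.lt (by omega)
    omega
  · omega
  · omega
  · exact absurd h1 (by rw [hF]; decide)
  · exact Or.inr (Or.inl ⟨K, h1, hZH.trans (e.le.trans inf_le_left), h2⟩)
  · rw [hF] at h1
    exact (Nat.Prime.not_prime_pow hs.two_le (h1 ▸ Nat.prime_two)).elim
  · obtain ⟨P, hP, k | k | k | k | k⟩ := S5851.result ⇑Q h.nd' h.minus' H hH hc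
    · exact absurd hF k.2.2.1
    · omega
    · exact absurd hF k.2.2.1
    · obtain ⟨⟨e⟩, -⟩ := k
      exact Or.inr (Or.inr ⟨H, P, hZH, hH.1, al_of hF hP e⟩)
    · omega

end TnB

open TnB in
theorem box10b_of (hA : BoxAlt) (hI : BoxIdx) : Box10 := by
  intro F _ _ Q X Y h hF h11
  have hs := h.toSpc
  have sm : ¬ 17 ∣ Nat.card X → Sm Q Y := fun a => by
    have h17 : 17 ∣ Nat.card Y := (h.dvd (by norm_num) (hs.dvd_even (pp17 hF) (by decide) (by norm_num) (by norm_num))).resolve_left a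
    refine sm_of_red hs h.leY (pp17 hF) h17 ?_
    rcases cases hF hs h.leY h.nY (pp17 hF) (by norm_num) h17 with h1 | h1 | ⟨H, P, h1, -, h2⟩
    · exact h1
    · exact absurd h17 (h1.no17 hF hs h.leY)
    · exact absurd h17 (h2.no17 h1)
  rcases cases hF hs h.leX h.nX (pp11 hF) (by norm_num) h11 with h1 | h1 | ⟨H, P, h1, h2, h3⟩
  · exact absurd h1 (not_red hs h.leX (pp11 hF) h11)
  · refine ⟨sm (h1.no17 hF hs h.leX), Or.inl ?_⟩
    obtain ⟨K, k1, k2, -⟩ := h1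
    exact ⟨11, 2, K, pp11 hF, h11, Nat.prime_two, k1, k2⟩
  · refine ⟨sm (h3.no17 h1), Or.inr ⟨fun v hv hY => ?_, P, (Subgroup.commutator_mono h1 h1).trans h3.comm, h3.le.trans h2.le, h3.iso⟩⟩
    have h4 := (hI F 10 5 Q v hs fun h0 => hv (by rw [h0, QuadraticMap.map_zero])).2 hv
    rw [hF] at h4
    refine h3.kill hA.1 (St (F ∙ v)) ((relIndex_of_fac h2.le (fun g hg => ?_) hY).trans (by norm_num at h4; exact h4))
    obtain ⟨x, hx, y, hy, e⟩ := h.fac g hg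
    exact ⟨x, h1 hx, y, hy, e⟩

end Cfsg.Agent.SM.Om
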