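import Cfsg.Agent.SM.Defs

/-!
# SM (S3570), socle `PΩ⁻_{2m}(q)`: the table (helper87)

Only `A₁₂` and `M₁₂` (and possibly `M₁₁`) in `Ω⁻₁₀(2)` on the `495` singular points.
-/

set_option autoImplicit false

namespace Cfsg.Agent.SM.Om

/-- the rows of the family `fM` -/
def tabM : Tab := fun t n k => n = 495 ∧ (t = 239500800 ∨ t = 95040) ∧ k = 2

end Cfsg.Agent.SM.Om
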