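import Cfsg.Agent.SM.Om.Defs
import Cfsg.Agent.H748.JordanTwoPower
import Cfsg.Agent.H529.TwoCycles
import Cfsg.Agent.S0713

/-!
# SM (S3570): subgroups of small index of symmetric groups, `boxAlt` (helper6)
-/

set_option autoImplicit false

namespace Cfsg.Agent.SM.Om.Al

open Equiv Equiv.Perm MulAction

variable {α : Type} [Fintype α] [DecidableEq α]

omit [Fintype α] [DecidableEq α] in
theorem inv_iff {U : Subgroup (Perm α)} {Γ : Finset α} (h : ∀ g ∈ U, ∀ x ∈ Γ, g x ∈ Γ) (g : U) (x : α) :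
    (g : Perm α) x ∈ Γ ↔ x ∈ Γ :=
  ⟨fun k => by simpa using h _ (U.inv_mem g.2) _ k, h g g.2 x⟩

/-- the restriction to an invariant set -/
def res {U : Subgroup (Perm α)} {Γ : Finset α} (h : ∀ g ∈ U, ∀ x ∈ Γ, g x ∈ Γ) : U →* Perm {x // x ∈ Γ} :=
  MonoidHom.mk' (fun g => (g : Perm α).subtypePerm (inv_iff h g)) fun _ _ => rfl

/-- a cycle of prime length on the invariant set -/
theorem exists_cycle {U : Subgroup (Perm α)} {Γ : Finset α} (h : ∀ g ∈ U, ∀ x ∈ Γ, g x ∈ Γ) {l : ℕ} (hl : l.Prime)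
    (hd : l ∣ Nat.card U) (h1 : Fintype.card α < l + Γ.card) (h2 : Γ.card < 2 * l) :
    ∃ g ∈ (res h).range, g.IsCycle ∧ g.support.card = l := by
  have : Fact l.Prime := ⟨hl⟩
  obtain ⟨g, hg⟩ := exists_prime_orderOf_dvd_card' l hd
  have h3 : orderOf (res h g) = l := ((Nat.dvd_prime hl).1 (hg ▸ orderOf_map_dvd (res h) g)).resolve_left fun e => by
    have h4 : (g : Perm α).support ⊆ Γᶜ := fun x hx => Finset.mem_compl.2 fun k =>
      mem_support.1 hx (congrArg (fun σ : Perm {x // x ∈ Γ} => (σ ⟨x, k⟩ : α)) (orderOf_eq_one_iff.1 e))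
    have h5 := Finset.card_le_card h4
    rw [← Subgroup.orderOf_coe] at hg
    obtain ⟨n, hn⟩ := cycleType_prime_order (σ := (g : Perm α)) (hg ▸ hl)
    rw [Finset.card_compl, ← sum_cycleType, hn, Multiset.sum_replicate, hg, smul_eq_mul, Nat.succ_mul] at h5
    have := Finset.card_le_univ Γ
    omega
  have h4 := isCycle_of_prime_order' (σ := res h g) (h3 ▸ hl) (by rwa [h3, Fintype.card_coe])
  exact ⟨_, ⟨g, rfl⟩, h4, h4.orderOf.symm.trans h3⟩

/-- **The big orbit.** -/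
theorem exists_orb (U : Subgroup (Perm α)) {p : ℕ} (hp : p.Prime) (hd : p ∣ Nat.card U) (hc : Fintype.card α < 2 * p) :
    ∃ (Γ : Finset α) (h : ∀ g ∈ U, ∀ x ∈ Γ, g x ∈ Γ), p ≤ Γ.card ∧ IsPreprimitive (res h).range {x // x ∈ Γ} ∧
      ∀ l : ℕ, l.Prime → l ∣ Nat.card U → Fintype.card α < l + Γ.card → Γ.card < 2 * l → l + 3 ≤ Γ.card →
        alternatingGroup {x // x ∈ Γ} ≤ (res h).range := by
  classical
  have : Fact p.Prime := ⟨hp⟩
  obtain ⟨g, hg⟩ := exists_prime_orderOf_dvd_card' p hd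
  rw [← Subgroup.orderOf_coe] at hg
  have h1 := isCycle_of_prime_order' (σ := (g : Perm α)) (hg ▸ hp) (hg ▸ hc)
  obtain ⟨x, -, hx⟩ := id h1
  let Γ : Finset α := Finset.univ.filter fun y => ∃ u ∈ U, u x = y
  have hΓ : ∀ y, y ∈ Γ ↔ ∃ u ∈ U, u x = y := fun y => Finset.mem_filter_univ y
  have h : ∀ g ∈ U, ∀ x ∈ Γ, g x ∈ Γ := fun u hu y hy => by
    obtain ⟨v, hv, rfl⟩ := (hΓ y).1 hy
    exact (hΓ _).2 ⟨u * v, U.mul_mem hu hv, rfl⟩
  have h2 : p ≤ Γ.card := by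
    rw [← hg, h1.orderOf]
    refine Finset.card_le_card fun y hy => ?_
    obtain ⟨i, hi⟩ := hx (mem_support.1 hy)
    exact (hΓ y).2 ⟨_, U.zpow_mem g.2 i, hi⟩
  have h3 : IsPretransitive (res h).range {x // x ∈ Γ} := ⟨fun y z => by
    obtain ⟨u, hu, e⟩ := (hΓ y).1 y.2
    obtain ⟨v, hv, e'⟩ := (hΓ z).1 z.2
    refine ⟨⟨_, ⟨v * u⁻¹, U.mul_mem hv (U.inv_mem hu)⟩, rfl⟩, Subtype.ext ?_⟩
    show v (u⁻¹ y) = z
    rw [← e', ← e]
    exact congrArg v (u.symm_apply_apply x)⟩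
  have h4 := Finset.card_le_univ Γ
  obtain ⟨y, hy, h5, h6⟩ := exists_cycle h hp hd (by omega) (by omega)
  have h7 := H529.TwoCycles.isPreprimitive_of_cycle hp h5 h6 (by rw [Fintype.card_coe]; omega) h3 hy
  refine ⟨Γ, h, h2, h7, fun l hl k1 k2 k3 k4 => ?_⟩
  obtain ⟨z, hz, k5, k6⟩ := exists_cycle h hl k1 k2 k3
  have := hl.two_le
  exact S0713.result _ h7 hl (by rw [Fintype.card_coe]; omega) (by rwa [Fintype.card_coe]) k5 k6 hz

theorem fact_dvd {U : Subgroup (Perm α)} {Γ : Finset α} {h : ∀ g ∈ U, ∀ x ∈ Γ, g x ∈ Γ} (h2 : 2 ≤ Γ.card)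
    (hA : alternatingGroup {x // x ∈ Γ} ≤ (res h).range) : Γ.card.factorial ∣ 2 * Nat.card U := by
  have : Nontrivial {x // x ∈ Γ} := Fintype.one_lt_card_iff_nontrivial.1 (by rwa [Fintype.card_coe])
  have h1 := two_mul_nat_card_alternatingGroup (α := {x // x ∈ Γ})
  rw [Nat.card_perm, Nat.card_eq_fintype_card (α := {x // x ∈ Γ}), Fintype.card_coe] at h1
  rw [← h1]
  exact Nat.mul_dvd_mul_left 2 ((Subgroup.card_dvd_of_le hA).trans (Subgroup.card_range_dvd _))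

/-- the arithmetic of one orbit length -/
def Kill (c I a : ℕ) : Prop :=
  ¬ c.choose a ∣ I ∨ ∃ l ∈ [5, 7, 11, 13], l ∣ c.factorial / I ∧ c < l + a ∧ a < 2 * l ∧ l + 3 ≤ a ∧
    ¬ a.factorial ∣ 2 * (c.factorial / I)

instance (c I a : ℕ) : Decidable (Kill c I a) := inferInstanceAs (Decidable (_ ∨ _))

theorem exists_len {c p : ℕ} (U : Subgroup (Perm (Fin c))) (hp : p.Prime) (hd : p ∣ c.factorial / U.index)
    (hc : c < 2 * p) : ∃ Γ : Finset (Fin c), (∀ g ∈ U, ∀ x ∈ Γ, g x ∈ Γ) ∧ p ≤ Γ.card ∧ Γ.card < c + 1 ∧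
      ¬ Kill c U.index Γ.card := by
  have h1 : c.factorial / U.index = Nat.card U := by
    have h2 := U.index_mul_card
    rw [Nat.card_perm, Nat.card_eq_fintype_card (α := Fin c), Fintype.card_fin] at h2
    rw [← h2, Nat.mul_div_cancel_left _ (Nat.pos_of_ne_zero Subgroup.index_ne_zero_of_finite)]
  obtain ⟨Γ, h, h2, -, h3⟩ := exists_orb U hp (h1 ▸ hd) (by rwa [Fintype.card_fin])
  refine ⟨Γ, h, h2, Nat.lt_succ_of_le ((Finset.card_le_univ Γ).trans (Fintype.card_fin c).le), ?_⟩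
  rintro (k | ⟨l, hl, k1, k2, k3, k4, k5⟩)
  · exact k (H748.JordanTwoPower.choose_dvd_index Γ h)
  · rw [h1] at k1 k5
    exact k5 (fact_dvd (by omega) (h3 l ((by decide : ∀ l ∈ [5, 7, 11, 13], l.Prime) l hl) k1
      (by rwa [Fintype.card_fin]) k3 k4))

theorem ne_of {c p I : ℕ} (hp : p.Prime) (hd : p ∣ c.factorial / I) (hc : c < 2 * p)
    (h : ∀ a < c + 1, p ≤ a → Kill c I a) (U : Subgroup (Perm (Fin c))) : U.index ≠ I := by
  rintro rfl
  obtain ⟨Γ, -, h1, h2, h3⟩ := exists_len U hp hd hc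
  exact h3 (h _ h2 h1)

theorem noIdx_of {c N : ℕ} (p : ℕ) (hp : p.Prime) (hc : c < 2 * p)
    (h : ∀ I ∈ [N, 2 * N], p ∣ c.factorial / I ∧ ∀ a < c + 1, p ≤ a → Kill c I a) : NoIdx c N := fun U =>
  ⟨ne_of hp (h _ (by simp)).1 hc (h _ (by simp)).2 U, ne_of hp (h _ (by simp)).1 hc (h _ (by simp)).2 U⟩

end Cfsg.Agent.SM.Om.Al

namespace Cfsg.Agent.SM.Om

theorem boxAlt : BoxAlt :=
  ⟨Al.noIdx_of 7 (by norm_num) (by norm_num) (by decide +kernel), Al.noIdx_of 7 (by norm_num) (by norm_num) (by decide +kernel),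
    Al.noIdx_of 7 (by norm_num) (by norm_num) (by decide +kernel),
    Al.noIdx_of 17 (by norm_num) (by norm_num) (by decide +kernel),
    Al.noIdx_of 13 (by norm_num) (by norm_num) (by decide +kernel),
    Al.noIdx_of 17 (by norm_num) (by norm_num) (by decide +kernel),
    Al.noIdx_of 13 (by norm_num) (by norm_num) (by decide +kernel)⟩

end Cfsg.Agent.SM.Om
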