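import Cfsg.Agent.SM.Om.Defs
import Cfsg.Agent.SM.Ex78.Base
import Cfsg.Agent.H975.Cov.Main

/-!
# SM (S3570), socle `PΩ⁻₈(q)`, `q ≥ 3`: the box `Box8` (helper44)
-/

set_option autoImplicit false
set_option linter.unusedSectionVars false

namespace Cfsg.Agent.SM.Om.E8

open Module QuadraticMap Cfsg Cfsg.Geo Cfsg.Agent.LieClassical.OrthCore Cfsg.Agent.LieClassical.OrthTrans
  Cfsg.Agent.H955 Cfsg.Agent.H884.El Cfsg.Agent.H975.Cov
open scoped MatrixGroups Matrix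

variable {n : ℕ} {F : Type} [Field F] [Fintype F]

/-- a prime divisor of the order of `Ω` divides the order of a factor -/
theorem pr_dvd {Q : QuadraticForm F (Fin n → F)} {m : ℕ} {X Y : Subgroup (GL (Fin n) F)} (h : Pr Q m X Y) {r : ℕ}
    (hr : r.Prime) (hd : r ∣ Nat.card (Og Q)) : r ∣ Nat.card X ∨ r ∣ Nat.card Y := by
  have h1 : Ex78.Pd (X.subgroupOf (Og Q)) (Y.subgroupOf (Og Q)) := by
    intro g
    obtain ⟨x, hx, y, hy, e⟩ := h.fac g g.2
    exact ⟨⟨x, h.leX hx⟩, hx, ⟨y, h.leY hy⟩, hy, Subtype.ext e⟩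
  have h2 := h1.prime_dvd hr hd
  rwa [Nat.card_congr (Subgroup.subgroupOfEquivOfLe h.leX).toEquiv,
    Nat.card_congr (Subgroup.subgroupOfEquivOfLe h.leY).toEquiv] at h2

/-- an odd prime divisor of `oM` divides the order of `Ω` -/
theorem dvd_og {Q : QuadraticForm F (Fin n → F)} {m : ℕ} (h : Spc Q m) {r : ℕ} (hr : r.Prime) (ho : Odd r)
    (hd : r ∣ oM (Fintype.card F) m) : r ∣ Nat.card (Og Q) := by
  obtain ⟨z, -, hz⟩ := h.ord
  have h1 : r ∣ Nat.gcd 4 (Fintype.card F ^ m + 1) * Nat.card (Og Q) := by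
    rw [hz]
    exact hd.mul_left z
  rcases (Nat.Prime.dvd_mul hr).1 h1 with h2 | h2
  · exfalso
    have h3 : r ∣ 2 ^ 2 := h2.trans (Nat.gcd_dvd_left _ _)
    have h4 := (Nat.prime_dvd_prime_iff_eq hr Nat.prime_two).1 (hr.dvd_of_dvd_pow h3)
    rw [h4] at ho
    exact absurd ho (by decide)
  · exact h2

/-- a maximal overgroup -/
theorem exists_max {G : Type*} [Group G] [Finite G] {K X : Subgroup G} (hX : X ≤ K) (hn : ¬ K ≤ X) :
    ∃ M, X ≤ M ∧ IsMaximalIn K M := by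
  obtain ⟨M, hM, hmax⟩ := Set.Finite.exists_le_maximal (Set.toFinite {L : Subgroup G | L < K})
    (a := X) (lt_of_le_of_ne hX fun e => hn e.ge)
  refine ⟨M, hM, hmax.prop, fun L h1 h2 => ?_⟩
  rcases h2.lt_or_eq with h3 | h3
  · exact Or.inl (le_antisymm (hmax.le_of_ge h3 h1) h1)
  · exact Or.inr h3

/-- an element of prime order -/
theorem exists_ord {G : Type*} [Group G] [Finite G] {X : Subgroup G} {r : ℕ} (hr : r.Prime) (hd : r ∣ Nat.card X) :
    ∃ a ∈ X, orderOf a = r := by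
  have := Fact.mk hr
  obtain ⟨a, ha⟩ := exists_prime_orderOf_dvd_card' r hd
  exact ⟨a, a.2, by rw [← ha, Subgroup.orderOf_coe]⟩

theorem oM_four (q : ℕ) : oM q 4 = q ^ 12 * (q ^ 4 + 1) * ((q ^ 2 - 1) * (q ^ 4 - 1) * (q ^ 6 - 1)) := by
  unfold oM
  rw [show 4 - 1 = 3 from rfl, Finset.prod_range_succ, Finset.prod_range_succ, Finset.prod_range_succ,
    Finset.prod_range_zero, one_mul]

theorem main {Q : QuadraticForm F (Fin 8 → F)} {X Y : Subgroup (GL (Fin 8) F)} (h : Pr Q 4 X Y) {p f r8 N r3 : ℕ}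
    (n : Num F p f r8 N r3) (h6 : PP (Nat.card F) 6 N) (h8 : r8 ∣ Nat.card X) : Fld X ∧ Sm Q Y := by
  have hQ := h.good.nondeg
  have hP := h.minus
  have hq := one_lt_q F
  have hXI : X ≤ Cfsg.isometryGroup F (⇑Q) := h.leX.trans omegaGL_le'
  have hYI : Y ≤ Cfsg.isometryGroup F (⇑Q) := h.leY.trans omegaGL_le'
  obtain ⟨M, hXM, hM⟩ := exists_max h.leX h.nX
  obtain ⟨L, hYL, hL⟩ := exists_max h.leY h.nY
  obtain ⟨a, ha, hao⟩ := exists_ord n.h8.prime h8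
  obtain ⟨K, hK, hMK⟩ := a_case n hQ hP hM (hXM ha) hao
  have d6 : ∀ r, r ∣ Nat.card F ^ 6 - 1 → r ∣ oM (Fintype.card F) 4 := fun r hr => by
    rw [oM_four, ← Nat.card_eq_fintype_card]
    exact (hr.mul_left _).mul_left _
  obtain ⟨b, hb, hbo⟩ : ∃ b ∈ Y, orderOf b = N := by
    rcases pr_dvd h h6.prime (dvd_og h.toSpc h6.prime (h6.odd (by norm_num))
      (d6 _ ((h6.dvd_iff (by omega) 6).2 dvd_rfl))) with h1 | h1
    · exfalso
      obtain ⟨b, hb, hbo⟩ := exists_ord h6.prime h1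
      obtain ⟨D, U, hB⟩ := bp_prime hQ hP h6 (hXI hb) hbo
      exact ab_false n hQ hP hM (hXM ha) hao (hXM hb) hB
    · exact exists_ord h6.prime h1
  obtain ⟨c, hc, hco⟩ : ∃ c ∈ Y, orderOf c = r3 := by
    rcases pr_dvd h n.h3.prime (dvd_og h.toSpc n.h3.prime (n.h3.odd (by norm_num))
      (d6 _ ((n.h3.dvd_iff (by omega) 6).2 (by norm_num)))) with h1 | h1
    · exfalso
      obtain ⟨c, hc, hco⟩ := exists_ord n.h3.prime h1
      exact c_kill n hQ hP hXI hc hco (Or.inr (Or.inr (Or.inl ⟨K, hK, hXM.trans hMK⟩)))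
    · exact exists_ord n.h3.prime h1
  obtain ⟨D, U, hB⟩ := bp_prime hQ hP h6 (hYI hb) hbo
  have hLI : L ≤ Cfsg.isometryGroup F (⇑Q) := hL.1.le.trans omegaGL_le'
  obtain ⟨v, hv, hLv⟩ : ∃ v, Q v ≠ 0 ∧ L ≤ subspaceStabilizer (Submodule.span F {v}) := by
    rcases b_case n hQ hP hL (hYL hb) hbo hB with h1 | ⟨-, h1⟩ | h1 | ⟨-, h1⟩ | h1 | h1
    · exact (c_kill n hQ hP hLI (hYL hc) hco (Or.inl h1)).elim
    · exact h1
    · exact (c_kill n hQ hP hLI (hYL hc) hco (Or.inr (Or.inl h1))).elim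
    · exact h1
    · exact (c_kill n hQ hP hLI (hYL hc) hco (Or.inr (Or.inr (Or.inl h1)))).elim
    · exact (c_kill n hQ hP hLI (hYL hc) hco (Or.inr (Or.inr (Or.inr h1)))).elim
  have hv0 : v ≠ 0 := by
    rintro rfl
    exact hv (QuadraticMap.map_zero Q)
  refine ⟨⟨r8, 2, K, n.h8q, h8, Nat.prime_two, hK, hXM.trans hMK⟩, D, hB.dimX, fun W hW hWd => ?_,
    ⟨Submodule.span F {v}, ?_, ?_, hYL.trans hLv⟩, fun hD => ?_⟩
  · rcases hB.dich W (inv_of_mem (hW hb)) with h1 | h1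
    · exact h1
    · have h2 := Submodule.finrank_mono h1
      have h3 := hB.dimU
      omega
  · rwa [Ne, Submodule.span_singleton_eq_bot]
  · rw [finrank_span_singleton hv0]
    norm_num
  · exact (c_kill n hQ hP hYI hc hco (Or.inr (Or.inl ⟨D, hB.dimX, hB.plus, hD⟩))).elim

end Cfsg.Agent.SM.Om.E8

namespace Cfsg.Agent.SM.Om

open Cfsg.Agent.H884.El Cfsg.Agent.H975.Cov

/-- **`Ω⁻₈(q)`, `q ≥ 3`** -/
theorem box8 : Box8 := by
  intro F _ _ Q X Y h h3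
  obtain ⟨p, f, r8, N, r3, n⟩ := exists_num F
  have hq := one_lt_q F
  have h6 : PP (Nat.card F) 6 N := by
    rcases n.hN with ⟨h2, -⟩ | ⟨-, hr⟩
    · rw [Nat.card_eq_fintype_card] at h2
      omega
    · rw [n.hpf]
      exact hr.of_pow n.hf
  have h8 : r8 ∣ Nat.card F ^ 4 + 1 := by
    have h8 : 1 ≤ Nat.card F ^ 4 := Nat.one_le_pow _ _ (by omega)
    have h9 : r8 ∣ Nat.card F ^ 8 - 1 := (n.h8q.dvd_iff (by omega) 8).2 dvd_rfl
    have h7 : Nat.card F ^ 8 - 1 = (Nat.card F ^ 4 + 1) * (Nat.card F ^ 4 - 1) := by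
      obtain ⟨c, hc⟩ := Nat.exists_eq_add_of_le h8
      have h9 : Nat.card F ^ 8 = Nat.card F ^ 4 * Nat.card F ^ 4 := by ring
      rw [h9, hc, Nat.add_sub_cancel_left]
      have : (1 + c) * (1 + c) = 1 + (1 + c + 1) * c := by ring
      rw [this, Nat.add_sub_cancel_left]
    rw [h7] at h9
    rcases (n.h8q.prime.dvd_mul).1 h9 with h | h
    · exact h
    · exfalso
      have := (n.h8q.dvd_iff (by omega) 4).1 h
      omega
  have h9 : r8 ∣ oM (Fintype.card F) 4 := by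
    rw [E8.oM_four, ← Nat.card_eq_fintype_card]
    exact (h8.mul_left _).mul_right _
  rcases E8.pr_dvd h n.h8.prime (E8.dvd_og h.toSpc n.h8.prime (n.h8q.odd (by norm_num)) h9) with h1 | h1
  · exact Or.inl (E8.main h n h6 h1)
  · exact Or.inr (E8.main h.symm n h6 h1)

end Cfsg.Agent.SM.Om
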