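import Cfsg.Agent.SM.Om.E82B
import Cfsg.Agent.SM.Om.Eight

/-!
# SM (S3570), socle `Ω⁻₈(2)`: the box `Box82` (helper48)
-/

set_option autoImplicit false
set_option linter.unusedSectionVars false

namespace Cfsg.Agent.SM.Om.E82

open Module QuadraticMap Cfsg Cfsg.Geo Cfsg.Agent.LieClassical.OrthCore Cfsg.Agent.LieClassical.OrthTrans
  Cfsg.Agent.H955 Cfsg.Agent.H884.El Cfsg.Agent.H975.Cov
open Cfsg.Agent.H951 (fx cm Inv)
open scoped MatrixGroups Matrix

variable {F : Type} [Field F] [Fintype F] {Q : QuadraticForm F (Fin 8 → F)} {X Y : Subgroup (GL (Fin 8) F)}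

theorem pp17 : PP 2 8 17 := ⟨by norm_num, by
  have : Fact (Nat.Prime 2) := ⟨Nat.prime_two⟩
  exact orderOf_eq_prime_pow (p := 2) (n := 2) (by decide) (by decide)⟩

theorem pp7 : PP 2 3 7 := ⟨by norm_num, by
  have : Fact (Nat.Prime 3) := ⟨Nat.prime_three⟩
  exact orderOf_eq_prime (by decide) (by decide)⟩

theorem num (hF : Fintype.card F = 2) : Num F 2 1 17 9 7 := by
  have h : Nat.card F = 2 := by rw [Nat.card_eq_fintype_card, hF]
  exact ⟨Nat.prime_two, le_rfl, h, pp17, h ▸ pp7, by decide, Or.inl ⟨h, rfl⟩⟩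

theorem core (h : Pr Q 4 X Y) (hF : Fintype.card F = 2) (h17 : 17 ∣ Nat.card X)
    (hT : IsSimpleGroup X ∨ (IsSimpleGroup Y ∧ ∀ g ∈ Og Q, (∀ t ∈ Y, g * t = t * g) → g ∈ scalars (Fin 8) F)) :
    Fld X ∧ Sm Q Y := by
  have n := num hF
  have hQ := h.good.nondeg
  have hP := h.minus
  obtain ⟨M, hXM, hM⟩ := E8.exists_max h.leX h.nX
  obtain ⟨L, hYL, hL⟩ := E8.exists_max h.leY h.nY
  obtain ⟨a, ha, hao⟩ := E8.exists_ord n.h8.prime h17
  obtain ⟨K, hK, hMK⟩ := a_case n hQ hP hM (hXM ha) hao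
  have hXK := hXM.trans hMK
  have ha17 : a ^ 17 = 1 := by rw [← hao, pow_orderOf_eq_one]
  have ha1 : a ≠ 1 := by
    rintro rfl
    rw [orderOf_one] at hao
    omega
  obtain ⟨J, hJ⟩ := exists_J hF hK (h.leX ha) (hXK ha) ha17 (a_irr hQ n.h8q (h.isoX ha) hao)
  have hCm : IsSimpleGroup X → Cm X J := fun hs =>
    cm_of hs hXK hJ.mem ha ha1 (comm_field Nat.prime_two hK (hXK ha) (r := 17) (by norm_num) (by norm_num) ha17)
  have h32 : 2 ^ 5 ∣ Nat.card Y := by
    have h1 := not_256 h.toSpc hF hJ h.leX hXK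
    have h2 : 2 ^ 12 ∣ Nat.card X * Nat.card Y := by
      refine Dvd.dvd.trans ?_ h.card_dvd
      rw [card_og h.toSpc hF]
      norm_num
    by_contra h3
    have hX0 : Nat.card X ≠ 0 := Nat.card_pos.ne'
    have hY0 : Nat.card Y ≠ 0 := Nat.card_pos.ne'
    rw [Nat.prime_two.pow_dvd_iff_le_factorization hX0] at h1
    rw [Nat.prime_two.pow_dvd_iff_le_factorization hY0] at h3
    rw [Nat.prime_two.pow_dvd_iff_le_factorization (mul_ne_zero hX0 hY0), Nat.factorization_mul hX0 hY0,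
      Finsupp.add_apply] at h2
    omega
  have h7 : 7 ∣ Nat.card Y := by
    rcases h.dvd (r := 7) (by norm_num) (by rw [card_og h.toSpc hF]; norm_num) with h1 | h1
    · exfalso
      obtain ⟨c, hc, hco⟩ := E8.exists_ord n.h3.prime h1
      exact c_kill n hQ hP h.isoX hc hco (Or.inr (Or.inr (Or.inl ⟨K, hK, hXK⟩)))
    · exact h1
  obtain ⟨c, hc, hco⟩ := E8.exists_ord n.h3.prime h7
  obtain ⟨hiso, hc1⟩ := iso_of n.h3 (by norm_num) (h.isoY hc) hco
  obtain ⟨hcm, hcP, -⟩ := hiso.odd_case hQ hc1 n.h3 (by decide) (by rw [finrank_V']; norm_num)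
  have hadd := hiso.finrank_add
  rw [finrank_V'] at hadd
  have hfx : finrank F ↥(fx (lin c)) = 2 := by omega
  have hfP : ¬ IsPlus (res Q (fx (lin c))) := fun k =>
    hP ((hiso.isPlus_fx hQ (by rw [finrank_V']; decide) (by rw [hcm]; decide)).2 (iff_of_true hcP k))
  have han : ∀ w ∈ fx (lin c), Q w = 0 → w = 0 := fun w hw h0 => aniso_of_not_plus hfx hfP hw h0
  have small : ∀ W : Submodule F (Fin 8 → F), Y ≤ St W → finrank F W ≤ 2 → W ≤ fx (lin c) := fun W hW hd =>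
    hiso.le_fx n.h3 (inv_of_mem (hW hc)) (by omega)
  have killD : ¬ Y ≤ St (fx (lin c)) := by
    intro hD
    rcases hT with hs | ⟨hs, hcen⟩
    · obtain ⟨U, hU, hUd⟩ := hcP
      have hU0 : U ≠ ⊥ := by
        rintro rfl
        rw [finrank_bot, hcm] at hUd
        omega
      obtain ⟨x, hxU, hx0⟩ := Submodule.exists_mem_ne_zero_of_ne_bot hU0
      obtain ⟨y, hy⟩ := exists_hyp (H954.TSing.nondeg_cm hQ hiso.iso hiso.ne0 hiso.pow) (hU x hxU) hx0
      have hy' : Hyp Q (x : Fin 8 → F) y := ⟨hy.left, hy.right, by rw [← hy.pair]; rfl⟩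
      exact killDB h hF hJ (hCm hs) hfx han hy' (fun w hw => H954.TSing.orth_fx_cm hiso.iso w hw x x.2)
        (fun w hw => H954.TSing.orth_fx_cm hiso.iso w hw y y.2) hD
    · exact killDT h.toSpc hF h.leY hs h7 hcen hfx han hD
  have kill3 : ∀ W : Submodule F (Fin 8 → F), finrank F W = 3 → (∀ w ∈ W, Q w = 0) → ¬ Y ≤ St W := by
    intro W hW hs hYW
    rcases hT with hs' | ⟨hs', -⟩
    · exact kill3B h hF hJ (hCm hs') hW hs hYW
    · rcases act_dich hF hs' hYW with h1 | h1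
      · have h2 : W ≤ fx (lin c) := fun w hw => H951.mem_fx.2 (h1 c hc w hw)
        have := Submodule.finrank_mono h2
        omega
      · rw [hW] at h1
        exact absurd (h32.trans h1) (by decide)
  have hLI : L ≤ Cfsg.isometryGroup F (⇑Q) := hL.1.le.trans omegaGL_le'
  obtain ⟨v, hv, hYv⟩ : ∃ v, Q v ≠ 0 ∧ Y ≤ St (Submodule.span F {v}) := by
    rcases S5826.result (⇑Q) h.toSpc.nd' h.toSpc.minus' L hL with
      ⟨W, hW0, hWs, hW⟩ | ⟨hqo, -⟩ | ⟨W, hd, -, -, hW⟩ | ⟨h4, -⟩ | ⟨W, hd, hWn, hW⟩ |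
      ⟨-, v, hv, hW⟩ | ⟨K', hK', hHK⟩ | ⟨F₀, s, P, ζ, hs, hso, hcard, -, -, hHF⟩ | hS
    · exfalso
      have hYW : Y ≤ St W := hYL.trans (hW.le.trans inf_le_left)
      have h1 := two_mul_finrank_le hQ (U := W) hWs
      rw [finrank_V'] at h1
      rcases (show finrank F W ≤ 2 ∨ finrank F W = 3 ∨ finrank F W = 4 by omega) with h2 | h2 | h2
      · exact hW0 ((Submodule.eq_bot_iff _).2 fun w hw => han w (small W hYW h2 hw) (hWs w hw))
      · exact kill3 W h2 hWs hYW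
      · exact hP ⟨W, hWs, by rw [h2, finrank_V']⟩
    · rw [hF] at hqo
      exact absurd hqo (by decide)
    · exfalso
      have hYW : Y ≤ St W := hYL.trans (hW.le.trans inf_le_left)
      have h1 : W = fx (lin c) := Submodule.eq_of_le_of_finrank_eq (small W hYW hd.le) (by omega)
      exact killD (h1 ▸ hYW)
    · omega
    · exfalso
      have hYW : Y ≤ St W := hYL.trans (hW.le.trans inf_le_left)
      have hI := inv_of_mem (hYW hc)
      have h1 := H951.finrank_inf_add hiso.ne0 hiso.pow hI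
      have h2 := hiso.dvd n.h3 hI
      have h3 : finrank F ↥(W ⊓ fx (lin c)) ≤ finrank F ↥(fx (lin c)) := Submodule.finrank_mono inf_le_right
      have h4 : finrank F ↥(W ⊓ fx (lin c)) = 1 := by omega
      obtain ⟨d, hd0, hdW⟩ := pt_of_finrank (W := W ⊓ fx (lin c)) (fun e => by rw [e, finrank_bot] at h4; omega) h4.le
      have h5 : d ∈ W ⊓ fx (lin c) := hdW ▸ Submodule.mem_span_singleton_self d
      refine hd0 (nondeg_res_iff.1 (nondeg_on hWn) d h5.1 fun y hy => ?_)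
      rw [← H951.inf_fx_sup_inf_cm hiso.ne0 hiso.pow hI] at hy
      obtain ⟨p, hp, q, hq, rfl⟩ := Submodule.mem_sup.1 hy
      rw [hdW] at hp
      obtain ⟨s, rfl⟩ := Submodule.mem_span_singleton.1 hp
      rw [polar_add_right, polar_smul_right, pself hF, H954.TSing.orth_fx_cm hiso.iso d h5.2 q hq.2, smul_zero, add_zero]
    · exact ⟨v, hv, hYL.trans (hW.le.trans inf_le_left)⟩
    · exact (c_kill n hQ hP hLI (hYL hc) hco (Or.inr (Or.inr (Or.inl ⟨K', hK', hHK.le.trans inf_le_left⟩)))).elim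
    · exfalso
      have h3 : 1 < Nat.card F₀ := Finite.one_lt_card
      have h4 : Nat.card F₀ ^ 2 ≤ Nat.card F₀ ^ s := Nat.pow_le_pow_right (by omega) hs.two_le
      have h5 : 2 ^ 2 ≤ Nat.card F₀ ^ 2 := Nat.pow_le_pow_left h3 2
      rw [← hcard, hF] at h4
      omega
    · exfalso
      obtain ⟨P, hP', ⟨⟨e⟩, -⟩ | ⟨-, hq3⟩⟩ := S5827.result (⇑Q) h.toSpc.nd' h.toSpc.minus' L hL hS
      · have := Fact.mk Nat.prime_two
        have := charP hF
        have h1 := H900.SU4.card_dvd_of_core hP' Y.subtype (fun b => hYL b.2) (fun b hb => Subtype.ext (scal hF hb))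
        rw [Nat.card_congr (MulAut.congr e).toEquiv] at h1
        have h2 := H270.Ppd.card_aut_dvd (N := 3) (r := 2) (f := 1) (K := F) (by rw [hF]; rfl) le_rfl
        rw [hF] at h2
        exact absurd ((h32.trans h1).trans h2) (by decide)
      · omega
  have hv0 : v ≠ 0 := by
    rintro rfl
    exact hv (QuadraticMap.map_zero Q)
  refine ⟨⟨17, 2, K, n.h8q, h17, Nat.prime_two, hK, hXK⟩, fx (lin c), hfx, small,
    ⟨Submodule.span F {v}, ?_, ?_, hYv⟩, fun hD => (killD hD).elim⟩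
  · rwa [Ne, Submodule.span_singleton_eq_bot]
  · rw [finrank_span_singleton hv0]
    norm_num

end Cfsg.Agent.SM.Om.E82

namespace Cfsg.Agent.SM.Om

/-- **`Ω⁻₈(2)`** -/
theorem box82 : Box82 := by
  intro F _ _ Q T B h hF
  have hs := E82.simple_of hF h.simple
  rcases h.toPr.dvd (r := 17) (by norm_num) (by rw [E82.card_og h.toSpc hF]; norm_num) with h1 | h1
  · exact Or.inl (E82.core h.toPr hF h1 (Or.inl hs))
  · exact Or.inr (E82.core h.toPr.symm hF h1 (Or.inr ⟨hs, h.cen⟩))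

end Cfsg.Agent.SM.Om
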