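import Cfsg.Agent.SM.Om.Lin
import Cfsg.Agent.SM.CSi.Cnt
import Cfsg.Agent.H879.SpNormalizer

/-!
# SM (S3570), socle `PΩ⁻_{2m}(q)`: the boxes `BoxG1p`, `BoxG1h` (helper51)
-/

set_option autoImplicit false
set_option linter.unusedSectionVars false

namespace Cfsg.Agent.SM.Om

open Module QuadraticMap Cfsg Cfsg.Geo Cfsg.Agent.LieClassical.OrthCore Cfsg.Agent.LieClassical.OrthTrans
  Cfsg.Agent.H955
open Cfsg.Agent.H278.Cov (Red)
open scoped MatrixGroups Matrix

namespace G1

variable {n : ℕ} {F : Type} [Field F] [Fintype F] {Q : QuadraticForm F (Fin n → F)} {m s : ℕ}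
  {T B : Subgroup (GL (Fin n) F)} {K : Subalgebra F (Matrix (Fin n) (Fin n) F)}

theorem eq_of_mv (hK : IsFieldSubalgebra s K) {x y : Matrix (Fin n) (Fin n) F} (hx : x ∈ K) (hy : y ∈ K) {v : Fin n → F}
    (hv : v ≠ 0) (h : x *ᵥ v = y *ᵥ v) : x = y := by
  by_contra hne
  exact H879.mulVec_ne_zero hK (K.sub_mem hx hy) (sub_ne_zero.2 hne) hv (by rw [Matrix.sub_mulVec, h, sub_self])

theorem comm_mv {t y : Matrix (Fin n) (Fin n) F} (h : t * y = y * t) (v : Fin n → F) : t *ᵥ (y *ᵥ v) = y *ᵥ (t *ᵥ v) := by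
  rw [Matrix.mulVec_mulVec, Matrix.mulVec_mulVec, h]

theorem mem_kw {y : Matrix (Fin n) (Fin n) F} (hy : y ∈ K) (v : Fin n → F) : y *ᵥ v ∈ kw K (F ∙ v) :=
  Submodule.subset_span ⟨y, hy, v, Submodule.mem_span_singleton_self v, rfl⟩

theorem of_kw {v w : Fin n → F} (hw : w ∈ kw K (F ∙ v)) : ∃ y ∈ K, w = y *ᵥ v := by
  induction hw using Submodule.span_induction with
  | mem x hx =>
    obtain ⟨y, hy, u, hu, rfl⟩ := hx
    obtain ⟨c, rfl⟩ := Submodule.mem_span_singleton.1 hu
    exact ⟨c • y, K.smul_mem hy c, by rw [Matrix.mulVec_smul, Matrix.smul_mulVec]⟩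
  | zero => exact ⟨0, K.zero_mem, (Matrix.zero_mulVec v).symm⟩
  | add x z _ _ hx hz =>
    obtain ⟨y, hy, rfl⟩ := hx
    obtain ⟨y', hy', rfl⟩ := hz
    exact ⟨y + y', K.add_mem hy hy', (Matrix.add_mulVec _ _ _).symm⟩
  | smul c x _ hx =>
    obtain ⟨y, hy, rfl⟩ := hx
    exact ⟨c • y, K.smul_mem hy c, (Matrix.smul_mulVec _ _ _).symm⟩

/-- `(q + 1) #{w ≠ 0 | Q w = a} > q ^ n` -/
theorem count (h : Spc Q m) (a : F) :
    Nat.card F ^ (2 * m) < (Nat.card F + 1) * Nat.card {w : Fin n → F // w ≠ 0 ∧ Q w = a} := by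
  obtain ⟨k, rfl⟩ : ∃ k, m = k + 1 := ⟨m - 1, by have := h.four; omega⟩
  have hq : 1 < Nat.card F := Finite.one_lt_card
  by_cases ha : a = 0
  · subst ha
    have h1 := CS.Ix.card_zero_add h.nd h.finrank_V
    rw [CS.Ix.card_norm_minus' h.nd h.finrank_V h.minus one_ne_zero] at h1
    have h2 : Nat.card {w : Fin n → F // Q w = 0} = Nat.card {w : Fin n → F // w ≠ 0 ∧ Q w = 0} + 1 := by
      have h3 : {w : Fin n → F | Q w = 0} = insert 0 {w : Fin n → F | w ≠ 0 ∧ Q w = 0} := by
        ext w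
        by_cases e : w = 0 <;> simp [e]
      have h4 := Set.ncard_insert_of_notMem (a := (0 : Fin n → F)) (s := {w : Fin n → F | w ≠ 0 ∧ Q w = 0}) (by simp)
      rw [← h3] at h4
      exact h4
    have h5 : Nat.card F ^ 3 ≤ Nat.card F ^ k := Nat.pow_le_pow_right (by omega) (by have := h.four; omega)
    have e1 : Nat.card F ^ (2 * (k + 1)) = Nat.card F ^ k * Nat.card F * (Nat.card F ^ k * Nat.card F) := by ring
    rw [h2, e1, pow_succ (Nat.card F) k] at h1
    rw [e1]
    generalize Nat.card {w : Fin n → F // w ≠ 0 ∧ Q w = 0} = N at h1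
    generalize Nat.card F ^ k = x at h1 h5
    obtain ⟨r, hr⟩ : ∃ r, Nat.card F = r + 2 := ⟨Nat.card F - 2, by omega⟩
    rw [hr] at h1 h5 ⊢
    rw [show r + 2 - 1 = r + 1 from rfl] at h1
    have h6 : N + 1 + (r + 1) * x = (r + 2) * (x * x) := by nlinarith
    have h7 : (r + 2) ^ 3 * x ≤ x * x := Nat.mul_le_mul_right x h5
    have h8 : (r + 2 + 1) * N + (r + 3) + (r + 3) * (r + 1) * x = x * (r + 2) * (x * (r + 2)) + (r + 2) * (x * x) := by
      have : (r + 3) * (N + 1 + (r + 1) * x) = (r + 3) * ((r + 2) * (x * x)) := by rw [h6]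
      linarith
    have h9 : r + 3 < x := lt_of_lt_of_le (by nlinarith [Nat.zero_le (r ^ 3), Nat.zero_le (r ^ 2)]) h5
    nlinarith [Nat.zero_le (r ^ 3 * x), Nat.zero_le (r ^ 2 * x), Nat.zero_le (r * x), Nat.zero_le (r * (x * x))]
  · have h1 := CS.Ix.card_norm_minus h.nd h.finrank_V h.minus ha
    have h2 : Nat.card {w : Fin n → F // w ≠ 0 ∧ Q w = a} = Nat.card {w : Fin n → F // Q w = a} :=
      Nat.card_congr (Equiv.subtypeEquivRight fun w => and_iff_right_of_imp fun e e0 => ha (by rw [← e, e0, map_zero]))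
    have h3 : 0 < Nat.card F ^ (k + 1) := Nat.pow_pos (by omega)
    rw [h2, add_mul, h1]
    omega

theorem sing_plane {e f u : Fin n → F} (h : Hyp Q e f) (hu : u ∈ Submodule.span F {e, f}) (h0 : Q u = 0) :
    ∃ c : F, u = c • e ∨ u = c • f := by
  obtain ⟨a, b, rfl⟩ := Submodule.mem_span_pair.1 hu
  rw [Q_add, QuadraticMap.map_smul, QuadraticMap.map_smul, h.left, h.right, polar_smul_left, polar_smul_right, h.pair] at h0
  simp only [smul_eq_mul, mul_zero, mul_one, zero_add, mul_eq_zero] at h0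
  rcases h0 with rfl | rfl
  · exact ⟨b, Or.inr (by rw [zero_smul, zero_add])⟩
  · exact ⟨a, Or.inl (by rw [zero_smul, add_zero])⟩

end G1

open G1

theorem boxG1p : BoxG1p := by
  intro F _ _ n m s Q T B K v h hs hK hc hr hv hB alt
  rcases alt with h1 | h1
  · have h2 : kw K (F ∙ v) = ⊤ := by
      by_contra hn
      refine hr ⟨_, fun e => hv ?_, hn, h1⟩
      have := mem_kw K.one_mem v
      rwa [e, Matrix.one_mulVec, Submodule.mem_bot] at this
    let φ : K →ₗ[F] (Fin n → F) :=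
      { toFun := fun y => (y : Matrix (Fin n) (Fin n) F) *ᵥ v
        map_add' := fun x y => Matrix.add_mulVec _ _ _
        map_smul' := fun c x => Matrix.smul_mulVec _ _ _ }
    have h3 := (LinearEquiv.ofBijective φ ⟨fun x y e => Subtype.ext (eq_of_mv hK x.2 y.2 hv e), fun w => by
      obtain ⟨y, hy, e⟩ := of_kw (K := K) (v := v) (w := w) (h2 ▸ Submodule.mem_top)
      exact ⟨⟨y, hy⟩, e.symm⟩⟩).finrank_eq
    rw [hK.finrank_eq, h.toSpc.finrank_V] at h3
    have h4 := h.four
    rcases hs.eq_one_or_self_of_dvd 2 ⟨m, h3⟩ with e | e <;> omega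
  · have key : ∀ y ∈ K, ∀ w w' : Fin n → F, w ≠ 0 → Q w = Q v → w' ≠ 0 → Q w' = Q v → w = y *ᵥ w' →
        ∃ d : F, y = d • (1 : Matrix (Fin n) (Fin n) F) := by
      intro y hy w w' a1 a2 a3 a4 e
      obtain ⟨t, ht, c, c0, rfl⟩ := h.move_pt hB hv a1 a2.symm
      obtain ⟨t', ht', c', c0', rfl⟩ := h.move_pt hB hv a3 a4.symm
      have e1 : ((t'⁻¹ * t : GL (Fin n) F) : Matrix (Fin n) (Fin n) F) *ᵥ v = ((c⁻¹ * c') • y) *ᵥ v := by
        rw [mul_mv, Matrix.smul_mulVec, mul_smul, ← inv_mv t' (y *ᵥ v), comm_mv (hc t' ht' y hy), ← Matrix.mulVec_smul,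
          ← Matrix.mulVec_smul y, ← e, ← Matrix.mulVec_smul, inv_smul_smul₀ c0]
      have m1 : t'⁻¹ * t ∈ T := T.mul_mem (T.inv_mem ht') ht
      obtain ⟨d, hd⟩ := mem_St_pt.1 (h1 ⟨m1, mem_St.2 fun u hu => by
        obtain ⟨z, hz, rfl⟩ := of_kw hu
        rw [comm_mv (hc _ m1 z hz), e1, Matrix.mulVec_mulVec]
        exact mem_kw (K.mul_mem hz (K.smul_mem hy _)) v⟩)
      have e2 := eq_of_mv hK (K.smul_mem hy (c⁻¹ * c')) (K.smul_mem K.one_mem d) hv
        (by rw [← e1, hd, Matrix.smul_mulVec, Matrix.one_mulVec])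
      exact ⟨(c⁻¹ * c')⁻¹ * d, by rw [mul_smul, ← e2, inv_smul_smul₀ (mul_ne_zero (inv_ne_zero c0) c0')]⟩
    obtain ⟨y, hy, ns⟩ := H879.exists_nonscalar hK hs.two_le
    let μ : Option F → Matrix (Fin n) (Fin n) F := fun i => i.elim 1 fun c => y + c • 1
    have μK : ∀ i, μ i ∈ K := fun i => by
      cases i with
      | none => exact K.one_mem
      | some c => exact K.add_mem hy (K.smul_mem K.one_mem c)
    have one0 : (1 : Matrix (Fin n) (Fin n) F) ≠ 0 := fun e => hv (by rw [← Matrix.one_mulVec v, e, Matrix.zero_mulVec])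
    have μ0 : ∀ i, μ i ≠ 0 := fun i => by
      cases i with
      | none => exact one0
      | some c => exact fun e => ns (-c) (by rw [neg_smul]; exact eq_neg_of_add_eq_zero_left e)
    have μi : ∀ i j (d : F), μ j = d • μ i → i = j := fun i j d e => by
      have d0 : d ≠ 0 := fun k => μ0 j (by rw [e, k, zero_smul])
      cases i with
      | none =>
        cases j with
        | none => rfl
        | some c => exact (ns (d - c) (by rw [sub_smul]; exact eq_sub_of_add_eq e)).elim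
      | some b =>
        cases j with
        | none =>
          have e' : (1 : Matrix (Fin n) (Fin n) F) = d • (y + b • 1) := e
          refine (ns (d⁻¹ - b) ?_).elim
          rw [sub_smul, eq_sub_iff_add_eq, eq_inv_smul_iff₀ d0]
          exact e'.symm
        | some c =>
          have e' : y + c • (1 : Matrix (Fin n) (Fin n) F) = d • (y + b • 1) := e
          by_cases d1 : d = 1
          · rw [d1, one_smul, add_right_inj] at e'
            rw [smul_left_injective F one0 e']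
          · refine (ns ((1 - d)⁻¹ * (d * b - c)) ?_).elim
            rw [mul_smul, eq_inv_smul_iff₀ (sub_ne_zero.2 (Ne.symm d1))]
            linear_combination (norm := module) e'
    have inj : Function.Injective fun x : Option F × {w : Fin n → F // w ≠ 0 ∧ Q w = Q v} => μ x.1 *ᵥ (x.2 : Fin n → F) := by
      rintro ⟨i, w, a1, a2⟩ ⟨j, w', a3, a4⟩ e
      have e' : μ i *ᵥ w = μ j *ᵥ w' := e
      obtain ⟨z, hz, ez⟩ := hK.inv _ (μK i) (μ0 i)
      have e1 : w = (z * μ j) *ᵥ w' := by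
        rw [← Matrix.mulVec_mulVec, ← e', Matrix.mulVec_mulVec, hK.comm z hz _ (μK i), ez, Matrix.one_mulVec]
      obtain ⟨d, hd⟩ := key _ (K.mul_mem hz (μK j)) w w' a1 a2 a3 a4 e1
      obtain rfl := μi i j d (by rw [← one_mul (μ j), ← ez, mul_assoc, hd, mul_smul_comm, mul_one])
      rw [hK.comm z hz _ (μK i), ez, Matrix.one_mulVec] at e1
      subst e1
      rfl
    have h2 := Nat.card_le_card_of_injective _ inj
    rw [Nat.card_prod, Finite.card_option, Module.natCard_eq_pow_finrank (K := F) (V := Fin n → F), h.toSpc.finrank_V] at h2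
    exact absurd (count h.toSpc (Q v)) (not_lt.2 h2)

theorem boxG1h : BoxG1h := by
  intro F _ _ n m s Q T B K e f h hs hK hc hq hef hB
  obtain ⟨y, hy, ns⟩ := H879.exists_nonscalar hK hs.two_le
  have val : ∀ e' f', Hyp Q e' f' → polar Q (y *ᵥ e') f' = polar Q (y *ᵥ e) f ∨ polar Q (y *ᵥ e') f' = polar Q (y *ᵥ f) e := by
    intro e' f' h'
    obtain ⟨g, hg, rfl, rfl⟩ := h.toSpc.trans_hyp hef h'
    obtain ⟨t, ht, b, hb, rfl⟩ := h.fac g hg
    rw [mul_mv, mul_mv, ← comm_mv (hc t ht y hy), polar_mv (h.leX ht)]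
    have p1 := polar_mv (h.leY hb) e f
    obtain ⟨c, h1⟩ := sing_plane hef (mem_St.1 (hB hb) e (Submodule.subset_span (by simp))) ((Q_mv (h.leY hb) e).trans hef.left)
    obtain ⟨d, h2⟩ := sing_plane hef (mem_St.1 (hB hb) f (Submodule.subset_span (by simp))) ((Q_mv (h.leY hb) f).trans hef.right)
    rw [hef.pair] at p1
    rcases h1 with h1 | h1 <;> rcases h2 with h2 | h2 <;> rw [h1, h2, polar_smul_left, polar_smul_right] at p1 <;>
      rw [h1, h2, Matrix.mulVec_smul, polar_smul_left, polar_smul_right, smul_smul]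
    · rw [hef.polar_left] at p1
      simp at p1
    · rw [hef.pair, smul_smul, smul_eq_mul, mul_one] at p1
      exact Or.inl (by rw [p1, one_smul])
    · rw [hef.pair', smul_smul, smul_eq_mul, mul_one] at p1
      exact Or.inr (by rw [p1, one_smul])
    · rw [hef.polar_right] at p1
      simp at p1
  have add : ∀ (f' w : Fin n → F) (c : F), Hyp Q e f' → Q w = 0 → polar Q e w = 0 → polar Q f' w = 0 → Hyp Q e (f' + c • w) :=
    fun f' w c h' a1 a2 a3 => ⟨h'.left, by
      rw [Q_add, QuadraticMap.map_smul, h'.right, a1, polar_smul_right, a3]; simp, by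
      rw [polar_add_right, polar_smul_right, a2, h'.pair]; simp⟩
  have zero : ∀ f' w, Hyp Q e f' → Q w = 0 → polar Q e w = 0 → polar Q f' w = 0 → polar Q (y *ᵥ e) w = 0 := by
    intro f' w h' a1 a2 a3
    by_contra hn
    have v1 := fun c => val _ _ (add f' w c h' a1 a2 a3)
    have v2 : ∀ c d : F, polar Q (y *ᵥ e) (f' + c • w) = polar Q (y *ᵥ e) (f' + d • w) → c = d := fun c d k => by
      rw [polar_add_right, polar_add_right, polar_smul_right, polar_smul_right, add_right_inj] at k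
      exact mul_right_cancel₀ hn k
    obtain ⟨a, b, c, k1, k2, k3⟩ := Fintype.two_lt_card_iff.1 hq
    rcases v1 a with ea | ea <;> rcases v1 b with eb | eb <;> rcases v1 c with ec | ec <;>
      first | exact k1 (v2 _ _ (ea.trans eb.symm)) | exact k2 (v2 _ _ (ea.trans ec.symm)) | exact k3 (v2 _ _ (eb.trans ec.symm))
  obtain ⟨w, z, hwz, a1, a2, a3, a4⟩ := h.good.exists_hyp2 hef
  have all : ∀ u, polar Q e u = 0 → polar Q f u = 0 → polar Q (y *ᵥ e) u = 0 :=
    sing_induction_perp hwz a1 a2 a3 a4 (P := fun u => polar Q (y *ᵥ e) u = 0)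
      (fun a c _ _ _ _ k1 k2 => by rw [polar_add_right, k1, k2, add_zero]) fun a k1 k2 k3 => zero f a hef k1 k2 k3
  have ee : polar Q (y *ᵥ e) e = 0 := by
    have k := zero (f + (1 : F) • w) (z - e) (add f w 1 hef hwz.left a1 a3)
      (by rw [sub_eq_add_neg, Q_add, QuadraticMap.map_neg, polar_neg_right, polar_comm Q z e, a2, hwz.right, hef.left]; simp)
      (by rw [polar_sub_right, a2, hef.polar_left, sub_zero])
      (by rw [one_smul, polar_add_left, polar_sub_right, polar_sub_right, a4, hef.pair', hwz.pair, polar_comm Q w e, a1]; simp)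
    rwa [polar_sub_right, all z a2 a4, zero_sub, neg_eq_zero] at k
  have pz : LieClassical.OrthTrans.proj Q e f (y *ᵥ e) = 0 := h.toSpc.nd _ fun u => by
    rw [← polar_proj_of_perp (polar_proj_left hef _) (polar_proj_right hef _) u, polar_comm,
      polar_proj_of_perp (polar_proj_left hef _) (polar_proj_right hef _), polar_comm]
    exact all _ (polar_proj_left hef _) (polar_proj_right hef _)
  rw [LieClassical.OrthTrans.proj, polar_comm Q e, ee, zero_smul, sub_zero, sub_eq_zero] at pz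
  exact ns _ (eq_of_mv hK hy (K.smul_mem K.one_mem _) hef.left_ne (by rw [Matrix.smul_mulVec, Matrix.one_mulVec]; exact pz))

end Cfsg.Agent.SM.Om
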