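import Cfsg.Agent.SM.Om.G2b

/-!
# SM, family fM: `boxG2h` (helper38); `boxG2s`, `boxG2n` are in `G2b`
-/

set_option autoImplicit false
set_option linter.unusedSectionVars false

namespace Cfsg.Agent.SM.Om

open Module QuadraticMap Cfsg Cfsg.Geo Cfsg.Agent.LieClassical.OrthCore Cfsg.Agent.LieClassical.OrthTrans
  Cfsg.Agent.LieClassical.OrthFinite
open scoped MatrixGroups Matrix

namespace G2

variable {n : ℕ} {F : Type} [Field F] [Fintype F] {Q : QuadraticForm F (Fin n → F)}
  {s m : ℕ} {K : Subalgebra F (Matrix (Fin n) (Fin n) F)} {T B : Subgroup (GL (Fin n) F)} {e f : Fin n → F}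

theorem Q_pair' (h : Hyp Q e f) (a b : F) : Q (a • e + b • f) = a * b := by
  rw [Q_add, QuadraticMap.map_smul, QuadraticMap.map_smul, polar_smul_left, polar_smul_right, h.left, h.right, h.pair]
  simp

theorem left_mem (e f : Fin n → F) : e ∈ Submodule.span F ({e, f} : Set (Fin n → F)) := Submodule.subset_span (by simp)

theorem right_mem (e f : Fin n → F) : f ∈ Submodule.span F ({e, f} : Set (Fin n → F)) := Submodule.subset_span (by simp)

theorem mem_pp_pair {x : Fin n → F} (h1 : polar Q e x = 0) (h2 : polar Q f x = 0) :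
    x ∈ pp Q (Submodule.span F {e, f}) := mem_pp.2 fun w hw => by
  obtain ⟨a, b, rfl⟩ := Submodule.mem_span_pair.1 hw
  rw [polar_add_left, polar_smul_left, polar_smul_left, h1, h2]
  simp

/-! ### `q ≥ 4` -/

/-- an isometry which stabilises the plane fixes or swaps its singular points -/
theorem fix_or_swap (hG : Good Q) (h : Hyp Q e f) {t : GL (Fin n) F} (ht : t ∈ Og Q)
    (hW : t ∈ St (Submodule.span F {e, f})) :
    ∃ a b : F, a * b = 1 ∧ (((t : Matrix (Fin n) (Fin n) F) *ᵥ e = a • e ∧ (t : Matrix (Fin n) (Fin n) F) *ᵥ f = b • f) ∨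
      ((t : Matrix (Fin n) (Fin n) F) *ᵥ e = a • f ∧ (t : Matrix (Fin n) (Fin n) F) *ᵥ f = b • e)) := by
  obtain ⟨a, b, e1⟩ := Submodule.mem_span_pair.1 (mem_St.1 hW e (left_mem e f))
  obtain ⟨c, d, e2⟩ := Submodule.mem_span_pair.1 (mem_St.1 hW f (right_mem e f))
  have h1 := Q_Og hG ht e
  have h2 := Q_Og hG ht f
  have h3 := polar_Og hG ht e f
  rw [← e1, Q_pair' h, h.left] at h1
  rw [← e2, Q_pair' h, h.right] at h2
  rw [← e1, ← e2] at h3
  simp only [polar_add_left, polar_add_right, polar_smul_left, polar_smul_right, h.polar_left, h.polar_right, h.pair,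
    h.pair', smul_eq_mul] at h3
  rcases mul_eq_zero.1 h1 with h0 | h0
  · have h4 : b * c = 1 := by rw [h0] at h3; linear_combination h3
    have h5 : d = 0 := by linear_combination b * h2 - d * h4
    exact ⟨b, c, h4, Or.inr ⟨by rw [← e1, h0, zero_smul, zero_add], by rw [← e2, h5, zero_smul, add_zero]⟩⟩
  · have h4 : a * d = 1 := by rw [h0] at h3; linear_combination h3
    have h5 : c = 0 := by linear_combination a * h2 - c * h4
    exact ⟨a, d, h4, Or.inl ⟨by rw [← e1, h0, zero_smul, add_zero], by rw [← e2, h5, zero_smul, zero_add]⟩⟩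

/-- `g` is diagonal on the plane and trivial on its complement -/
def IsDg (Q : QuadraticForm F (Fin n → F)) (e f : Fin n → F) (l k : F) (g : GL (Fin n) F) : Prop :=
  ∀ v, (g : Matrix (Fin n) (Fin n) F) *ᵥ v = v + ((l - 1) * polar Q f v) • e + ((k - 1) * polar Q e v) • f

theorem exists_dg (hG : Good Q) (h : Hyp Q e f) {c d : F} (hc : c * d = 1) :
    ∃ g ∈ Og Q, IsDg Q e f (c * c) (d * d) g := by
  have h1 : Q (d • e + c • f) = 1 := by rw [Q_pair' h, mul_comm, hc]
  have h2 : Q (e + f) = 1 := by simpa using Q_pair' h 1 1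
  obtain ⟨g, hg, hv⟩ := exists_Og hG (hG.refl_mul_refl_mem (v := d • e + c • f) (v' := e + f)
    (by rw [h1]; exact one_ne_zero) (by rw [h2]; exact one_ne_zero) (by rw [h1, h2]))
  refine ⟨g, hg, fun v => ?_⟩
  rw [hv, LinearEquiv.mul_apply, refl_apply, refl_apply, h1, h2]
  simp only [polar_add_left, polar_add_right, polar_sub_right, polar_smul_left, polar_smul_right, h.polar_left,
    h.polar_right, h.pair, h.pair', smul_eq_mul, inv_one, one_mul]
  match_scalars
  · ring
  · linear_combination (polar Q e v) * hc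
  · linear_combination (polar Q f v) * hc

theorem IsDg.mul_eq (h : Hyp Q e f) {l k : F} (hl : l * k = 1) {g g' : GL (Fin n) F} (hg : IsDg Q e f l k g)
    (hg' : IsDg Q e f k l g') : g' * g = 1 := by
  refine gl_ext fun v => ?_
  rw [mul_mv, hg', hg, Units.val_one, Matrix.one_mulVec]
  simp only [polar_add_right, polar_smul_right, h.polar_left, h.polar_right, h.pair, h.pair', smul_eq_mul]
  match_scalars
  · ring
  · linear_combination (polar Q f v) * hl
  · linear_combination (polar Q e v) * hl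

theorem IsDg.conj (hG : Good Q) (h : Hyp Q e f) {l k : F} (hl : l * k = 1) {g g' : GL (Fin n) F}
    (hg : IsDg Q e f l k g) (hg' : IsDg Q e f k l g') {t : GL (Fin n) F} (ht : t ∈ Og Q)
    (hW : t ∈ St (Submodule.span F {e, f})) : t * g * t⁻¹ = g ∨ t * g * t⁻¹ = g⁻¹ := by
  obtain ⟨a, b, hab, ⟨e1, e2⟩ | ⟨e1, e2⟩⟩ := fix_or_swap hG h ht hW
  · left
    rw [mul_inv_eq_iff_eq_mul]
    refine gl_ext fun v => ?_
    have h1 := polar_Og hG ht e v
    have h2 := polar_Og hG ht f v
    rw [e1, polar_smul_left, smul_eq_mul] at h1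
    rw [e2, polar_smul_left, smul_eq_mul] at h2
    rw [mul_mv, mul_mv, hg, hg, Matrix.mulVec_add, Matrix.mulVec_add, Matrix.mulVec_smul, Matrix.mulVec_smul, e1, e2,
      ← h1, ← h2]
    match_scalars
    · ring
    · linear_combination ((l - 1) * polar Q f ((t : Matrix (Fin n) (Fin n) F) *ᵥ v)) * hab
    · linear_combination ((k - 1) * polar Q e ((t : Matrix (Fin n) (Fin n) F) *ᵥ v)) * hab
  · right
    rw [← eq_inv_of_mul_eq_one_left (hg.mul_eq h hl hg'), mul_inv_eq_iff_eq_mul]
    refine gl_ext fun v => ?_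
    have h1 := polar_Og hG ht e v
    have h2 := polar_Og hG ht f v
    rw [e1, polar_smul_left, smul_eq_mul] at h1
    rw [e2, polar_smul_left, smul_eq_mul] at h2
    rw [mul_mv, mul_mv, hg, hg', Matrix.mulVec_add, Matrix.mulVec_add, Matrix.mulVec_smul, Matrix.mulVec_smul, e1, e2,
      ← h1, ← h2]
    match_scalars
    · ring
    · linear_combination ((l - 1) * polar Q e ((t : Matrix (Fin n) (Fin n) F) *ᵥ v)) * hab
    · linear_combination ((k - 1) * polar Q f ((t : Matrix (Fin n) (Fin n) F) *ᵥ v)) * hab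

theorem exists_sq_ne (hq : 4 ≤ Fintype.card F) : ∃ c : F, c ≠ 0 ∧ c * c ≠ 1 := by
  classical
  by_contra hc
  push Not at hc
  have h1 : (Finset.univ : Finset F) ⊆ {0, 1, -1} := fun c _ => by
    by_cases h0 : c = 0
    · simp [h0]
    · rcases mul_self_eq_one_iff.1 (hc c h0) with h | h <;> simp [h]
  have h2 := Finset.card_le_card h1
  have h3 : ({0, 1, -1} : Finset F).card ≤ 3 := Finset.card_le_three
  rw [Finset.card_univ] at h2
  omega

theorem big_case (h : Ln Q m T B) (hq : 4 ≤ Fintype.card F) (hef : Hyp Q e f) (hT : T ≤ St (Submodule.span F {e, f})) :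
    False := by
  have hG := h.good
  obtain ⟨c, hc0, hc⟩ := exists_sq_ne hq
  have hcd : c * c⁻¹ = 1 := mul_inv_cancel₀ hc0
  obtain ⟨g, hg, hdg⟩ := exists_dg hG hef hcd
  obtain ⟨g', -, hdg'⟩ := exists_dg hG hef (c := c⁻¹) (d := c) (by rw [mul_comm, hcd])
  have hl : c * c * (c⁻¹ * c⁻¹) = 1 := by linear_combination (c * c⁻¹ + 1) * hcd
  have key : ∀ t ∈ T, t * g * t⁻¹ = g ∨ t * g * t⁻¹ = g⁻¹ := fun t ht => hdg.conj hG hef hl hdg' (h.leX ht) (hT ht)
  have hmem : ∀ x : GL (Fin n) F, x ∈ Subgroup.centralizer {g} ↔ x * g * x⁻¹ = g := fun x => by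
    rw [Subgroup.mem_centralizer_singleton_iff, mul_inv_eq_iff_eq_mul]
  rcases normal_cases (N := Subgroup.centralizer {g}) h.simple (fun t ht x _ hx => by
    rw [hmem] at hx ⊢
    rcases key t⁻¹ (inv_mem ht) with h1 | h1
    · calc t * x * t⁻¹ * g * (t * x * t⁻¹)⁻¹ = t * (x * (t⁻¹ * g * t⁻¹⁻¹) * x⁻¹) * t⁻¹ := by group
        _ = t * (t⁻¹ * g * t⁻¹⁻¹) * t⁻¹ := by rw [h1, hx]
        _ = g := by group
    · calc t * x * t⁻¹ * g * (t * x * t⁻¹)⁻¹ = t * (x * (t⁻¹ * g * t⁻¹⁻¹) * x⁻¹) * t⁻¹ := by group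
        _ = t * (x * g * x⁻¹)⁻¹ * t⁻¹ := by rw [h1]; group
        _ = t * (t⁻¹ * g * t⁻¹⁻¹) * t⁻¹ := by rw [h1, hx]
        _ = g := by group) with h1 | h1
  · refine h.nab (soc_comm fun a ha b hb => ?_)
    rcases key a ha with h2 | h2
    · exact scalar_comm (h1 a ha ((hmem a).2 h2)) b
    rcases key b⁻¹ (inv_mem hb) with h3 | h3
    · have h4 := scalar_comm (h1 _ (inv_mem hb) ((hmem _).2 h3)) a
      calc a * b = b * (b⁻¹ * a) * b := by group
        _ = b * a := by rw [h4]; group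
    · have h4 : a * b⁻¹ ∈ Subgroup.centralizer {g} := by
        rw [hmem]
        calc a * b⁻¹ * g * (a * b⁻¹)⁻¹ = a * (b⁻¹ * g * b⁻¹⁻¹) * a⁻¹ := by group
          _ = (a * g * a⁻¹)⁻¹ := by rw [h3]; group
          _ = g := by rw [h2, inv_inv]
      have h5 := scalar_comm (h1 _ (mul_mem ha (inv_mem hb)) h4) b
      calc a * b = a * b⁻¹ * b * b := by group
        _ = b * a := by rw [h5]; group
  · have h2 : ∀ t ∈ T, g * t = t * g := by
      intro t ht
      obtain ⟨x, hx, z, hz, rfl⟩ := h1 t ht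
      rw [Subgroup.mem_centralizer_singleton_iff] at hx
      calc g * (x * z) = x * (g * z) := by rw [← mul_assoc, ← hx, mul_assoc]
        _ = x * z * g := by rw [← scalar_comm hz, mul_assoc]
    obtain ⟨w, hw0, -, hw1, hw2⟩ := hG.perp e f hef
    have h3 := scalar_fix (h.cen g hg h2) hw0 (by rw [hdg, hw1, hw2]; simp) e
    rw [hdg, hef.polar_left, hef.pair'] at h3
    have h4 : (c * c - 1) • e = 0 := by simpa using h3
    exact hc (sub_eq_zero.1 ((smul_eq_zero.1 h4).resolve_right hef.left_ne))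

/-! ### moving the plane by `B` -/

theorem move (h : Pr Q m T B) {W : Submodule F (Fin n → F)} (hT : T ≤ St W) {g : GL (Fin n) F} (hg : g ∈ Og Q) :
    ∃ b ∈ B, (∀ w ∈ W, ∃ w' ∈ W, (g : Matrix (Fin n) (Fin n) F) *ᵥ w = (b : Matrix (Fin n) (Fin n) F) *ᵥ w') ∧
      ∀ w ∈ W, ∃ w' ∈ W, (b : Matrix (Fin n) (Fin n) F) *ᵥ w = (g : Matrix (Fin n) (Fin n) F) *ᵥ w' := by
  obtain ⟨b, hb, t, ht, rfl⟩ := h.symm.fac g hg
  exact ⟨b, hb, fun w hw => ⟨_, mem_St.1 (hT ht) w hw, mul_mv b t w⟩,
    fun w hw => ⟨_, mem_St.1 (hT (inv_mem ht)) w hw, by rw [mul_mv, mv_inv]⟩⟩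

theorem exists_pair (hG : Good Q) {e' f' : Fin n → F} (h : Hyp Q e f) (h' : Hyp Q e' f') :
    ∃ g ∈ Og Q, (g : Matrix (Fin n) (Fin n) F) *ᵥ e = e' ∧ (g : Matrix (Fin n) (Fin n) F) *ᵥ f = f' := by
  obtain ⟨x, hx, h1, h2⟩ := hG.trans_hyp h h'
  obtain ⟨g, hg, hv⟩ := exists_Og hG hx
  exact ⟨g, hg, by rw [hv, h1], by rw [hv, h2]⟩

/-- the plane is not invariant under the field -/
theorem inv_case (h : Pr Q m T B) (hK : IsFieldSubalgebra s K) (hs : 2 ≤ s) (hB : B ≤ subalgebraNormalizer K)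
    (hef : Hyp Q e f) (hT : T ≤ St (Submodule.span F {e, f})) : ¬ kw K (Submodule.span F {e, f}) ≤ Submodule.span F {e, f} := by
  intro hle
  have hG := h.good
  obtain ⟨y, hy, hys⟩ := exists_nonscalar hK hs
  obtain ⟨w, hw0, hwQ, hw1, hw2⟩ := hG.perp e f hef
  have hef' : Hyp Q e (f + w) := ⟨hef.left, by rw [Q_add, hef.right, hwQ, hw2]; simp,
    by rw [polar_add_right, hef.pair, hw1, add_zero]⟩
  obtain ⟨g, hg, h1, h2⟩ := exists_pair hG hef hef'
  obtain ⟨b, hb, hb1, hb2⟩ := move h hT hg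
  obtain ⟨x, hx, e1⟩ := hb1 e (left_mem e f)
  obtain ⟨y', hy', e2⟩ := exists_conj' (hB hb) hy
  obtain ⟨x', hx', e3⟩ := hb2 _ (hle (mv_kw hy' hx))
  obtain ⟨a, c, rfl⟩ := Submodule.mem_span_pair.1 hx'
  rw [← e2, ← e1, h1, Matrix.mulVec_add, Matrix.mulVec_smul, Matrix.mulVec_smul, h1, h2] at e3
  obtain ⟨z, hz, hz1, hz2⟩ := exists_hyp_perp hG.nondeg hef hwQ hw0 hw1 hw2
  have h3 := mem_pp.1 (mem_pp_pair hz1 hz2) _ (hle (mv_kw hy (left_mem e f)))
  rw [e3] at h3
  simp only [polar_add_left, polar_smul_left, hz1, hz2, hz.pair, smul_eq_mul] at h3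
  have h4 : c = 0 := by linear_combination h3
  exact no_eigen hK hy hys hef.left_ne a (by rw [e3, h4, zero_smul, add_zero])

/-- if the plane spans everything then `K u` is orthogonal to `u` for singular `u` -/
theorem top_sing (h : Pr Q m T B) (hK : IsFieldSubalgebra s K) (hs : s < n) (hB : B ≤ subalgebraNormalizer K)
    (hef : Hyp Q e f) (hT : T ≤ St (Submodule.span F {e, f})) (htop : kw K (Submodule.span F {e, f}) = ⊤)
    {y : Matrix (Fin n) (Fin n) F} (hy : y ∈ K) {u : Fin n → F} (hu : Q u = 0) : polar Q u (y *ᵥ u) = 0 := by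
  by_contra hne
  have hG := h.good
  set x := (polar Q u (y *ᵥ u))⁻¹ • y *ᵥ u with hx
  have hux : polar Q u x = 1 := by rw [hx, polar_smul_right, smul_eq_mul, inv_mul_cancel₀ hne]
  have huv : Hyp Q u (x - Q x • u) := by
    refine ⟨hu, ?_, ?_⟩
    · rw [sub_eq_add_neg, ← neg_smul, Q_add, QuadraticMap.map_smul Q (-Q x), hu, polar_smul_right, polar_comm Q x u, hux]
      simp
    · rw [polar_sub_right, polar_smul_right Q (Q x), polar_self_of_sing hu, hux]
      simp
  have hmem : x - Q x • u ∈ kv K u :=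
    Submodule.sub_mem _ (Submodule.smul_mem _ _ ⟨y, hy, rfl⟩) (Submodule.smul_mem _ _ (self_kv u))
  obtain ⟨g, hg, h1, h2⟩ := exists_pair hG hef huv
  obtain ⟨b, hb, -, hb2⟩ := move h hT hg
  have h3 : kw K (Submodule.span F {e, f}) ≤ (kv K u).comap (Matrix.toLin' (b : Matrix (Fin n) (Fin n) F)) := by
    refine kw_le (fun z hz v hv => ?_) (fun w hw => ?_)
    · rw [Submodule.mem_comap, Matrix.toLin'_apply] at hv ⊢
      obtain ⟨z', hz', e1⟩ := exists_conj (hB hb) hz
      rw [e1]
      exact kv_inv u z' hz' _ hv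
    · rw [Submodule.mem_comap, Matrix.toLin'_apply]
      obtain ⟨w', hw', e1⟩ := hb2 w hw
      obtain ⟨a, c, rfl⟩ := Submodule.mem_span_pair.1 hw'
      rw [e1, Matrix.mulVec_add, Matrix.mulVec_smul, Matrix.mulVec_smul, h1, h2]
      exact Submodule.add_mem _ (Submodule.smul_mem _ _ (self_kv u)) (Submodule.smul_mem _ _ hmem)
  have h4 : (⊤ : Submodule F (Fin n → F)) ≤ kv K u := fun v _ => by
    have h5 : ((b⁻¹ : GL (Fin n) F) : Matrix (Fin n) (Fin n) F) *ᵥ v ∈ kw K (Submodule.span F {e, f}) := by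
      rw [htop]
      trivial
    have h6 := h3 h5
    rwa [Submodule.mem_comap, Matrix.toLin'_apply, mv_inv] at h6
  have h5 := (Submodule.finrank_mono h4).trans (finrank_kv hK u)
  rw [finrank_top, finrank_fintype_fun_eq_card, Fintype.card_fin] at h5
  omega

/-- a quadratic form which vanishes on the singular vectors is a multiple of `Q` -/
theorem form_eq (hG : Good Q) (P : QuadraticForm F (Fin n → F)) (hP : ∀ u, Q u = 0 → P u = 0) :
    ∃ c : F, ∀ v, P v = c * Q v := by
  obtain ⟨e, f, hef⟩ := hG.exists_hyp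
  obtain ⟨x, y, hxy, h1, h2, h3, h4⟩ := hG.exists_hyp2 hef
  have key : ∀ {a b : Fin n → F}, (a = e ∨ a = f) → ∀ w, polar Q e w = 0 → polar Q f w = 0 → polar P a w = 0 := by
    intro a b ha w hw1 hw2
    refine sing_induction_perp (P := fun v => polar P a v = 0) hxy h1 h2 h3 h4
      (fun c d _ _ _ _ h5 h6 => by rw [polar_add_right, h5, h6, add_zero]) (fun c hc h5 h6 => ?_) w hw1 hw2
    have ha0 : Q a = 0 := by
      rcases ha with rfl | rfl
      · exact hef.left
      · exact hef.right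
    have hac : polar Q a c = 0 := by
      rcases ha with rfl | rfl
      · exact h5
      · exact h6
    have h7 := hP (a + c) (by rw [Q_add, ha0, hc, hac]; simp)
    rw [Q_add, hP a ha0, hP c hc] at h7
    simpa using h7
  refine ⟨polar P e f, fun v => ?_⟩
  have hw1 := polar_proj_left hef v
  have hw2 := polar_proj_right hef v
  have hv : v = (polar Q f v • e + polar Q e v • f) + proj Q e f v := by rw [LieClassical.OrthTrans.proj]; module
  generalize proj Q e f v = w at hw1 hw2 hv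
  generalize polar Q f v = a at hv
  generalize polar Q e v = b at hv
  have k1 := key (b := e) (Or.inl rfl) w hw1 hw2
  have k2 := key (b := e) (Or.inr rfl) w hw1 hw2
  have h5 := hP _ (sing_vec hef hw1 hw2)
  rw [sub_eq_add_neg, ← neg_smul, Q_add, Q_add, QuadraticMap.map_smul, polar_smul_right, polar_add_left,
    hP e hef.left, hP f hef.right, k1, polar_comm P w f, k2] at h5
  rw [hv, Q_add, Q_add (Q := Q), Q_pair' hef, Q_add]
  simp only [QuadraticMap.map_smul, polar_add_left, polar_smul_left, polar_smul_right, hP e hef.left, hP f hef.right,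
    k1, k2, hw1, hw2, smul_eq_mul] at h5 ⊢
  linear_combination h5

theorem adj_of_sing (hG : Good Q) {y : Matrix (Fin n) (Fin n) F} (hy : ∀ u, Q u = 0 → polar Q u (y *ᵥ u) = 0) :
    ∃ c : F, ∀ u v, polar Q (y *ᵥ u) v = polar Q u (c • v - y *ᵥ v) := by
  let P : QuadraticForm F (Fin n → F) := LinearMap.BilinMap.toQuadraticMap ((polarBilin Q).compl₂ (Matrix.toLin' y))
  have hP : ∀ v, P v = polar Q v (y *ᵥ v) := fun v => rfl
  obtain ⟨c, hc⟩ := form_eq hG P (fun u hu => by rw [hP, hy u hu])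
  refine ⟨c, fun u v => ?_⟩
  have h1 := hc (u + v)
  have h2 := hc u
  have h3 := hc v
  rw [hP] at h1 h2 h3
  rw [Matrix.mulVec_add, Q_add, polar_add_left, polar_add_right, polar_add_right, polar_comm Q v (y *ᵥ u)] at h1
  rw [polar_sub_right, polar_smul_right, smul_eq_mul]
  linear_combination h1 - h2 - h3

theorem le_two_of_sing (hG : Good Q) (hK : IsFieldSubalgebra s K) (h2 : (2 : F) ≠ 0)
    (h : ∀ y ∈ K, ∀ u, Q u = 0 → polar Q u (y *ᵥ u) = 0) : s ≤ 2 := by
  by_contra hs
  obtain ⟨z, hz, hzs⟩ := exists_nonscalar hK (by omega)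
  obtain ⟨v, hv, -⟩ := hG.sing
  obtain ⟨c, hc⟩ := adj_of_sing hG (h z hz)
  have hx0 : (2 : F) • z *ᵥ v - c • v ≠ 0 := fun h0 => no_eigen hK hz hzs hv (2⁻¹ * c) (by
    rw [mul_smul, ← sub_eq_zero.1 h0, smul_smul, inv_mul_cancel₀ h2, one_smul])
  have hle : kv K ((2 : F) • z *ᵥ v - c • v) ≤ Submodule.span F {v, z *ᵥ v} := by
    rintro _ ⟨y, hy, rfl⟩
    obtain ⟨d, hd⟩ := adj_of_sing hG (h y hy)
    obtain ⟨k, hk⟩ := adj_of_sing hG (h (y * z) (K.mul_mem hy hz))
    have h3 : k • v - y *ᵥ (z *ᵥ v) = c • (d • v - y *ᵥ v) - z *ᵥ (d • v - y *ᵥ v) := by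
      rw [← sub_eq_zero]
      refine hG.nondeg _ fun u => ?_
      rw [polar_comm, polar_sub_right, ← hc, ← hd, Matrix.mulVec_mulVec, Matrix.mulVec_mulVec, ← hk, sub_self]
    rw [Matrix.mulVec_sub, Matrix.mulVec_smul, Matrix.mulVec_mulVec v z y, hK.comm z hz y hy,
      ← Matrix.mulVec_mulVec] at h3
    refine Submodule.mem_span_pair.2 ⟨k - c * d, d, ?_⟩
    show _ = y *ᵥ ((2 : F) • z *ᵥ v - c • v)
    rw [Matrix.mulVec_sub, Matrix.mulVec_smul, Matrix.mulVec_smul, two_smul, sub_smul, mul_smul]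
    rw [smul_sub] at h3
    linear_combination (exp := 1) h3
  have h4 : finrank F (kv K ((2 : F) • z *ᵥ v - c • v)) = s := by
    have h5 : finrank F (Subalgebra.toSubmodule K) = s := hK.finrank_eq
    rw [← h5, kv, ← LinearMap.range_domRestrict]
    refine LinearMap.finrank_range_of_inj fun a b hab => Subtype.ext (eq_of_mv hK a.2 b.2 hx0 hab)
  have h5 := (Submodule.finrank_mono hle).trans (finrank_pair_le _ _)
  omega

end G2

open G2

theorem boxG2h : BoxG2h := by
  intro F _ _ n m s Q T B K e f h hs hK hB hq hef hT halt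
  by_cases hq4 : 4 ≤ Fintype.card F
  · exact big_case h hq4 hef hT
  have hG := h.good
  have h4 := h.four
  have hd := h.dim
  have hs2 := hs.two_le
  have hsm := le_half h.toSpc hs hK
  have hsm' : s ≤ m := by
    rcases hsm with h1 | h1
    · omega
    · exact Nat.le_of_dvd (by omega) h1
  set W : Submodule F (Fin n → F) := Submodule.span F {e, f} with hW
  have hR2 : finrank F (kw K W) ≤ 2 * s := by
    have h1 : kw K W ≤ kv K e ⊔ kv K f := by
      refine kw_le (fun y hy v hv => ?_) (Submodule.span_le.2 ?_)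
      · obtain ⟨a, ha, b, hb, rfl⟩ := Submodule.mem_sup.1 hv
        rw [Matrix.mulVec_add]
        exact Submodule.add_mem_sup (kv_inv e y hy a ha) (kv_inv f y hy b hb)
      · rintro x (rfl | rfl)
        · exact Submodule.mem_sup_left (self_kv _)
        · exact Submodule.mem_sup_right (self_kv _)
    have h2 := Submodule.finrank_mono h1
    have h3 := Submodule.finrank_add_le_finrank_add_finrank (kv K e) (kv K f)
    have h5 := finrank_kv hK e
    have h6 := finrank_kv hK f
    omega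
  have hR4 : kw K W ≠ ⊤ → finrank F (kw K W) + 4 ≤ n := by
    intro hne
    have h1 := Submodule.finrank_lt hne
    rw [finrank_fintype_fun_eq_card, Fintype.card_fin] at h1
    obtain ⟨a, ha⟩ := dvd_dim (by omega) hK (kw_inv W)
    rcases hsm with h2 | ⟨b, hb⟩
    · omega
    · by_cases h3 : s ≤ 3
      · have h5 : s = 2 ∨ s = 3 := by omega
        rcases h5 with rfl | rfl <;> omega
      · have h5 : s * a < s * (2 * b) := by rw [← ha, mul_left_comm, ← hb]; omega
        have h6 : s * (a + 1) ≤ s * (2 * b) := Nat.mul_le_mul_left s (Nat.lt_of_mul_lt_mul_left h5)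
        rw [mul_add, ← ha, mul_left_comm, ← hb] at h6
        omega
  by_cases htop : kw K W = ⊤
  · rcases halt with - | h1
    · have h2 : (2 : F) ≠ 0 := by
        intro h0
        have h3 : ringChar F = 2 := by
          have := ringChar.dvd (R := F) (x := 2) (by exact_mod_cast h0)
          exact ((Nat.dvd_prime Nat.prime_two).1 this).resolve_left (CharP.ringChar_ne_one)
        have h5 := (FiniteField.even_card_iff_char_two (F := F)).1 h3
        omega
      have h3 := le_two_of_sing hG hK h2 fun y hy u hu => top_sing h.toPr hK (by omega) hB hef hT htop hy hu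
      rw [htop, finrank_top, finrank_fintype_fun_eq_card, Fintype.card_fin] at hR2
      omega
    · refine alt_two hG hK hs2 W (by have := finrank_pair_le e f; rw [← hW] at this; omega) fun g hg hfix => h1 ⟨⟨hg, ?_⟩, ?_⟩
      · exact G2.mem_St.2 fun w hw => by rw [hfix w hw]; exact hw
      · exact G2.mem_St.2 fun w _ => by rw [htop]; trivial
  have hR := hR4 htop
  rcases halt with h1 | h1
  · obtain ⟨z, hz, hzW⟩ := SetLike.not_le_iff_exists.1 (inv_case h.toPr hK hs2 hB hef hT)
    have hz0 : proj Q e f z ≠ 0 := fun h0 => hzW (Submodule.mem_span_pair.2 ⟨polar Q f z, polar Q e z, by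
      rw [LieClassical.OrthTrans.proj] at h0
      linear_combination (exp := 1) -h0⟩)
    obtain ⟨x0, hx0⟩ := hG.nondeg.exists_polar_eq hz0 1
    obtain ⟨x, y, hxy, h2, h3, h5, h6⟩ := hG.exists_hyp2 hef
    obtain ⟨u, hu, heu, hfu, huz⟩ := exists_sing_ne (z := z) hxy h2 h3 h5 h6 (polar_proj_left hef x0)
      (polar_proj_right hef x0) (by
        rw [← polar_proj_of_perp (polar_proj_left hef x0) (polar_proj_right hef x0), polar_comm,
          polar_proj_of_perp (polar_proj_left hef z) (polar_proj_right hef z), hx0]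
        exact one_ne_zero)
    have hle : pp Q (F ∙ u) ≤ kw K W ⊔ F ∙ u := fun v hv => by
      have h7 := mem_pp.1 hv u (Submodule.mem_span_singleton_self u)
      have h8 := alt_one hG h1 hz hu (mem_pp_pair heu hfu) huz
        (mem_pp_pair (polar_proj_left hef v) (polar_proj_right hef v)) (by rw [polar_proj_of_perp heu hfu, h7])
      have hv' : v = (polar Q f v • e + polar Q e v • f) + proj Q e f v := by rw [LieClassical.OrthTrans.proj]; module
      rw [hv']
      exact Submodule.add_mem _ (Submodule.mem_sup_left (le_kw' K W (Submodule.mem_span_pair.2 ⟨_, _, rfl⟩))) h8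
    have h7 := Submodule.finrank_mono hle
    have h8 := finrank_sup_sing (kw K W) u
    have h9 := finrank_sing_le u
    rw [finrank_pp hG.nondeg] at h7
    omega
  · refine alt_two hG hK hs2 (kw K W) hR fun g hg hfix => h1 ⟨⟨hg, ?_⟩, ?_⟩
    · exact G2.mem_St.2 fun w hw => by rw [hfix w (le_kw' K _ hw)]; exact hw
    · exact G2.mem_St.2 fun w hw => by rw [hfix w hw]; exact hw

end Cfsg.Agent.SM.Om
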