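import Cfsg.Agent.SM.Om.Defs
import Cfsg.Agent.SM.CSi.Cnt
import Cfsg.Agent.H955.QClass

/-!
# SM (S3570), socle `PΩ⁻_{2m}(q)`: the numbers of points (helper37)
-/

set_option autoImplicit false
set_option linter.unusedSectionVars false

namespace Cfsg.Agent.SM.Om

open Module QuadraticMap Cfsg Cfsg.Geo Cfsg.Agent.LieClassical.OrthCore Cfsg.Agent.LieClassical.OrthTrans
  Cfsg.Agent.H955
open Cfsg.Agent.SM.CS.Ix (orb ncard_orb card_norm_minus' card_zero_add)
open scoped MatrixGroups Matrix

namespace Idx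

variable {n : ℕ} {F : Type} [Field F] [Fintype F] {Q : QuadraticForm F (Fin n → F)}

theorem orb_eq (hG : Good Q) {v : Fin n → F} (hv : v ≠ 0) : orb (Og Q) v = {w | w ≠ 0 ∧ Q w = Q v} := by
  have hn : 5 ≤ Fintype.card (Fin n) := by
    have h := hG.dim
    rwa [Module.finrank_fintype_fun_eq_card] at h
  ext w
  constructor
  · rintro ⟨g, hg, rfl⟩
    refine ⟨fun h => hv ?_, H925.mem_iso_iff.1 (H925.omegaGL_le_iso _ hg) v⟩
    have h2 : ((g⁻¹ : GL (Fin n) F) : Matrix (Fin n) (Fin n) F) *ᵥ ((g : Matrix (Fin n) (Fin n) F) *ᵥ v) = v := by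
      rw [Matrix.mulVec_mulVec, ← Units.val_mul, inv_mul_cancel, Units.val_one, Matrix.one_mulVec]
    rw [← h2, h, Matrix.mulVec_zero]
  · rintro ⟨h0, hw⟩
    exact H925.exists_trans (H925.isND_of_nondeg hG.nondeg) hn hv h0 hw.symm

theorem ncard_ne_zero : {c : F | c ≠ 0}.ncard = Fintype.card F - 1 := by
  have e : {c : F | c ≠ 0} = Set.univ \ {0} := by
    ext c
    simp
  rw [e, Set.ncard_sdiff_singleton_of_mem (Set.mem_univ _), Set.ncard_univ, Nat.card_eq_fintype_card]

theorem ncard_sq_one : {c : F | c * c = 1}.ncard = Nat.gcd 2 (Fintype.card F - 1) := by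
  have e : {c : F | c * c = 1} = {1, -1} := by
    ext c
    simp only [Set.mem_ofPred_eq, Set.mem_insert_iff, Set.mem_singleton_iff]
    exact mul_self_eq_one_iff
  have h1 : 1 < Fintype.card F := Fintype.one_lt_card
  rw [e]
  by_cases h2 : ringChar F = 2
  · have : CharP F 2 := h2 ▸ ringChar.charP F
    have h3 := FiniteField.even_card_of_char_two h2
    rw [CharTwo.neg_eq, Set.pair_eq_singleton, Set.ncard_singleton]
    have h4 : Nat.Coprime 2 (Fintype.card F - 1) := by
      rw [Nat.coprime_two_left]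
      exact Nat.odd_iff.2 (by omega)
    exact Eq.symm h4
  · have h3 := FiniteField.odd_card_of_char_ne_two h2
    rw [Set.ncard_pair (Ring.neg_one_ne_one_of_char_ne_two h2).symm]
    exact (Nat.gcd_eq_left (by omega)).symm

theorem ncard_partner {x y : Fin n → F} (h : Hyp Q x y) : {f | Hyp Q x f}.ncard = Fintype.card F ^ (n - 2) := by
  have hd := finrank_hperp h
  rw [Module.finrank_fintype_fun_eq_card, Fintype.card_fin] at hd
  have hc : Nat.card (hperp Q x y) = Fintype.card F ^ (n - 2) := by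
    rw [Module.natCard_eq_pow_finrank (K := F), Nat.card_eq_fintype_card,
      show n - 2 = finrank F (hperp Q x y) by omega]
  rw [← hc, ← Nat.card_coe_set_eq]
  symm
  refine Nat.card_congr (Equiv.ofBijective
    (fun w => ⟨y + (w : Fin n → F) - Q (w : Fin n → F) • x, h.left, sing_vec h.symm w.2.2 w.2.1, ?_⟩) ⟨?_, ?_⟩)
  · rw [polar_sub_right, polar_add_right, polar_smul_right, h.pair, w.2.1, h.polar_left]
    simp
  · intro w w' e
    have e1 : y + (w : Fin n → F) - Q (w : Fin n → F) • x = y + (w' : Fin n → F) - Q (w' : Fin n → F) • x :=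
      congrArg Subtype.val e
    have e2 := congrArg (polar Q y) e1
    simp only [polar_sub_right, polar_add_right, polar_smul_right, h.pair', w.2.2, w'.2.2, h.polar_right, smul_eq_mul,
      mul_one, add_zero, zero_sub, neg_inj] at e2
    rw [e2] at e1
    exact Subtype.ext (add_left_cancel (sub_left_injective e1))
  · rintro ⟨f, hf⟩
    have hf' : Hyp Q x f := hf
    refine ⟨⟨proj Q x y f, polar_proj_left h f, polar_proj_right h f⟩, Subtype.ext ?_⟩
    have e1 : Q (hypEquiv h ((hypEquiv h).symm f)) = 0 := by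
      rw [LinearEquiv.apply_symm_apply]
      exact hf'.right
    rw [Q_hypEquiv] at e1
    have e2 : Q (proj Q x y f) + polar Q y f * polar Q x f = 0 := e1
    rw [hf'.pair, mul_one] at e2
    change y + proj Q x y f - Q (proj Q x y f) • x = f
    rw [eq_neg_of_add_eq_zero_left e2, LieClassical.OrthTrans.proj, hf'.pair]
    module

end Idx

theorem boxIdx : BoxIdx := by
  intro F _ _ n m Q v hS hv
  obtain ⟨k, rfl⟩ : ∃ k, m = k + 1 := ⟨m - 1, by have := hS.four; omega⟩
  have hd : finrank F (Fin n → F) = 2 * (k + 1) := by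
    rw [Module.finrank_fintype_fun_eq_card, Fintype.card_fin, hS.dim]
  have ho := ncard_orb (Og Q) hv
  rw [Idx.orb_eq hS.good hv] at ho
  rw [Nat.add_sub_cancel]
  have hq : 1 < Fintype.card F := Fintype.one_lt_card
  refine ⟨fun h0 => ⟨?_, ?_⟩, fun h0 => ?_⟩
  · have e1 : {c : F | c • v ∈ {w | w ≠ 0 ∧ Q w = Q v}} = {c : F | c ≠ 0} := by
      ext c
      simp only [Set.mem_ofPred_eq, QuadraticMap.map_smul, h0, smul_zero, and_true, ne_eq, smul_eq_zero, hv, or_false]
    rw [e1, Idx.ncard_ne_zero] at ho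
    have e2 : {w | w ≠ 0 ∧ Q w = Q v} = {w | Q w = 0} \ {0} := by
      ext w
      simp only [Set.mem_ofPred_eq, h0, Set.mem_sdiff, Set.mem_singleton_iff, ne_eq]
      exact and_comm
    rw [e2, Set.ncard_sdiff_singleton_of_mem (by simp)] at ho
    have h1 := card_zero_add hS.good.nondeg hd
    rw [card_norm_minus' hS.good.nondeg hd hS.minus one_ne_zero, Nat.card_eq_fintype_card (α := F)] at h1
    have h2 : Nat.card {w : Fin n → F // Q w = 0} = {w | Q w = 0}.ncard := Nat.card_coe_set_eq _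
    rw [h2] at h1
    change (St (F ∙ v)).relIndex (Og Q) * _ = _
    rw [← ho]
    obtain ⟨a, ha⟩ : ∃ a, Fintype.card F = a + 1 := ⟨Fintype.card F - 1, by omega⟩
    obtain ⟨b, hb⟩ : ∃ b, Fintype.card F ^ k = b + 1 := ⟨Fintype.card F ^ k - 1, by
      have := Nat.pos_of_ne_zero (pow_ne_zero k (by omega : Fintype.card F ≠ 0))
      omega⟩
    rw [mul_comm 2, pow_mul, pow_succ _ k, hb] at h1
    rw [pow_succ, hb, Nat.add_sub_cancel]
    rw [ha, Nat.add_sub_cancel] at h1
    rw [ha]
    have h3 : {w | Q w = 0}.ncard = ((b + 1) * (a + 1) + 1) * b + 1 := by nlinarith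
    rw [h3, Nat.add_sub_cancel]
  · obtain ⟨y, hy⟩ := exists_hyp hS.good.nondeg h0 hv
    exact Idx.ncard_partner hy
  · have e1 : {c : F | c • v ∈ {w | w ≠ 0 ∧ Q w = Q v}} = {c : F | c * c = 1} := by
      ext c
      simp only [Set.mem_ofPred_eq, QuadraticMap.map_smul, smul_eq_mul]
      constructor
      · rintro ⟨-, h⟩
        exact mul_right_cancel₀ h0 (by rw [h, one_mul])
      · intro h
        refine ⟨smul_ne_zero (fun hc => ?_) hv, by rw [h, one_mul]⟩
        rw [hc, mul_zero] at h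
        exact zero_ne_one h
    rw [e1, Idx.ncard_sq_one] at ho
    have e2 : {w | w ≠ 0 ∧ Q w = Q v} = {w | Q w = Q v} := by
      ext w
      simp only [Set.mem_ofPred_eq, and_iff_right_iff_imp]
      rintro h rfl
      exact h0 (by rw [← h, map_zero])
    rw [e2] at ho
    have h2 : Nat.card {w : Fin n → F // Q w = Q v} = {w | Q w = Q v}.ncard := Nat.card_coe_set_eq _
    change (St (F ∙ v)).relIndex (Og Q) * _ = _
    rw [← ho, ← h2, card_norm_minus' hS.good.nondeg hd hS.minus h0, Nat.card_eq_fintype_card]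

end Cfsg.Agent.SM.Om
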