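import Cfsg.Agent.SM.Om.Defs
import Cfsg.Agent.H100.Ppd.StructC

/-!
# SM (S3570), family `fM`: the structure theorem for a prime `r > n` (helper18)
-/

set_option autoImplicit false

namespace Cfsg.Agent.SM.Om

open Cfsg Cfsg.Geo Matrix Cfsg.Agent.H884.El Cfsg.Agent.H251.GeoCard
open Cfsg.Agent.H278.Cov (Red Ext)

theorem boxSt : BoxSt := by
  intro F _ _ n k r H hq hn hkn hk hpp h hr hH
  have hF : 1 ≤ Nat.card F := Finite.one_lt_card.le
  have hnd : ¬ r ∣ Nat.card F := h.not_dvd (by omega)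
  have nd : ∀ d, d < k → ¬ Div r (Nat.card F) d := fun d hd ⟨i, h1, h2, h3⟩ => by
    have := Nat.le_of_dvd h1 ((h.dvd_iff hF i).1 h3)
    omega
  have hne : Nonempty (Fin n) := ⟨⟨0, by omega⟩⟩
  have cd : ∀ {X : Subgroup (GL (Fin n) F)}, H ≤ X → r ∣ Nat.card X := fun e => hH.trans (Subgroup.card_dvd_of_le e)
  by_cases hred : Red H
  · exact Or.inl hred
  refine Or.inr ?_
  have hirr : ActsIrreducibly (matrixSet H) := fun W hW => by
    by_contra e
    push Not at e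
    refine hred ⟨W, e.1, e.2, fun x hx v => ⟨fun hv => hW _ ⟨x, hx, rfl⟩ ⟨v, hv, rfl⟩, fun hv => ?_⟩⟩
    have h1 : ((x⁻¹ : GL (Fin n) F) : Matrix (Fin n) (Fin n) F) *ᵥ ((x : Matrix (Fin n) (Fin n) F) *ᵥ v) ∈ W :=
      hW _ ⟨x⁻¹, H.inv_mem hx, rfl⟩ ⟨_, hv, rfl⟩
    rwa [mulVec_mulVec, ← Units.val_mul, inv_mul_cancel, Units.val_one, one_mulVec] at h1
  rcases H917.lin_split (H := H) (by rw [Fintype.card_fin]; omega) with ⟨W, hW0, hW1, hHW⟩ | ⟨t, d, D, hD, hHD⟩ |
      ⟨s, K, hs, hK, hHK⟩ | ⟨n₁, n₂, e, P, h1, h2, hHP⟩ | ⟨-, hspan⟩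
  · exact (hred ⟨W, hW0, hW1, hHW⟩).elim
  · have htd : t * d = n := (H922.mul_eq_card hD).trans (Fintype.card_fin n)
    have ht := hD.two_le
    have hd := hD.pos
    rcases decomp hD h.prime hnd (cd hHD) with h1 | h1
    · nlinarith
    · exact (nd d (by nlinarith) h1).elim
  · have hsn : s ∣ n := Fintype.card_fin n ▸ H100.Ppd.dvd_card_of_field hK
    refine Or.inl ⟨s, K, hs, Nat.dvd_gcd hsn ?_, hK, hHK⟩
    rcases extension hs hK h.prime hnd (cd hHK) with h1 | ⟨i, h1, h2, h3⟩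
    · have := Nat.le_of_dvd (by omega) hsn
      omega
    · rw [← pow_mul, h.dvd_iff hF] at h3
      rw [Fintype.card_fin] at h2
      have h4 : n / s ≤ n / 2 := Nat.div_le_div_left hs.two_le (by norm_num)
      by_contra hcon
      have := Nat.le_of_dvd h1 (((Nat.Prime.coprime_iff_not_dvd hs).2 hcon).symm.dvd_of_dvd_mul_left h3)
      omega
  · have h3 : n = n₁ * n₂ := by simpa using Fintype.card_congr e
    refine (nd _ ?_ (tensor e P h.prime hnd (cd hHP))).elim
    rw [max_lt_iff]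
    constructor <;> nlinarith
  rcases H919.C_split H hirr (by rw [Fintype.card_fin]; omega) hspan with
    ⟨N, hNH, hN, hNs, hNc⟩ | ⟨d, t, e, P, E, hW⟩ | ⟨P, hP⟩
  · obtain ⟨s, c, R, -, -, -, -, htype, -, hc, hcard, -⟩ := H920.exists_symplecticType hspan hNH hN hNs hNc
    rw [Fintype.card_fin] at hcard
    exact (hpp ⟨s, c, htype.prime.prime, hc, hcard.symm⟩).elim
  · have h3 : n = d ^ t := by simpa using Fintype.card_congr e
    have h1 := hW.two_le_m
    have h2 := hW.two_le_t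
    rcases wreath e P h.prime hnd (cd hW.wreath) with h4 | h4
    · have h5 : t < d ^ t := Nat.lt_pow_self h1
      omega
    · refine (nd d ?_ h4).elim
      have h5 : d ^ 2 ≤ d ^ t := Nat.pow_le_pow_right (by omega) h2
      nlinarith
  · refine Or.inr ⟨P, hP.le, H915.LD.core_of_residual (hP.isResidualCore fun F₀ hF₀ hreal => ?_), hP.normal⟩
    obtain ⟨F₁, s, B, -, -, hs, hcard, -⟩ := H914.exists_le_subfieldSubgroup hP.normal hP.absIrred hF₀ hreal
    rw [Nat.card_eq_fintype_card] at hcard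
    exact hs.one_lt.ne' (Nat.Prime.eq_one_of_pow (hcard ▸ hq))

end Cfsg.Agent.SM.Om
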