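import Cfsg.Agent.SM.Om.Sv
import Cfsg.Agent.SM.Om.Defs2

/-!
# SM (S3570), socle `Ω⁻₂₀(2)`: the box `BoxK2` (helper25)
-/

set_option autoImplicit false

namespace Cfsg.Agent.SM.Om

open Cfsg Cfsg.Agent.H884.El Cfsg.Agent.OrdDiv Sv

theorem Sv.c20' : (cands l20 (prodl l20)).all (chk l20 (tst 1 41 [19]) 2 41 20 true []) = true := by decide +kernel

theorem boxK2_of (hSt : BoxSt) (hDf : BoxDf) : BoxK2 := by
  intro F _ _ n Q X h hX hnX hq h41 h19
  obtain rfl : n = 2 * 10 := h.dim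
  have hr : PP 2 20 41 := pp_of (by decide) (by decide) (by decide) (by decide)
  have hr' : PP (Nat.card F) (2 * 10) 41 := by rwa [Nat.card_eq_fintype_card, hq]
  rcases hSt F (2 * 10) (2 * 10) 41 X (hq ▸ Nat.prime_two) (by omega) le_rfl (by omega)
    (not_pp Nat.prime_two Nat.prime_five (by omega) (by omega) (by omega)) hr' (by omega) h41 with
    k | ⟨s, K, k1, -, k2, k3⟩ | ⟨P, k1, k2, k3⟩
  · exact absurd k (not_red h hX hr' h41)
  · exact ⟨41, s, K, hr', h41, k1, k2, k3⟩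
  · obtain ⟨c, c1, -⟩ := core hDf h hX hnX hq Nat.prime_two (by omega) (by omega) le_rfl (by omega) hr (by omega) h41
      (List.mem_singleton_self 19) h19 v20 (by decide +kernel) (fun _ => rfl) c20' k1 k2 k3
    exact absurd c1 List.not_mem_nil

end Cfsg.Agent.SM.Om
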