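import Cfsg.Agent.SM.Om.Alt
import Cfsg.Agent.SM.Alt.JaB
import Cfsg.Agent.SM.Alt.MatB
import Cfsg.Agent.H411.SteinerCount
import Cfsg.Agent.OrdDiv.Table
import Cfsg.Agent.S0000

/-!
# SM (S3570): the count in degree `495`, `box495` (helper6)

`A_12` acts on the `495` points as on the tetrads; the graph of valency `256` is "odd intersection".
-/

set_option autoImplicit false
set_option linter.unusedSectionVars false

namespace Cfsg.Agent.SM.Om.Te

open Cfsg Equiv Equiv.Perm MulAction Cfsg.Agent.SM.Alt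
open scoped Pointwise

section sets

variable {α : Type} [Fintype α] [DecidableEq α]

/-- two colourings with the same class sizes differ by an even permutation -/
theorem exists_even {β : Type} [Fintype β] [DecidableEq β] (h : Fintype.card β < Fintype.card α) (f f' : α → β)
    (hf : ∀ b, (Finset.univ.filter fun x => f x = b).card = (Finset.univ.filter fun x => f' x = b).card) :
    ∃ σ ∈ alternatingGroup α, ∀ x, f' (σ x) = f x := by
  let e : Perm α := Equiv.ofFiberEquiv (f := f) (g := f') fun b =>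
    Fintype.equivOfCardEq (by rw [Fintype.card_subtype, Fintype.card_subtype]; exact hf b)
  have he : ∀ x, f' (e x) = f x := Equiv.ofFiberEquiv_map _
  obtain ⟨x, y, hxy, h1⟩ := Fintype.exists_ne_map_eq_of_card_lt f h
  rcases Int.units_eq_one_or (sign e) with k | k
  · exact ⟨e, k, he⟩
  · refine ⟨e * swap x y, by rw [mem_alternatingGroup, map_mul, k, sign_swap hxy, neg_mul_neg, one_mul], fun z => ?_⟩
    rw [Perm.mul_apply, he, Equiv.apply_swap_eq_self h1]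

theorem smul_eq {σ : Perm α} {A B : Finset α} (h : ∀ x, σ x ∈ B ↔ x ∈ A) : σ • A = B := by
  ext y
  rw [← Finset.inv_smul_mem_iff, ← h]
  exact Iff.of_eq (congrArg (· ∈ B) (σ.apply_symm_apply y))

/-- pairs of sets with the same sizes -/
theorem exists_pair (h : 4 < Fintype.card α) {A A' B B' : Finset α} (hA : A.card = A'.card) (hB : B.card = B'.card)
    (hI : (B ∩ A).card = (B' ∩ A').card) : ∃ σ ∈ alternatingGroup α, σ • A = A' ∧ σ • B = B' := by
  have k : ∀ (A B : Finset α) (b : Bool × Bool), (Finset.univ.filter fun x => (decide (x ∈ A), decide (x ∈ B)) = b).card =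
      if b.1 then if b.2 then (B ∩ A).card else A.card - (B ∩ A).card
      else if b.2 then B.card - (B ∩ A).card else Fintype.card α - (B.card + A.card - (B ∩ A).card) := by
    rintro A B ⟨_ | _, _ | _⟩
    · rw [show B.card + A.card - (B ∩ A).card = (B ∪ A).card by have := Finset.card_union_add_card_inter B A; omega,
        ← Finset.card_compl]
      exact congrArg Finset.card (by ext; simp [and_comm])
    · rw [Finset.inter_comm, ← Finset.card_sdiff]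
      exact congrArg Finset.card (by ext; simp [and_comm])
    · rw [← Finset.card_sdiff]
      exact congrArg Finset.card (by ext; simp)
    · exact congrArg Finset.card (by ext; simp [and_comm])
  obtain ⟨σ, h1, h2⟩ := exists_even (by rwa [Fintype.card_prod, Fintype.card_bool])
    (fun x => (decide (x ∈ A), decide (x ∈ B))) (fun x => (decide (x ∈ A'), decide (x ∈ B'))) fun b => by rw [k, k, hA, hB, hI]
  exact ⟨σ, h1, smul_eq fun x => decide_eq_decide.1 (congrArg Prod.fst (h2 x)),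
    smul_eq fun x => decide_eq_decide.1 (congrArg Prod.snd (h2 x))⟩

end sets

variable {Ω : Type} [Fintype Ω] [DecidableEq Ω] {H T P : Subgroup (Perm Ω)} {κ κ' : Ω → Finset (Fin 12)}

/-- `T` acts on `Ω` as on the tetrads -/
structure Tet (T : Subgroup (Perm Ω)) (ρ : T →* Perm (Fin 12)) (κ : Ω → Finset (Fin 12)) : Prop where
  inj : Function.Injective ρ
  kinj : Function.Injective κ
  card : ∀ x, (κ x).card = 4
  sur : ∀ s : Finset (Fin 12), s.card = 4 → ∃ x, κ x = s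
  eqv : ∀ (t : T) x, κ ((t : Perm Ω) x) = ρ t • κ x

/-- odd intersection -/
def D (κ : Ω → Finset (Fin 12)) (a : Ω) : Set Ω := {b | (κ b ∩ κ a).card ∈ ({1, 3} : Finset ℕ)}

theorem index_eq (htr : ∀ x y, ∃ g ∈ P, g x = y) (a : Ω) : (stabilizer P a).index = Fintype.card Ω := by
  have : IsPretransitive P Ω := ⟨fun x y => let ⟨g, hg, e⟩ := htr x y; ⟨⟨g, hg⟩, e⟩⟩
  rw [index_stabilizer_of_transitive, Nat.card_eq_fintype_card]

theorem exists_tet {ψ : P →* Perm (Fin 12)} (h1 : Function.Injective ψ) (h2 : ψ.range = alternatingGroup (Fin 12))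
    (htr : ∀ x y, ∃ g ∈ P, g x = y) (hc : Fintype.card Ω = 495) (a : Ω) : ∃ κ, Tet P ψ κ := by
  have hU : ((stabilizer P a).map ψ).index = 990 := by
    rw [Subgroup.index_map_of_injective _ h1, index_eq htr, hc, h2, alternatingGroup.index_eq_two]
  obtain ⟨Γ, k1, k2, k3, k4⟩ := Al.exists_len ((stabilizer P a).map ψ) (p := 7) (by norm_num) (by rw [hU]; decide +kernel)
    (by norm_num)
  have k5 : Γᶜ.card = 4 := by
    rw [hU] at k4
    rw [Finset.card_compl, Fintype.card_fin, of_not_not fun k =>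
      k4 ((by decide +kernel : ∀ a < 12 + 1, 7 ≤ a → a ≠ 8 → Al.Kill 12 990 a) _ k3 k2 k)]
  choose w hw e using htr a
  have h3 : ∀ g : P, (fun x => ψ ⟨w x, hw x⟩ • Γᶜ) ((g : Perm Ω) a) = ψ g • Γᶜ := fun g => by
    have h4 : (⟨w _, hw ((g : Perm Ω) a)⟩ : P)⁻¹ * g ∈ stabilizer P a := Perm.inv_eq_iff_eq.2 (e _).symm
    have h5 : ψ _ • Γᶜ = Γᶜ := smul_eq fun x => by
      rw [Finset.mem_compl, Finset.mem_compl]
      exact (Al.inv_iff k1 ⟨_, Subgroup.mem_map_of_mem ψ h4⟩ x).not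
    rw [map_mul, map_inv, mul_smul, inv_smul_eq_iff] at h5
    exact h5.symm
  have h4 : ∀ s : Finset (Fin 12), s.card = 4 → ∃ x, ψ ⟨w x, hw x⟩ • Γᶜ = s := fun s hs => by
    obtain ⟨σ, hσ, e1, -⟩ := exists_pair (by simp) (k5.trans hs.symm) (rfl : (∅ : Finset (Fin 12)).card = _) (by simp)
    obtain ⟨g, rfl⟩ : σ ∈ ψ.range := h2.symm ▸ hσ
    exact ⟨_, (h3 g).trans e1⟩
  have h5 : ∀ x, (ψ ⟨w x, hw x⟩ • Γᶜ).card = 4 := fun x => by rw [Finset.card_smul_finset, k5]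
  refine ⟨_, h1, fun x y => ?_, h5, h4, fun t x => ?_⟩
  · refine Finset.injOn_of_surjOn_of_card_le (s := Finset.univ) (t := Finset.univ.powersetCard 4) _
      (fun x _ => Finset.mem_powersetCard_univ.2 (h5 x)) (fun s hs => ?_) (by rw [Finset.card_univ, hc]; decide +kernel)
      (Finset.mem_univ x) (Finset.mem_univ y)
    obtain ⟨x, hx⟩ := h4 s (Finset.mem_powersetCard_univ.1 hs)
    exact ⟨x, Finset.mem_univ x, hx⟩
  · have h6 := h3 (t * ⟨w x, hw x⟩)
    rw [map_mul, mul_smul] at h6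
    exact (congrArg (fun z => ψ ⟨w ((t : Perm Ω) z), hw _⟩ • Γᶜ) (e x).symm).trans h6

/-- the only invariant set with `256` points -/
theorem Tet.eq_D {ψ : P →* Perm (Fin 12)} (t : Tet P ψ κ) (h2 : ψ.range = alternatingGroup (Fin 12)) {a : Ω} {Δ : Set Ω}
    (h : Δ.ncard = 256) (hi : ∀ g ∈ P, g a = a → ∀ b ∈ Δ, g b ∈ Δ) : Δ = D κ a := by
  classical
  have k1 : ∀ b ∈ Δ, ∀ c, (κ b ∩ κ a).card = (κ c ∩ κ a).card → c ∈ Δ := fun b hb c e => by
    obtain ⟨σ, hσ, e1, e2⟩ := exists_pair (by simp) rfl ((t.card b).trans (t.card c).symm) e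
    obtain ⟨g, rfl⟩ : σ ∈ ψ.range := h2.symm ▸ hσ
    exact t.kinj ((t.eqv g b).trans e2) ▸ hi g g.2 (t.kinj ((t.eqv g a).trans e1)) b hb
  have k2 : ∀ b, (κ b ∩ κ a).card ≤ 4 := fun b => t.card a ▸ Finset.card_le_card Finset.inter_subset_right
  let I := Δ.toFinset.image fun b => (κ b ∩ κ a).card
  have k3 : ∑ i ∈ I, Nat.choose 4 i * Nat.choose 8 (4 - i) = 256 := by
    rw [← h, Set.ncard_eq_toFinset_card', Finset.card_eq_sum_card_image fun b => (κ b ∩ κ a).card]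
    refine Finset.sum_congr rfl fun i hI => ?_
    obtain ⟨b, hb, rfl⟩ := Finset.mem_image.1 hI
    have h3 := H411.SteinerCount.card_subsets_inter Finset.univ (κ a) 4 _ (k2 b)
    rw [Finset.univ_inter, ← Finset.compl_eq_univ_sdiff, Finset.card_compl, t.card, Fintype.card_fin] at h3
    refine h3.symm.trans (Finset.card_nbij κ (fun c hc => ?_) t.kinj.injOn fun s hs => ?_).symm
    · exact Finset.mem_filter.2 ⟨Finset.mem_powersetCard_univ.2 (t.card c), (Finset.mem_filter.1 hc).2⟩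
    · obtain ⟨c, rfl⟩ := t.sur s (Finset.mem_powersetCard_univ.1 (Finset.mem_filter.1 hs).1)
      have h4 := (Finset.mem_filter.1 hs).2
      exact ⟨c, Finset.mem_filter.2 ⟨Set.mem_toFinset.2 (k1 b (Set.mem_toFinset.1 hb) c h4.symm), h4⟩, rfl⟩
  have k4 : I = {1, 3} := (by decide +kernel : ∀ I ∈ (Finset.range 5).powerset,
      ∑ i ∈ I, Nat.choose 4 i * Nat.choose 8 (4 - i) = 256 → I = {1, 3}) I (Finset.mem_powerset.2 fun i hI => by
    obtain ⟨b, -, rfl⟩ := Finset.mem_image.1 hI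
    exact Finset.mem_range.2 (Nat.lt_succ_of_le (k2 b))) k3
  ext b
  show _ ↔ _ ∈ ({1, 3} : Finset ℕ)
  rw [← k4, Finset.mem_image]
  exact ⟨fun hb => ⟨b, Set.mem_toFinset.2 hb, rfl⟩, fun ⟨c, hc, e⟩ => k1 c (Set.mem_toFinset.1 hc) b e⟩

theorem Tet.mono {ψ : P →* Perm (Fin 12)} (t : Tet P ψ κ) (h : T ≤ P) : Tet T (ψ.comp (Subgroup.inclusion h)) κ :=
  ⟨t.inj.comp (Subgroup.inclusion_injective h), t.kinj, t.card, t.sur, fun g => t.eqv ⟨g, h g.2⟩⟩

variable {ρ ρ' : T →* Perm (Fin 12)}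

theorem Tet.act2 (t : Tet T ρ κ) (h : Soc H T) (hp : IsPreprimitive H Ω) : @Act T (Fin 12) _ (act ρ) 12 := by
  have := h.simple
  have h1 : Hg ρ.range 4 := fun s s' hs hs' => by
    obtain ⟨x, rfl⟩ := t.sur s hs
    obtain ⟨y, rfl⟩ := t.sur s' hs'
    obtain ⟨g, hg, rfl⟩ := h.trans hp x y
    exact ⟨_, ⟨⟨g, hg⟩, rfl⟩, fun z hz => (t.eqv ⟨g, hg⟩ x).symm ▸ Finset.smul_mem_smul_finset hz⟩
  have h3 := (S0735.result ρ.range (h1.down (by simp) (by norm_num : 2 ≤ 4)).pre (by simp)).1 (by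
    rw [← Nat.card_congr (MonoidHom.ofInjective t.inj).toEquiv]
    exact even_iff_two_dvd.2 (H786.KW.even_card h.nab))
  refine @Act.mk T (Fin 12) _ (act ρ) _ inferInstance (by simp) (fun g k => t.inj ((Perm.ext k).trans (map_one _).symm))
    fun x y z w h4 h5 => ?_
  obtain ⟨⟨_, g, rfl⟩, e1, e2⟩ := is_two_pretransitive_iff.1 h3 h4 h5
  exact ⟨g, e1, e2⟩

/-- the action on the twelve points determines the graph -/
theorem Tet.D_eq (t : Tet T ρ κ) (t' : Tet T ρ' κ') (h : Soc H T) (hp : IsPreprimitive H Ω) (h2 : 2 ≤ Fintype.card Ω)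
    (hs : @Same T (Fin 12) (Fin 12) _ (act ρ) (act ρ')) (a : Ω) : D κ a = D κ' a := by
  obtain ⟨a₁, a₂, hs⟩ := hs
  obtain ⟨β, hβ⟩ := equiv_of_same (ρ₁ := ρ) (ρ₂ := ρ') (@Mat.trans T _ 12 _ (act ρ) (t.act2 h hp) (by norm_num))
    (@Mat.trans T _ 12 _ (act ρ') (t'.act2 h hp) (by norm_num)) hs
  choose f hf using fun x => t'.sur ((β : Perm (Fin 12)) • κ x) (by rw [Finset.card_smul_finset, t.card])
  have h3 : Function.Injective f := fun x y e => t.kinj (smul_left_cancel (β : Perm (Fin 12)) (by rw [← hf, ← hf, e]))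
  have h4 := h.cen_sym hp h2 (g := Equiv.ofBijective f h3.bijective_of_finite) fun g hg => Perm.ext fun x => t'.kinj (by
    show κ' (f (g x)) = κ' (g (f x))
    rw [t'.eqv ⟨g, hg⟩, hf, hf, t.eqv ⟨g, hg⟩, ← mul_smul, ← mul_smul]
    exact congrArg (· • κ x) (Perm.ext (hβ ⟨g, hg⟩)))
  have h5 : ∀ x, κ' x = (β : Perm (Fin 12)) • κ x := fun x => by
    rw [← hf]
    exact congrArg κ' (congrArg (fun σ : Perm Ω => σ x) h4).symm
  ext b
  show _ ∈ ({1, 3} : Finset ℕ) ↔ _ ∈ ({1, 3} : Finset ℕ)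
  rw [h5, h5, ← Finset.smul_finset_inter, Finset.card_smul_finset]

theorem Tet.seven (t : Tet T ρ κ) (h : Soc H T) (hp : IsPreprimitive H Ω) (h7 : 7 ∣ Nat.card T) :
    239500800 ∣ Nat.card T := by
  rw [Nat.card_congr (MonoidHom.ofInjective t.inj).toEquiv] at h7 ⊢
  obtain ⟨Γ, k, k1, -, k2⟩ := Al.exists_orb ρ.range (p := 7) (by norm_num) h7 (by simp)
  have k3 : Γ.card = 12 := by
    obtain ⟨x, hx⟩ := Finset.card_pos.1 (show 0 < Γ.card by omega)
    rw [Finset.eq_univ_of_forall (s := Γ) fun y => ?_, Finset.card_univ, Fintype.card_fin]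
    obtain ⟨g, rfl⟩ := @Mat.trans T _ 12 _ (act ρ) (t.act2 h hp) (by norm_num) x y
    exact k _ ⟨g, rfl⟩ x hx
  have k4 := Al.fact_dvd (by omega) (k2 7 (by norm_num) h7 (by rw [Fintype.card_fin]; omega) (by omega) (by omega))
  rw [k3] at k4
  exact Nat.dvd_of_mul_dvd_mul_left two_pos k4

theorem of_iso (φ : P ≃* alternatingGroup (Fin 12)) : Nat.card P = 239500800 ∧
    ∃ ψ : P →* Perm (Fin 12), Function.Injective ψ ∧ ψ.range = alternatingGroup (Fin 12) := by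
  refine ⟨?_, (alternatingGroup (Fin 12)).subtype.comp φ.toMonoidHom, Subtype.val_injective.comp φ.injective, ?_⟩
  · have h := two_card_alt (Δ := Fin 12) (by simp)
    rw [Fintype.card_fin, ← Nat.card_congr φ.toEquiv, show Nat.factorial 12 = 479001600 from rfl] at h
    omega
  · rw [MonoidHom.range_comp, MonoidHom.range_eq_top.2 φ.surjective, ← MonoidHom.range_eq_map, Subgroup.range_subtype]

end Cfsg.Agent.SM.Om.Te

namespace Cfsg.Agent.SM.Om

open Cfsg Equiv MulAction Te Cfsg.Agent.SM.Alt Cfsg.Agent.OrdDiv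

theorem box495 : Box495 := by
  intro Ω _ _ X H T a O s hp h hc ⟨M₀, hM₀⟩ hO
  have htr := h.trans hp
  have hs := h.simple
  have cnt : ∀ 𝒟 : Set (Set Ω), (∀ M ∈ O, ∀ Δ : Set Ω, Δ.ncard = 256 → (∀ g ∈ M, g a = a → ∀ b ∈ Δ, g b ∈ Δ) → Δ ∈ 𝒟) →
      O.ncard ≤ 𝒟.ncard := fun 𝒟 k => by
    refine s.ncard_le_of_nbhd (fun x y => let ⟨g, hg, e⟩ := htr x y; ⟨g, h.le hg, e⟩) a fun M hM => ?_
    obtain ⟨h1, -, Δ, h2, h3⟩ := hO M hM
    have h4 := Set.ncard_add_ncard_compl Δ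
    rw [Nat.card_eq_fintype_card] at h4
    exact ⟨h1, Δ, k M hM Δ h2 h3, h3, Set.exists_ne_of_one_lt_ncard (by omega) a,
      Set.exists_ne_of_one_lt_ncard (s := Δᶜ) (by omega) a⟩
  have tet : ∀ {P : Subgroup (Perm Ω)}, T ≤ P → (P ≃* alternatingGroup (Fin 12)) → ∃ ρ κ, Tet T ρ κ ∧
      ∀ Δ : Set Ω, Δ.ncard = 256 → (∀ g ∈ P, g a = a → ∀ b ∈ Δ, g b ∈ Δ) → Δ = D κ a := fun hP φ => by
    obtain ⟨-, ψ, h1, h2⟩ := of_iso φ
    obtain ⟨κ, t⟩ := exists_tet h1 h2 (fun x y => let ⟨g, hg, e⟩ := htr x y; ⟨g, hP hg, e⟩) hc a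
    exact ⟨_, κ, t.mono hP, fun Δ => t.eq_D h2⟩
  obtain ⟨hM, ⟨P, hP, hPM, ⟨φ⟩⟩, -⟩ := hO M₀ hM₀
  obtain ⟨ρ, κ, t, ht⟩ := tet hP φ
  have h1 := (of_iso φ).1
  have hd : Nat.card T ∣ 239500800 := h1 ▸ Subgroup.card_dvd_of_le hP
  by_cases h7 : 7 ∣ Nat.card T
  · have h2 := Nat.dvd_antisymm hd (t.seven h hp h7)
    obtain rfl : T = P := Subgroup.eq_of_le_of_card_ge hP (by omega)
    refine ⟨Or.inl h2, (cnt {D κ a} fun M hM Δ k1 k2 => ht Δ k1 fun g hg => k2 g ((hO M hM).1.2 (h.le hg))).trans ?_⟩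
    rw [Set.ncard_singleton]
    norm_num
  have h2 : 495 ∣ Nat.card T := hc ▸ index_eq htr a ▸ Subgroup.index_dvd_card _
  obtain ⟨g, hg, hr⟩ := exists_real_filter OrdDiv.table (S0000.result (G := T)) (fun k => h.nab ⟨⟨k⟩⟩)
    (l := [(2, 9), (3, 5), (5, 2), (7, 1), (11, 1)]) (N := 239500800) (by decide +kernel) hd
    (fun x => decide (495 ∣ x ∧ ¬ 7 ∣ x)) (decide_eq_true ⟨h2, h7⟩)
  rw [show (cands [(2, 9), (3, 5), (5, 2), (7, 1), (11, 1)] 239500800).filter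
    (fun g => decide (495 ∣ ordN g ∧ ¬ 7 ∣ ordN g)) = [Grp.m11, Grp.m12] by decide +kernel] at hg
  rcases List.mem_pair.1 hg with rfl | rfl
  · have h3 := Mat.isM11 hr
    have h4 : H ≤ T := fun x hx => by
      obtain ⟨u, hu⟩ := SectRankFour.AutM11.exists_conj h3 (h.as.aut ⟨x, hx⟩)
      have h5 : (u : Perm Ω)⁻¹ * x = 1 := h.cen _ (H.mul_mem (H.inv_mem (h.le u.2)) hx) fun y hy => by
        have h6 : x * y * x⁻¹ = u * y * (u : Perm Ω)⁻¹ := congrArg (fun φ : MulAut T => (φ ⟨y, hy⟩ : Perm Ω)) hu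
        calc (u : Perm Ω)⁻¹ * x * y = (u : Perm Ω)⁻¹ * (x * y * x⁻¹) * x := by group
          _ = y * ((u : Perm Ω)⁻¹ * x) := by rw [h6]; group
      exact inv_mul_eq_one.1 h5 ▸ u.2
    obtain rfl := (s.eq_or_eq hM (h4.trans hP) hPM.le).resolve_right hPM.ne
    have h5 := Subgroup.card_le_of_le h4
    rw [h1, h3.2] at h5
    omega
  · refine ⟨Or.inr ((Nat.card_congr hr.some.toEquiv).trans MTwelveType.SylowModel.card_M12),
      (cnt {Δ | ∃ ρ κ, Tet T ρ κ ∧ Δ = D κ a} fun M hM Δ k1 k2 => ?_).trans (not_lt.1 fun k => ?_)⟩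
    · obtain ⟨-, ⟨Q, hQ, hQM, ⟨φ'⟩⟩, -⟩ := hO M hM
      obtain ⟨ρ', κ', t', ht'⟩ := tet hQ φ'
      exact ⟨ρ', κ', t', ht' Δ k1 fun g hg => k2 g (hQM.le hg)⟩
    · obtain ⟨_, ⟨ρ₁, κ₁, t₁, rfl⟩, _, ⟨ρ₂, κ₂, t₂, rfl⟩, _, ⟨ρ₃, κ₃, t₃, rfl⟩, k1, k2, k3⟩ := (Set.two_lt_ncard (Set.toFinite _)).1 k
      rcases @Mat.m12_two T _ hr _ _ _ (act ρ₁) (act ρ₂) (act ρ₃) (t₁.act2 h hp) (t₂.act2 h hp) (t₃.act2 h hp) with e | e | e
      · exact k1 (t₁.D_eq t₂ h hp (by omega) e a)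
      · exact k2 (t₁.D_eq t₃ h hp (by omega) e a)
      · exact k3 (t₂.D_eq t₃ h hp (by omega) e a)

end Cfsg.Agent.SM.Om
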