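import Cfsg.Agent.SM.Om.Lin
import Cfsg.Agent.SM.CSi.Idx
import Cfsg.Agent.H989.Cov.Twelve
import Cfsg.Agent.H884.ElKill
import Cfsg.Agent.S5875

/-!
# SM (S3570), socle `Ω⁻₁₂(2)`: `box12_of` (helper23)
-/

set_option autoImplicit false
set_option linter.unusedSectionVars false

namespace Cfsg.Agent.SM.Om

open Module QuadraticMap Cfsg Cfsg.Geo Cfsg.Agent.LieClassical.OrthCore Cfsg.Agent.LieClassical.OrthTrans
  Cfsg.Agent.H955 Cfsg.Agent.H884.El Cfsg.Agent.H954.TSing
open Cfsg.Agent.H951 (fx cm Inv)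
open Cfsg.Agent.H278.Cov (Red Ext)
open scoped MatrixGroups Matrix

namespace Tw

variable {F : Type} [Field F] [Fintype F] {Q : QuadraticForm F (Fin 12 → F)} {X Y Z : Subgroup (GL (Fin 12) F)}

theorem pp {e r : ℕ} (hF : Fintype.card F = 2) (hr : r.Prime) (he : 0 < e) (h1 : (2 : ZMod r) ^ e = 1)
    (h2 : ∀ i < e, 0 < i → (2 : ZMod r) ^ i ≠ 1) : PP (Nat.card F) e r := by
  refine ⟨hr, ?_⟩
  rw [Nat.card_eq_fintype_card, hF, Nat.cast_ofNat]
  exact (orderOf_eq_iff he).2 ⟨h1, h2⟩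

theorem pp13 (hF : Fintype.card F = 2) : PP (Nat.card F) 12 13 := pp hF (by norm_num) (by norm_num) (by decide) (by decide)
theorem pp11 (hF : Fintype.card F = 2) : PP (Nat.card F) 10 11 := pp hF (by norm_num) (by norm_num) (by decide) (by decide)
theorem pp17 (hF : Fintype.card F = 2) : PP (Nat.card F) 8 17 := pp hF (by norm_num) (by norm_num) (by decide) (by decide)
theorem pp31 (hF : Fintype.card F = 2) : PP (Nat.card F) 5 31 := pp hF (by norm_num) (by norm_num) (by decide) (by decide)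

theorem card_og (hF : Fintype.card F = 2) (h : Spc Q 6) : Nat.card (Og Q) = 51615733565620224000 := by
  obtain ⟨z, hz | ⟨-, hz⟩, h1⟩ := h.ord
  · rw [hF, hz] at h1
    have h2 : oM 2 6 = 51615733565620224000 := by decide +kernel
    have h3 : Nat.gcd 4 (2 ^ 6 + 1) = 1 := by norm_num
    rwa [h2, h3, one_mul, one_mul] at h1
  · rw [hF] at hz
    exact absurd hz (by decide)

theorem exists_max {A : Type*} [Group A] [Finite A] {K L : Subgroup A} (h : K < L) : ∃ N, IsMaximalIn L N ∧ K ≤ N := by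
  obtain ⟨N, hN, hm⟩ := Finite.exists_le_maximal (p := fun N : Subgroup A => N < L) h
  refine ⟨N, ⟨hm.prop, fun M h1 h2 => ?_⟩, hN⟩
  rcases h2.eq_or_lt with h3 | h3
  · exact Or.inr h3
  · exact Or.inl (le_antisymm (hm.le_of_ge h3 h1) h1)

/-- the residual class -/
theorem res_list (hF : Fintype.card F = 2) (h : Spc Q 6) : H989.Cov.ResM ⇑Q := by
  intro H hH hS
  obtain ⟨P, p, hc, hp, -, h | h | h | h | h⟩ := S5875.result ⇑Q h.nd' h.minus' H hH hS
  · exfalso
    rcases h.2 with ⟨h1, h2⟩ | ⟨h1, -⟩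
    · rw [hF] at h1
      subst h1
      omega
    · rw [hF] at h1
      have h2 : Nat.Prime (p ^ 2) := by rw [← h1]; exact Nat.prime_two
      exact Nat.Prime.not_prime_pow le_rfl h2
  · exfalso
    rcases h.2 with ⟨h1, h2, -⟩ | ⟨h1, -⟩
    · rw [hF] at h1
      subst h1
      omega
    · rw [hF] at h1
      have h2 : Nat.Prime (p ^ 3) := by rw [← h1]; exact Nat.prime_two
      exact Nat.Prime.not_prime_pow (by norm_num) h2
  · exact ⟨P, hc, Or.inl h.1⟩
  · exact ⟨P, hc, Or.inr h.1⟩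
  · exfalso
    have h1 := h.2
    rw [hF] at h1
    omega

/-- `H` lies between `A₁₃` and `S₁₃` -/
def Al (H : Subgroup (GL (Fin 12) F)) : Prop :=
  ∃ f : H →* Equiv.Perm (Fin 13), Function.Injective f ∧ (f.range.index = 1 ∨ f.range.index = 2)

theorem al_of (hF : Fintype.card F = 2) {H P : Subgroup (GL (Fin 12) F)} (hc : IsResidualCore H P)
    (e : (P ⧸ (scalars (Fin 12) F).subgroupOf P) ≃* alternatingGroup (Fin 13)) : Al H := by
  obtain ⟨f, hf⟩ := H989.Cov.res_hom hF hc e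
  let c := MulEquiv.ofBijective _ (S2119.result 13 (by norm_num) (by norm_num))
  have hi : Function.Injective (c.symm.toMonoidHom.comp f) := c.symm.injective.comp hf
  refine ⟨c.symm.toMonoidHom.comp f, hi, ?_⟩
  have h1 := (c.symm.toMonoidHom.comp f).range.card_mul_index
  rw [← Nat.card_congr (MonoidHom.ofInjective hi).toEquiv, ← two_mul_nat_card_alternatingGroup] at h1
  have h2 : Nat.card (alternatingGroup (Fin 13)) ≤ Nat.card H := by
    rw [← Nat.card_congr e.toEquiv]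
    exact (Nat.card_le_card_of_surjective _ QuotientGroup.mk_surjective).trans (Subgroup.card_le_of_le hc.le)
  have h3 : 0 < Nat.card (alternatingGroup (Fin 13)) := Nat.card_pos
  generalize (c.symm.toMonoidHom.comp f).range.index = i at h1 ⊢
  have h4 : i ≠ 0 := by
    rintro rfl
    omega
  have h5 : i ≤ 2 := by
    by_contra h6
    have := Nat.mul_le_mul h2 (show 3 ≤ i by omega)
    omega
  omega

theorem Al.dvd {H : Subgroup (GL (Fin 12) F)} (h : Al H) (hZ : Z ≤ H) : Nat.card Z ∣ 6227020800 := by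
  obtain ⟨f, hf, -⟩ := h
  have h1 := (Subgroup.card_dvd_of_le hZ).trans (Subgroup.card_dvd_of_injective f hf)
  rwa [Nat.card_perm, Nat.card_fin] at h1

theorem Al.kill {H : Subgroup (GL (Fin 12) F)} (h : Al H) {N : ℕ} (hN : NoIdx 13 N) (S : Subgroup (GL (Fin 12) F)) :
    S.relIndex H ≠ N := by
  obtain ⟨f, hf, h1⟩ := h
  intro e
  have h2 := (S.subgroupOf H).index_map_of_injective hf
  rw [show (S.subgroupOf H).index = N from e] at h2
  rcases h1 with h1 | h1
  · exact (hN _).1 (by rw [h2, h1, mul_one])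
  · exact (hN _).2 (by rw [h2, h1, mul_comm])

/-- the proper subgroups whose order is divisible by a prime with a large block -/
theorem cases (hF : Fintype.card F = 2) (h : Spc Q 6) (hZ : Z ≤ Og Q) (hn : ¬ Og Q ≤ Z) {d r : ℕ} (hr : PP (Nat.card F) d r)
    (hd : 6 < d) (hrZ : r ∣ Nat.card Z) :
    Red Z ∨ (∃ s K, (s = 2 ∨ s = 3) ∧ IsFieldSubalgebra s K ∧ Z ≤ subalgebraNormalizer K) ∨ Nat.card Z ∣ 22464 ∨
      ∃ H, Z ≤ H ∧ H < Og Q ∧ Al H := by
  obtain ⟨H, hH, hZH⟩ := exists_max (lt_of_le_of_ne hZ fun e => hn e.ge)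
  rcases H989.Cov.cases_minus hF h.nd' h.minus' hH with (⟨W, h1, h2, h3⟩ | ⟨t, k, D, h1, h2, h3, h4⟩ | ⟨s, K, h1, h2, h3⟩) | hc
  · exact Or.inl ⟨W, h1, h2, hZH.trans h3⟩
  · have h5 := decomp_le h3 (hZH.trans h4) hr (by omega) hrZ
    have h6 := hr.lt (by omega)
    omega
  · exact Or.inr (Or.inl ⟨s, K, h1, h2, hZH.trans h3⟩)
  · obtain ⟨P, hP, ⟨⟨e⟩⟩ | ⟨⟨e⟩⟩⟩ := res_list hF h H hH hc
    · obtain ⟨f, hf⟩ := H989.Cov.res_hom hF hP e
      exact Or.inr (Or.inr (Or.inl ((Subgroup.card_dvd_of_le hZH).trans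
        ((Subgroup.card_dvd_of_injective f hf).trans H989.Cov.card_aut_l33))))
    · exact Or.inr (Or.inr (Or.inr ⟨H, hZH, hH.1, al_of hF hP e⟩))

theorem no31 (hF : Fintype.card F = 2) (h : Spc Q 6) (hZ : Z ≤ Og Q) {s : ℕ} {K : Subalgebra F (Matrix (Fin 12) (Fin 12) F)}
    (hs : s = 2 ∨ s = 3) (hK : IsFieldSubalgebra s K) (hZK : Z ≤ subalgebraNormalizer K) : ¬ 31 ∣ Nat.card Z := by
  intro hd
  have h1 := fld_odd h hZ (pp31 hF) (by decide) (by norm_num) (by norm_num) hd
    (by rcases hs with rfl | rfl <;> norm_num) hK hZK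
  rcases hs with rfl | rfl <;> omega

/-- a proper subgroup of order divisible by `31` and by `11` or `17` is reducible -/
theorem red31 (hF : Fintype.card F = 2) (h : Spc Q 6) (hZ : Z ≤ Og Q) (hn : ¬ Og Q ≤ Z) {d r : ℕ} (hr : PP (Nat.card F) d r)
    (hd : 6 < d) (hrZ : r ∣ Nat.card Z) (h31 : 31 ∣ Nat.card Z) : Red Z := by
  rcases cases hF h hZ hn hr hd hrZ with h1 | ⟨s, K, h1, h2, h3⟩ | h1 | ⟨H, h1, -, h2⟩
  · exact h1
  · exact absurd h31 (no31 hF h hZ h1 h2 h3)
  · exact absurd (h31.trans h1) (by norm_num)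
  · exact absurd (h31.trans (h2.dvd h1)) (by norm_num)

/-- the numbers of points -/
theorem idx_pt (hI : BoxIdx) (hF : Fintype.card F = 2) (h : Spc Q 6) {v : Fin 12 → F} (hv : v ≠ 0) :
    (St (F ∙ v)).relIndex (Og Q) = 2015 ∨ (St (F ∙ v)).relIndex (Og Q) = 2080 := by
  obtain ⟨h1, h2⟩ := hI F 12 6 Q v h hv
  rw [hF] at h1 h2
  by_cases h0 : Q v = 0
  · have h3 := (h1 h0).1
    norm_num at h3
    exact Or.inl h3
  · have h3 := h2 h0
    norm_num at h3
    exact Or.inr h3

/-- the number of anisotropic planes -/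
theorem idx_pl (hF : Fintype.card F = 2) (h : Spc Q 6) {W : Submodule F (Fin 12 → F)} (h2 : finrank F W = 2)
    (hnd : Nondeg (res Q W)) (hm : ¬ IsPlus (res Q W)) : (St W).relIndex (Og Q) = 366080 := by
  have e : H925.qf h.nd' = Q := QuadraticMap.ext fun _ => rfl
  have hP : IsPlus (res Q (perp Q W)) := by
    by_contra hc
    exact h.minus ((isPlus_iff_perp h.nd hnd (by rw [h.finrank_V]; exact even_two_mul _) (by rw [h2]; exact even_two)).2
      ⟨fun a => absurd a hm, fun a => absurd a hc⟩)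
  have hnd' := nondeg_perp h.nd hnd
  have hd' : finrank F (perp Q W) = 2 * 5 := by
    have h3 := finrank_add_perp h.nd W
    rw [h.finrank_V] at h3
    omega
  have hc : Nat.card F = 2 := by rw [Nat.card_eq_fintype_card, hF]
  rw [Og, CS.Ix.relIndex_omega_eq h.nd' (by rw [Fintype.card_fin]; norm_num) fun c => ?_]
  swap
  · rw [e]
    by_cases h0 : c = 0
    · exact ⟨0, Submodule.zero_mem _, by rw [QuadraticMap.map_zero, h0]⟩
    · have h3 := CS.Ix.card_norm_plus' hnd' (k := 4) hd' hP h0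
      rw [hc] at h3
      obtain ⟨⟨v, hv⟩, -⟩ := Nat.card_ne_zero.1 (h3.trans_ne (by norm_num))
      exact ⟨v, v.2, hv⟩
  have h1 := CS.Ix.card_mul_relIndex (subspaceStabilizer W) (isometryGroup F ⇑Q)
  have h3 := H957.card_isometryGroup_minus Q h.nd (m := 6) (by norm_num) (Fintype.card_fin 12) h.minus
  have h4 := CS.Ix.card_stab h.nd' (W := W) (by rw [e]; exact hnd)
  rw [e, CS.Ix.card_isoQ_minus hnd (k := 0) h2 hm] at h4
  obtain ⟨a, ha⟩ := exists_plus_equiv 5 _ hnd' hd' hP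
  rw [H957.card_isoQ_congr a ha, ← H957.card_isometryGroup,
    H957.card_isometryGroup_plus _ (nondeg_plus 5) (m := 5) (by norm_num) (by simp) (isPlus_plus 5)] at h4
  rw [h4, h3, hF] at h1
  norm_num [Finset.prod_range_succ] at h1
  omega

/-- the case `A₁₃` -/
theorem no_al (hA : BoxAlt) (hI : BoxIdx) (hF : Fintype.card F = 2) (h : Pr Q 6 X Y) (hX : Al X) : False := by
  have hs := h.toSpc
  have h0 := hX.dvd le_rfl
  have h17 : 17 ∣ Nat.card Y := (h.dvd (by norm_num) (by rw [card_og hF hs]; norm_num)).resolve_left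
    fun a => absurd (a.trans h0) (by norm_num)
  have h31 : 31 ∣ Nat.card Y := (h.dvd (by norm_num) (by rw [card_og hF hs]; norm_num)).resolve_left
    fun a => absurd (a.trans h0) (by norm_num)
  have hred := red31 hF hs h.leY h.nY (pp17 hF) (by norm_num) h17 h31
  have pt : ∀ v : Fin 12 → F, v ≠ 0 → ¬ Y ≤ St (F ∙ v) := by
    intro v hv hY
    rcases idx_pt hI hF hs hv with h1 | h1
    · have h2 := h.relIndex_dvd hY
      rw [h1] at h2
      exact absurd (h2.trans h0) (by norm_num)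
    · exact hX.kill hA.2.1 _ ((h.relIndex hY).trans h1)
  obtain ⟨y, hy, -, hyr, hy1⟩ := exists_elt (Q := Q) h.isoY (pp17 hF) (by norm_num) h17
  obtain ⟨a1, -, W, hW0, hW1, hW⟩ := small_of_red hs h.leY (pp17 hF) (by norm_num) hy hyr hy1 hred
  obtain ⟨g, hg, hiso, hgr, hg1⟩ := exists_elt (Q := Q) h.isoY (pp31 hF) (by norm_num) h31
  have a2 := Submodule.finrank_mono hW1
  have a3 : W ≤ fx (lin g) := hiso.le_fx (pp31 hF) (inv_of_mem (hW hg)) (by omega)
  obtain ⟨a4, -⟩ := hiso.odd_case hs.nd (lin_ne_one hg1) (pp31 hF) (by decide) (by rw [hs.finrank_V]; norm_num)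
  have a5 := hiso.finrank_add
  rw [hs.finrank_V] at a5
  have a6 := Submodule.finrank_mono a3
  by_cases a7 : finrank F W ≤ 1
  · obtain ⟨v, hv, rfl⟩ := pt_of_finrank hW0 a7
    exact pt v hv hW
  have a8 : W = fx (lin g) := Submodule.eq_of_le_of_finrank_eq a3 (by omega)
  have := Fact.mk hiso.prime
  have a9 : Nondeg (res Q W) := by
    rw [a8]
    exact nondeg_fx hs.nd hiso.iso hiso.ne0 hiso.pow
  by_cases hp : IsPlus (res Q W)
  · obtain ⟨e, f, hef, rfl⟩ := hyp_of_plus (by omega) a9 hp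
    refine pt (e + f) (fun a => ?_) (St_one (by omega) hef h.leY hW)
    have b := Q_one hef
    rw [a, QuadraticMap.map_zero] at b
    exact zero_ne_one b
  · exact hX.kill hA.2.2.1 _ ((h.relIndex hW).trans (idx_pl hF hs (by omega) a9 hp))

end Tw

open Tw in
/-- **[SM-M5b]** -/
theorem box12_of (hA : BoxAlt) (hI : BoxIdx) : Box12 := by
  intro F _ _ Q X Y h hF h13
  have hs := h.toSpc
  have hirr := not_red hs h.leX (pp13 hF) h13
  have sm : ¬ 11 ∣ Nat.card X → ¬ 31 ∣ Nat.card X → Sm Q Y := fun a b => by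
    have h11 : 11 ∣ Nat.card Y := (h.dvd (by norm_num) (by rw [card_og hF hs]; norm_num)).resolve_left a
    have h31 : 31 ∣ Nat.card Y := (h.dvd (by norm_num) (by rw [card_og hF hs]; norm_num)).resolve_left b
    exact sm_of_red hs h.leY (pp11 hF) h11 (red31 hF hs h.leY h.nY (pp11 hF) (by norm_num) h11 h31)
  rcases cases hF hs h.leX h.nX (pp13 hF) (by norm_num) h13 with h1 | ⟨s, K, h1, h2, h3⟩ | h1 | ⟨H, h1, h2, h3⟩
  · exact absurd h1 hirr
  · refine ⟨⟨13, s, K, pp13 hF, h13, by rcases h1 with rfl | rfl <;> norm_num, h2, h3⟩,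
      sm (fun h11 => ?_) (no31 hF hs h.leX h1 h2 h3)⟩
    rcases h1 with rfl | rfl
    · exact fld_two hs h.leX hirr (pp13 hF) (pp11 hF) (by decide) (by decide) (by norm_num) (by norm_num) (by decide)
        h13 h11 h2 h3
    · have h4 := fld_big (pp11 hF) (by norm_num) (by norm_num) h11 Nat.prime_three h2 h3
      omega
  · exfalso
    obtain ⟨v, hv, hY⟩ := (sm (fun a => absurd (a.trans h1) (by norm_num)) fun a => absurd (a.trans h1) (by norm_num)).pt
      (by omega) h.leY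
    have h2 := (h.relIndex_dvd hY).trans h1
    rcases idx_pt hI hF hs hv with h3 | h3 <;> rw [h3] at h2 <;> exact absurd h2 (by norm_num)
  · exfalso
    refine no_al hA hI hF (X := H) (Y := Y) { hs with leX := h2.le, leY := h.leY, nX := h2.not_ge, nY := h.nY, fac := fun g hg => ?_ } h3
    obtain ⟨x, hx, y, hy, e⟩ := h.fac g hg
    exact ⟨x, h1 hx, y, hy, e⟩

end Cfsg.Agent.SM.Om
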