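import Cfsg.Agent.SM.Om.Cov
import Cfsg.Agent.H159.PF.FieldUniq

/-!
# SM (S3570), socle `PΩ⁻_{2m}(q)`: the canonical subspace and the canonical field (helper87)
-/

set_option autoImplicit false
set_option linter.unusedSectionVars false

namespace Cfsg.Agent.SM.Om

open Module QuadraticMap Cfsg Cfsg.Geo Cfsg.Agent.LieClassical.OrthCore Cfsg.Agent.LieClassical.OrthTrans
  Cfsg.Agent.H955 Cfsg.Agent.H884.El Cfsg.Agent.ClassicalGeometry.OrthSemi
open Cfsg.Agent.H449.Reg (act Ind eP act_mul act_one act_mono finrank_act act_inv_act act_act_inv)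
open Cfsg.Agent.H951 (fx cm Inv)
open scoped MatrixGroups Matrix

variable {n : ℕ} {F : Type} [Field F] [Fintype F] {Q : QuadraticForm F (Fin n → F)} {m : ℕ}
  {G : Type} [Group G] {S : Subgroup G} [S.Normal] {eT : S ≃* POmega F (⇑Q)} {hG : Good Q} {hI : Ind (eP hG eT)}
  {Z N : Subgroup G} {W : Submodule F (Fin n → F)}

/-- `N` permutes the subspaces invariant under `Z` -/
theorem St_act (hN : ∀ g ∈ N, ∀ z ∈ Z, g * z * g⁻¹ ∈ Z) (hW : pre eT Z ≤ St W) {g : G} (hg : g ∈ N) :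
    pre eT Z ≤ St (act hI g W) := by
  intro x hx
  refine (pj_mem_stG (hI := hI) (x := ⟨x, pre_le hx⟩)).1 ?_
  obtain ⟨y, hy, -⟩ := exists_cj hI g⁻¹ ⟨x, pre_le hx⟩
  have h1 : pj eT y ∈ stG hI W := pj_mem_stG.2 (hW (mem_pre.2 (by rw [hy]; exact hN _ (N.inv_mem hg) _ (mem_pre' hx))))
  have h2 : pj eT ⟨x, pre_le hx⟩ * g = g * pj eT y := by rw [hy]; group
  rw [mem_stG, ← act_mul hG, h2, act_mul hG, mem_stG.1 h1]

theorem two_field (hq : Fintype.card F = 2) {c : F} (hc : c ≠ 0) : c = 1 := by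
  have := FiniteField.pow_card_sub_one_eq_one c hc
  rwa [hq, pow_one] at this

theorem add_ne {e f : Fin n → F} (h : Hyp Q e f) : Q (e + f) ≠ 0 := by rw [Q_one h]; exact one_ne_zero

theorem ne_of_Q {v : Fin n → F} (h : Q v ≠ 0) : v ≠ 0 := fun h0 => h (by rw [h0, QuadraticMap.map_zero])

/-- **the canonical subspace** -/
theorem canon (hI : Ind (eP hG eT)) (hN : ∀ g ∈ N, ∀ z ∈ Z, g * z * g⁻¹ ∈ Z) (hS : Sm Q (pre eT Z)) :
    ∃ W, N ≤ stG hI W ∧ pre eT Z ≤ St W ∧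
      ((∃ v, v ≠ 0 ∧ W = F ∙ v) ∨ (3 ≤ Fintype.card F ∧ ∃ e f, Hyp Q e f ∧ W = Submodule.span F {e, f})) := by
  obtain ⟨D, hD, h1, ⟨W₀, hW0, hW2, hW⟩, h2⟩ := hS
  set A : Set (Submodule F (Fin n → F)) := {W | pre eT Z ≤ St W ∧ finrank F W ≤ 2} with hA
  have hle : ∀ g ∈ N, sSup A ≤ act hI g (sSup A) := by
    intro g hg
    refine sSup_le fun W hW => ?_
    have h3 : act hI g⁻¹ W ∈ A := ⟨St_act hN hW.1 (N.inv_mem hg), by rw [finrank_act]; exact hW.2⟩
    have h4 := act_mono hI g (le_sSup h3)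
    rwa [act_act_inv hG] at h4
  have hfix : N ≤ stG hI (sSup A) := fun g hg =>
    (Submodule.eq_of_le_of_finrank_eq (hle g hg) (finrank_act hI g _).symm).symm
  have hAD : sSup A ≤ D := sSup_le fun W hW => h1 W hW.1 hW.2
  have hinv : pre eT Z ≤ St (sSup A) := by
    intro x hx
    rw [mem_St]
    have h3 : sSup A ≤ (sSup A).comap (lin x) := sSup_le fun W hW w hw => le_sSup hW (mem_St.1 (hW.1 hx) w hw)
    exact fun w hw => h3 hw
  have h0 : sSup A ≠ ⊥ := fun h3 => hW0 (eq_bot_iff.2 (h3 ▸ le_sSup (show W₀ ∈ A from ⟨hW, hW2⟩)))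
  by_cases h3 : finrank F ↥(sSup A) ≤ 1
  · exact ⟨_, hfix, hinv, Or.inl (pt_of_finrank h0 h3)⟩
  have h4 : sSup A = D := Submodule.eq_of_le_of_finrank_eq hAD (by have := Submodule.finrank_mono hAD; omega)
  rw [h4] at hfix hinv
  obtain ⟨e, f, hef, rfl⟩ := h2 hinv
  by_cases hq : 3 ≤ Fintype.card F
  · exact ⟨_, hfix, hinv, Or.inr ⟨hq, e, f, hef, rfl⟩⟩
  have hq2 : Fintype.card F = 2 := by have : 1 < Fintype.card F := Fintype.one_lt_card; omega
  refine ⟨F ∙ (e + f), fun g hg => mem_stG_of_le ?_, St_one (by omega) hef pre_le hinv, Or.inl ⟨_, ne_of_Q (add_ne hef), rfl⟩⟩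
  rw [act_pt, Submodule.span_singleton_le_iff_mem]
  obtain ⟨σ, c, hA⟩ := (sm hI g).2
  obtain ⟨d, hd⟩ := norm_one (z := (sm hI g).1 (e + f)) (by omega) hef
    (by
      rw [← mem_stG.1 (hfix hg), mem_act]
      exact ⟨_, Submodule.add_mem _ (Submodule.subset_span (by simp)) (Submodule.subset_span (by simp)), rfl⟩)
    (by rw [hA.form, Q_one hef, map_one, mul_one, two_field hq2 hA.ne])
  rw [hd]
  exact Submodule.smul_mem _ _ (Submodule.mem_span_singleton_self _)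

/-! ### the field -/

variable {X : Subgroup (GL (Fin n) F)} {K : Subalgebra F (Matrix (Fin n) (Fin n) F)} {r s : ℕ}

/-- data of `Fld` -/
structure Fd (X : Subgroup (GL (Fin n) F)) (r s : ℕ) (K : Subalgebra F (Matrix (Fin n) (Fin n) F)) (x : GL (Fin n) F) : Prop where
  prime : s.Prime
  field : IsFieldSubalgebra s K
  le : X ≤ subalgebraNormalizer K
  mem : x ∈ X
  pow : x ^ r = 1
  comm : ∀ y ∈ X, y ^ r = 1 → ∀ k ∈ K, (y : Matrix (Fin n) (Fin n) F) * k = k * y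
  irr : ∀ W : Submodule F (Fin n → F), (∀ v ∈ W, (x : Matrix (Fin n) (Fin n) F) *ᵥ v ∈ W) → W = ⊥ ∨ W = ⊤

theorem Fld.fd (h : Spc Q m) (hX : X ≤ Og Q) (hF : Fld X) : ∃ r s K x, Fd X r s K x := by
  obtain ⟨r, s, K, hr, hd, hs, hK, hle⟩ := hF
  have h8 := h.eight
  have hne : Nonempty (Fin n) := ⟨⟨0, by omega⟩⟩
  obtain ⟨x, hx, hiso, hxr, hx1⟩ := exists_elt (Q := Q) (hX.trans og_le) hr (by omega) hd
  have hrs : r ≠ s := by
    have h1 := hr.lt (by omega)
    have h2 := Nat.le_of_dvd (by omega) (fld_dvd (by omega) hK)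
    omega
  refine ⟨r, s, K, x, hs, hK, hle, hx, hxr, fun y hy hyr => comm_field hs hK (hle hy) hr.prime hrs hyr, fun W hW => ?_⟩
  by_contra hc
  push Not at hc
  refine Om.not_red h (X := Subgroup.zpowers x) ((Subgroup.zpowers_le.2 hx).trans hX) hr ?_
    ⟨W, hc.1, hc.2, Subgroup.zpowers_le.2 (mem_St.2 hW)⟩
  have := Fact.mk hr.prime
  rw [Nat.card_zpowers, orderOf_eq_prime hxr hx1]

theorem Fd.not_scalar {x : GL (Fin n) F} (d : Fd X r s K x) (h2 : 2 ≤ n) : x ∉ scalars (Fin n) F := by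
  intro hx
  obtain ⟨c, hc⟩ := (mem_scalars_iff x).1 hx
  have hv : (Pi.single ⟨0, by omega⟩ 1 : Fin n → F) ≠ 0 := by simp
  rcases d.irr (F ∙ (Pi.single ⟨0, by omega⟩ 1 : Fin n → F)) (fun v hv => by
    rw [hc, Matrix.smul_mulVec, Matrix.one_mulVec]; exact Submodule.smul_mem _ _ hv) with h | h
  · exact hv (Submodule.span_singleton_eq_bot.1 h)
  · have h1 := finrank_span_singleton (K := F) hv
    rw [h, finrank_top, finrank_V'] at h1
    omega

/-- **the field is canonical** -/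
theorem Fd.cjK_eq {x : GL (Fin n) F} (h : Spc Q m) (hI : Ind (eP hG eT)) (d : Fd (pre eT Z) r s K x)
    (hN : ∀ g ∈ N, ∀ z ∈ Z, g * z * g⁻¹ ∈ Z) {g : G} (hg : g ∈ N) : cjK (sm hI g) K = K := by
  have h8 := h.eight
  have hne : Nonempty (Fin n) := ⟨⟨0, by omega⟩⟩
  refine H159.PF.fieldSub_unique d.irr d.prime.one_le (cjK_field _ d.field) d.field ?_ (d.comm x d.mem d.pow)
  rintro _ ⟨k, hk, rfl⟩
  -- `x` is the conjugate of an element of order `r` of the preimage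
  obtain ⟨y, hy, hy'⟩ := exists_cj hI g⁻¹ ⟨x, pre_le d.mem⟩
  obtain ⟨z, hz, hz'⟩ := exists_cj hI g y
  have hyZ : (y : GL (Fin n) F) ∈ pre eT Z := mem_pre.2 (by rw [hy]; exact hN _ (N.inv_mem hg) _ (mem_pre' d.mem))
  have h1 : pj eT (z⁻¹ * ⟨x, pre_le d.mem⟩) = 1 := by rw [map_mul, map_inv, hz, hy]; group
  have h2 := (pj_eq_one h _).1 h1
  obtain ⟨c, hc⟩ := (mem_scalars_iff _).1 h2
  have h3 : (x : Matrix (Fin n) (Fin n) F) = (c : F) • cjR (sm hI g) (y : GL (Fin n) F) := by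
    rw [← hz', ← mul_one (((z : GL (Fin n) F)) : Matrix (Fin n) (Fin n) F), ← mul_smul_comm, ← hc, ← Units.val_mul]
    change _ = (((z : GL (Fin n) F) * ((z : GL (Fin n) F)⁻¹ * x) : GL (Fin n) F) : Matrix (Fin n) (Fin n) F)
    rw [mul_inv_cancel_left]
  have h4 := d.comm y hyZ (Units.ext (by
    rw [Units.val_pow_eq_pow_val, hy', ← map_pow, ← Units.val_pow_eq_pow_val, d.pow, Units.val_one, map_one]))
  rw [h3, smul_mul_assoc, mul_smul_comm, ← map_mul, h4 k hk, map_mul]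

theorem mem_stG_kw {g : G} (hK : cjK (sm hI g) K = K) (hW : g ∈ stG hI W) : g ∈ stG hI (kw K W) := by
  refine mem_stG_of_le fun w hw => ?_
  obtain ⟨v, hv, rfl⟩ := mem_act.1 hw
  clear hw
  obtain ⟨σ, c, hA⟩ := (sm hI g).2
  induction hv using Submodule.span_induction with
  | mem x hx =>
    obtain ⟨y, hy, u, hu, rfl⟩ := hx
    rw [← cjR_mv]
    refine mv_mem_kw (by rw [← hK]; exact ⟨y, hy, rfl⟩) (le_kw K W ?_)
    rw [← mem_stG.1 hW, mem_act]
    exact ⟨u, hu, rfl⟩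
  | zero => rw [hA.map_zero]; exact Submodule.zero_mem _
  | add a b _ _ ha hb => rw [hA.add]; exact Submodule.add_mem _ ha hb
  | smul c a _ ha => rw [hA.smul]; exact Submodule.smul_mem _ _ ha

/-- the centraliser of a subalgebra -/
def cenK (K : Subalgebra F (Matrix (Fin n) (Fin n) F)) : Subgroup (GL (Fin n) F) where
  carrier := {g | ∀ y ∈ K, (g : Matrix (Fin n) (Fin n) F) * y = y * g}
  mul_mem' := fun {a b} ha hb y hy => by rw [Units.val_mul, mul_assoc, hb y hy, ← mul_assoc, ha y hy, mul_assoc]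
  one_mem' := fun y _ => by rw [Units.val_one, one_mul, mul_one]
  inv_mem' := fun {a} ha y hy => by
    have h1 := congrArg (fun z => ((a⁻¹ : GL (Fin n) F) : Matrix (Fin n) (Fin n) F) * z * (a⁻¹ : GL (Fin n) F)) (ha y hy)
    simp only [← mul_assoc, Units.inv_mul, one_mul] at h1
    rw [mul_assoc, Units.mul_inv, mul_one] at h1
    exact h1.symm

/-- a simple factor is linear over the field -/
theorem Fd.le_cenK {T B : Subgroup (GL (Fin n) F)} {x : GL (Fin n) F} (h : Ln Q m T B) (d : Fd T r s K x) : T ≤ cenK K := by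
  have hs := h.simple
  have hn : ((cenK K).subgroupOf T).Normal := ⟨fun a ha t y hy => by
    have h1 : ((t⁻¹ : GL (Fin n) F) : Matrix (Fin n) (Fin n) F) * y * (t : GL (Fin n) F) ∈ K := by
      have := (d.le (T.inv_mem t.2) y).1 hy
      rwa [inv_inv] at this
    have h2 := ha _ h1
    change (((t : GL (Fin n) F) * a * (t : GL (Fin n) F)⁻¹ : GL (Fin n) F) : Matrix (Fin n) (Fin n) F) * y =
      y * (((t : GL (Fin n) F) * a * (t : GL (Fin n) F)⁻¹ : GL (Fin n) F) : Matrix (Fin n) (Fin n) F)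
    have h3 := congrArg (fun z => ((t : GL (Fin n) F) : Matrix (Fin n) (Fin n) F) * z * ((t : GL (Fin n) F)⁻¹ : GL (Fin n) F)) h2
    simp only [← mul_assoc, Units.mul_inv, one_mul] at h3
    rw [mul_assoc _ ((t : GL (Fin n) F) : Matrix (Fin n) (Fin n) F), Units.mul_inv, mul_one] at h3
    simp only [Units.val_mul, ← mul_assoc]
    exact h3⟩
  have hM : (((cenK K).subgroupOf T).map (QuotientGroup.mk' ((scalars (Fin n) F).subgroupOf T))).Normal :=
    hn.map _ (QuotientGroup.mk'_surjective _)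
  rcases hM.eq_bot_or_eq_top with h1 | h1
  · refine (d.not_scalar (by have := h.toSpc.eight; omega) ?_).elim
    have h2 : QuotientGroup.mk' ((scalars (Fin n) F).subgroupOf T) ⟨x, d.mem⟩ ∈
        ((cenK K).subgroupOf T).map (QuotientGroup.mk' ((scalars (Fin n) F).subgroupOf T)) :=
      ⟨⟨x, d.mem⟩, d.comm x d.mem d.pow, rfl⟩
    rw [h1, Subgroup.mem_bot] at h2
    exact (QuotientGroup.eq_one_iff (N := (scalars (Fin n) F).subgroupOf T) _).1 h2
  · intro t ht
    obtain ⟨c, hc, e⟩ : QuotientGroup.mk' ((scalars (Fin n) F).subgroupOf T) ⟨t, ht⟩ ∈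
        ((cenK K).subgroupOf T).map (QuotientGroup.mk' ((scalars (Fin n) F).subgroupOf T)) := by
      rw [h1]; exact Subgroup.mem_top _
    have h2 : (c : GL (Fin n) F)⁻¹ * t ∈ scalars (Fin n) F := (QuotientGroup.eq (s := (scalars (Fin n) F).subgroupOf T)).1 e
    rw [← mul_inv_cancel_left (c : GL (Fin n) F) t]
    exact (cenK K).mul_mem hc fun y _ => scalar_comm h2 y

end Cfsg.Agent.SM.Om
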