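import Cfsg.Agent.SM.Om.Gen
import Cfsg.Agent.SM.Mat.Tool
import Cfsg.Agent.LieClassical.OmegaReindex
import Cfsg.Agent.LieClassical.OmegaCenter
import Cfsg.Agent.H957.Std
import Cfsg.Agent.S0294

/-!
# SM (S3570), socle `PΩ⁻_{2m}(q)`: the covering `Ω → S` and the action on subspaces (helper87)
-/

set_option autoImplicit false
set_option linter.unusedSectionVars false

namespace Cfsg.Agent.SM.Om

open Module QuadraticMap Cfsg Cfsg.Geo Cfsg.Agent.LieClassical.OrthCore Cfsg.Agent.LieClassical.OrthTrans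
  Cfsg.Agent.H955 Cfsg.Agent.H884.El Cfsg.Agent.ClassicalGeometry.OrthSemi
open Cfsg.Agent.H449.Reg (act Ind eP img act_mul act_one act_T act_mono finrank_act autP autP_apply mem_img)
open Cfsg.Agent.AutOrth.Main (pe oe_apply pe_mk)
open Cfsg.Agent.LieClassical.OmegaReindex
open scoped MatrixGroups Matrix

/-! ### the standard space -/

theorem nd_bil {V F : Type} [Field F] [AddCommGroup V] [Module F V] {Q : QuadraticForm F V} (h : Nondeg Q) :
    (polarBilin Q).Nondegenerate :=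
  ⟨fun x hx => h x hx, fun x hx => h x fun y => by rw [polar_comm]; exact hx y⟩

/-- isomorphic groups have isomorphic commutator subgroups -/
noncomputable def commCongr {A A' : Type} [Group A] [Group A'] (e : A ≃* A') : commutator A ≃* commutator A' :=
  (e.subgroupMap (commutator A)).trans (MulEquiv.subgroupCongr (by
    rw [map_commutator_eq, MonoidHom.range_eq_top.2 e.surjective]
    rfl))

theorem exists_spc {S : Type} [Group S] (h : IsPOmegaMinus S) :
    ∃ (F : Type) (_ : Field F) (_ : Fintype F) (m : ℕ) (Q : QuadraticForm F (Fin (2 * m) → F)),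
      Spc Q m ∧ Nonempty (S ≃* POmega F (⇑Q)) := by
  obtain ⟨F, _, _, m, a, b, hm, hab, ⟨e⟩⟩ := h
  have hc : Fintype.card ((Fin (m - 1) ⊕ Fin (m - 1)) ⊕ Fin 2) = 2 * m := by
    simp only [Fintype.card_sum, Fintype.card_fin]
    omega
  let ε : ((Fin (m - 1) ⊕ Fin (m - 1)) ⊕ Fin 2) ≃ Fin (2 * m) := Fintype.equivFinOfCardEq hc
  let Q : QuadraticForm F (Fin (2 * m) → F) := reindexForm ε (quadMinus (m - 1) F a b)
  have hb : (polarBilin Q).Nondegenerate := reindexForm_nondegenerate ε _ (quadMinus_nondegenerate hab)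
  have hQ : ∀ v, Q v = quadFormMinus (m - 1) F a b (v ∘ ε) := fun v => by rw [← coe_quadMinus]; rfl
  have hG : Good Q := LieClassical.OrthFinite.good_of_finite (nondeg_of_nondegenerate hb) (by rw [finrank_V']; omega)
  let e' : POmega F (quadFormMinus (m - 1) F a b) ≃* POmega F (⇑Q) :=
    LieClassical.OrthFinite.quotientCenterCongr (commCongr (isometryGroupReindex ε _ _ hQ))
  refine ⟨F, inferInstance, inferInstance, m, Q, ⟨rfl, hm, hG, ?_, ?_⟩, ⟨e.trans e'⟩⟩
  · rintro ⟨U, hU, hd⟩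
    have h1 := H957.finrank_le_minus (m - 1) a b hab (W := U.map (LinearEquiv.funCongrLeft F F ε).toLinearMap) (by
      rintro _ ⟨u, hu, rfl⟩
      have h2 := hU u hu
      rw [hQ, ← LieClassical.OrthForms.coe_minusForm] at h2
      exact h2)
    rw [LinearEquiv.finrank_map_eq] at h1
    rw [finrank_V'] at hd
    omega
  · have h1 := S0294.result (F := F) rfl m hm a b hab
    have h2 : Nat.card (Og Q) = Nat.card (Omega F (⇑Q)) := Subgroup.card_map_of_injective (Subgroup.subtype_injective _)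
    have h3 := LieClassical.OmegaCenter.card_omega_eq (F := F) (⇑Q)
    have h5 : 3 ≤ Fintype.card (Fin (2 * m)) := by rw [Fintype.card_fin]; omega
    refine ⟨Nat.card (Subgroup.center (Omega F (⇑Q))), ?_, ?_⟩
    · by_cases h4 : (2 : F) = 0
      · exact Or.inl (LieClassical.OmegaCenter.card_center_omega_two h4 Q hb h5 hG.sing)
      · by_cases h6 : ∃ g : isometryGroup F (⇑Q), g ∈ Omega F (⇑Q) ∧
            ((g : GL (Fin (2 * m)) F) : Matrix (Fin (2 * m)) (Fin (2 * m)) F) = -1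
        · refine Or.inr ⟨LieClassical.OmegaCenter.card_center_omega_of_mem h4 Q hb h5 hG.sing h6, ?_⟩
          rw [Nat.odd_iff]
          refine FiniteField.odd_card_of_char_ne_two fun h7 => h4 ?_
          have := ringChar.Nat.cast_ringChar (R := F)
          rwa [h7] at this
        · exact Or.inl (LieClassical.OmegaCenter.card_center_omega_of_not_mem Q hb h5 hG.sing h6)
    · rw [h2, h3, ← Nat.card_congr e'.toEquiv, ← mul_assoc, h1, mul_comm]
      rfl

variable {n : ℕ} {F : Type} [Field F] [Fintype F] {Q : QuadraticForm F (Fin n → F)} {m : ℕ}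

theorem Spc.surj (h : Spc Q m) : Function.Surjective (Psi Q) := by
  refine AutOrth.Final.surjective_of_no_four h.good (by rw [finrank_V']; have := h.eight; omega) fun h8 W hW h4 => ?_
  exact h.minus ⟨W, hW, by rw [h4, h8]⟩

/-! ### conjugation of matrices by semisimilitudes -/

theorem mx_ext {y z : Matrix (Fin n) (Fin n) F} (h : ∀ v, y *ᵥ v = z *ᵥ v) : y = z :=
  Matrix.toLin'.injective (LinearMap.ext h)

/-- the conjugate of a matrix -/
noncomputable def cj (A : Gam Q) (y : Matrix (Fin n) (Fin n) F) : Matrix (Fin n) (Fin n) F :=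
  LinearMap.toMatrix'
    { toFun := fun v => A.1 (y *ᵥ A.1⁻¹ v)
      map_add' := fun u v => by rw [add_of_mem ((Gam Q).inv_mem A.2), Matrix.mulVec_add, add_of_mem A.2]
      map_smul' := fun a v => by
        obtain ⟨σ, c, hA⟩ := A.2
        rw [hA.inv.smul, Matrix.mulVec_smul, hA.smul, RingEquiv.apply_symm_apply]
        rfl }

theorem cj_mv (A : Gam Q) (y : Matrix (Fin n) (Fin n) F) (v : Fin n → F) : cj A y *ᵥ v = A.1 (y *ᵥ A.1⁻¹ v) := by
  rw [← Matrix.toLin'_apply, cj, Matrix.toLin'_toMatrix']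
  rfl

theorem cj_mv' (A : Gam Q) (y : Matrix (Fin n) (Fin n) F) (v : Fin n → F) : cj A y *ᵥ A.1 v = A.1 (y *ᵥ v) := by
  rw [cj_mv, inv_apply]

/-- conjugation as a ring automorphism -/
noncomputable def cjR (A : Gam Q) : Matrix (Fin n) (Fin n) F ≃+* Matrix (Fin n) (Fin n) F where
  toFun := cj A
  invFun := cj A⁻¹
  left_inv y := mx_ext fun v => by
    rw [cj_mv]
    change A.1⁻¹ (cj A y *ᵥ A.1 v) = _
    rw [cj_mv', inv_apply]
  right_inv y := mx_ext fun v => by
    rw [cj_mv, cj_mv]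
    change A.1 (A.1⁻¹ (y *ᵥ A.1 (A.1⁻¹ v))) = _
    rw [apply_inv, apply_inv]
  map_mul' y z := mx_ext fun v => by rw [← Matrix.mulVec_mulVec, cj_mv, cj_mv, cj_mv, inv_apply, Matrix.mulVec_mulVec]
  map_add' y z := mx_ext fun v => by rw [Matrix.add_mulVec, cj_mv, cj_mv, cj_mv, Matrix.add_mulVec, add_of_mem A.2]

theorem cjR_mv (A : Gam Q) (y : Matrix (Fin n) (Fin n) F) (v : Fin n → F) : cjR A y *ᵥ A.1 v = A.1 (y *ᵥ v) := cj_mv' A y v

theorem cjR_alg (A : Gam Q) (c : F) : ∃ d : F, cjR A (algebraMap F _ d) = algebraMap F _ c := by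
  obtain ⟨σ, e, hA⟩ := A.2
  refine ⟨σ.symm c, mx_ext fun v => ?_⟩
  obtain ⟨w, rfl⟩ := A.1.surjective v
  rw [cjR_mv, Algebra.algebraMap_eq_smul_one, Algebra.algebraMap_eq_smul_one, Matrix.smul_mulVec, Matrix.smul_mulVec,
    Matrix.one_mulVec, Matrix.one_mulVec, hA.smul, RingEquiv.apply_symm_apply]

/-- the conjugate of a subalgebra -/
noncomputable def cjK (A : Gam Q) (K : Subalgebra F (Matrix (Fin n) (Fin n) F)) : Subalgebra F (Matrix (Fin n) (Fin n) F) where
  carrier := cjR A '' K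
  mul_mem' := by
    rintro _ _ ⟨a, ha, rfl⟩ ⟨b, hb, rfl⟩
    exact ⟨a * b, K.mul_mem ha hb, map_mul _ _ _⟩
  add_mem' := by
    rintro _ _ ⟨a, ha, rfl⟩ ⟨b, hb, rfl⟩
    exact ⟨a + b, K.add_mem ha hb, map_add _ _ _⟩
  algebraMap_mem' c := by
    obtain ⟨d, hd⟩ := cjR_alg A c
    exact ⟨_, K.algebraMap_mem d, hd⟩

theorem cjK_field (A : Gam Q) {s : ℕ} {K : Subalgebra F (Matrix (Fin n) (Fin n) F)} (hK : IsFieldSubalgebra s K) :
    IsFieldSubalgebra s (cjK A K) := by
  refine ⟨?_, ?_, ?_⟩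
  · rintro _ ⟨a, ha, rfl⟩ _ ⟨b, hb, rfl⟩
    rw [← map_mul, hK.comm a ha b hb, map_mul]
  · rintro _ ⟨a, ha, rfl⟩ h0
    obtain ⟨b, hb, e⟩ := hK.inv a ha fun h1 => h0 (by rw [h1, map_zero])
    exact ⟨_, ⟨b, hb, rfl⟩, by rw [← map_mul, e, map_one]⟩
  · have h1 : Nat.card K = Nat.card (cjK A K) := Nat.card_congr (Equiv.image (cjR A).toEquiv K)
    rw [Module.natCard_eq_pow_finrank (K := F), Module.natCard_eq_pow_finrank (K := F) (V := cjK A K), hK.finrank_eq] at h1
    exact (Nat.pow_right_injective Finite.one_lt_card h1).symm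

/-! ### the covering -/

variable {G : Type} [Group G] {S : Subgroup G} [S.Normal]

/-- `Omega` as a group of matrices -/
noncomputable def oeq (Q : QuadraticForm F (Fin n → F)) : Omega F (⇑Q) ≃* Og Q :=
  (Omega F (⇑Q)).equivMapOfInjective (isometryGroup F (⇑Q)).subtype (Subgroup.subtype_injective _)

theorem oeq_coe (x : Omega F (⇑Q)) : (oeq Q x : GL (Fin n) F) = (x : isometryGroup F (⇑Q)) := rfl

/-- the covering -/
noncomputable def pj (eT : S ≃* POmega F (⇑Q)) : Og Q →* G :=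
  S.subtype.comp (eT.symm.toMonoidHom.comp ((QuotientGroup.mk' _).comp (oeq Q).symm.toMonoidHom))

variable {eT : S ≃* POmega F (⇑Q)}

theorem pj_oeq (x : Omega F (⇑Q)) : pj eT (oeq Q x) = (eT.symm (QuotientGroup.mk x) : S) := by
  change ((eT.symm (QuotientGroup.mk ((oeq Q).symm (oeq Q x))) : S) : G) = _
  rw [MulEquiv.symm_apply_apply]

theorem pj_mem (x : Og Q) : pj eT x ∈ S := (eT.symm _).2

theorem pj_surj (eT : S ≃* POmega F (⇑Q)) {s : G} (hs : s ∈ S) : ∃ x, pj eT x = s := by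
  obtain ⟨x, hx⟩ := QuotientGroup.mk_surjective (eT ⟨s, hs⟩)
  exact ⟨oeq Q x, by rw [pj_oeq, hx, eT.symm_apply_apply]⟩

theorem pj_range (eT : S ≃* POmega F (⇑Q)) : (pj eT).range = S :=
  le_antisymm (by rintro _ ⟨x, rfl⟩; exact pj_mem x) fun _ hs => pj_surj eT hs

theorem scalar_comm {g : GL (Fin n) F} (hg : g ∈ scalars (Fin n) F) (y : Matrix (Fin n) (Fin n) F) :
    (g : Matrix (Fin n) (Fin n) F) * y = y * g := by
  obtain ⟨c, hc⟩ := (mem_scalars_iff g).1 hg
  rw [hc, smul_mul_assoc, mul_smul_comm, one_mul, mul_one]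

theorem pj_eq_one (h : Spc Q m) (x : Og Q) : pj eT x = 1 ↔ (x : GL (Fin n) F) ∈ scalars (Fin n) F := by
  obtain ⟨x, rfl⟩ := (oeq Q).surjective x
  rw [pj_oeq, OneMemClass.coe_eq_one, MulEquiv.map_eq_one_iff, QuotientGroup.eq_one_iff, oeq_coe]
  constructor
  · intro h1
    rw [mem_scalars_iff]
    rcases (LieClassical.OmegaCenter.mem_center_omega_iff Q (nd_bil h.nd) (by rw [Fintype.card_fin]; have := h.eight; omega)
      h.good.sing x).1 h1 with h2 | h2
    · exact ⟨1, by rw [Units.val_one, one_smul]; exact h2⟩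
    · exact ⟨-1, by rw [Units.val_neg, Units.val_one, neg_smul, one_smul]; exact h2⟩
  · intro h1
    rw [Subgroup.mem_center_iff]
    intro y
    exact Subtype.ext (Subtype.ext (Units.ext (scalar_comm h1 _).symm))

/-- the preimage -/
noncomputable def pre (eT : S ≃* POmega F (⇑Q)) (X : Subgroup G) : Subgroup (GL (Fin n) F) :=
  (X.comap (pj eT)).map (Og Q).subtype

variable {X : Subgroup G}

theorem pre_le : pre eT X ≤ Og Q := Subgroup.map_subtype_le _

theorem mem_pre {x : Og Q} : (x : GL (Fin n) F) ∈ pre eT X ↔ pj eT x ∈ X :=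
  ⟨fun ⟨y, hy, e⟩ => (Subtype.ext e : y = x) ▸ hy, fun h => ⟨x, h, rfl⟩⟩

theorem mem_pre' {g : GL (Fin n) F} (hg : g ∈ pre eT X) : pj eT ⟨g, pre_le hg⟩ ∈ X := mem_pre.1 hg

theorem not_le_pre (h : ¬ S ≤ X) : ¬ Og Q ≤ pre eT X := fun k => h fun s hs => by
  obtain ⟨x, rfl⟩ := pj_surj eT hs
  exact mem_pre.1 (k x.2)

/-- the preimage modulo scalars -/
theorem soc_pre (h : Spc Q m) (hX : X ≤ S) : Nonempty (H915.LD.Soc (pre eT X) ≃* X) := by
  let φ : pre eT X →* X := ((pj eT).comp (Subgroup.inclusion pre_le)).codRestrict X fun g => mem_pre' g.2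
  have h1 : Function.Surjective φ := by
    rintro ⟨t, ht⟩
    obtain ⟨x, rfl⟩ := pj_surj eT (hX ht)
    exact ⟨⟨x, mem_pre.2 ht⟩, rfl⟩
  have h2 : (scalars (Fin n) F).subgroupOf (pre eT X) = φ.ker := by
    ext g
    rw [Subgroup.mem_subgroupOf, MonoidHom.mem_ker, Subtype.ext_iff]
    exact (pj_eq_one h ⟨g, pre_le g.2⟩).symm
  exact ⟨(QuotientGroup.quotientMulEquivOfEq h2).trans (QuotientGroup.quotientKerEquivOfSurjective φ h1)⟩

theorem ln_pre {H T B : Subgroup G} (h : Spc Q m) (eT : S ≃* POmega F (⇑Q)) (f : Fac ⊤ S H T B) :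
    Ln Q m (pre eT T) (pre eT B) := by
  obtain ⟨e⟩ := soc_pre (eT := eT) h f.le
  refine { h with
    leX := pre_le
    leY := pre_le
    nX := not_le_pre fun k => f.ne (le_antisymm f.le k)
    nY := not_le_pre f.nB
    fac := fun g hg => ?_
    simple := have := f.asH.simple; e.isSimpleGroup
    nab := fun k => f.asH.nab ⟨⟨fun a b => ?_⟩⟩
    cen := fun g hg hc => ?_ }
  · obtain ⟨t, ht, b, hb, e⟩ := f.fac _ (pj_mem (eT := eT) ⟨g, hg⟩)
    obtain ⟨x, rfl⟩ := pj_surj eT (f.le ht)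
    refine ⟨x, mem_pre.2 ht, (x⁻¹ * ⟨g, hg⟩ : Og Q), mem_pre.2 ?_, ?_⟩
    · rw [map_mul, map_inv, e, inv_mul_cancel_left]
      exact hb
    · rw [Subgroup.coe_mul, Subgroup.coe_inv, mul_inv_cancel_left]
  · apply e.symm.injective
    rw [map_mul, map_mul, k.is_comm.comm]
  · refine (pj_eq_one (eT := eT) h ⟨g, hg⟩).1 (f.cen (Subgroup.mem_top _) fun t ht => ?_)
    obtain ⟨x, rfl⟩ := pj_surj eT (f.le ht)
    rw [← map_mul, ← map_mul]
    exact congrArg _ (Subtype.ext (hc x (mem_pre.2 ht)))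

/-! ### the action on subspaces -/

variable {hG : Good Q} {hI : Ind (eP hG eT)} {W : Submodule F (Fin n → F)}

theorem eP_pj (x : Omega F (⇑Q)) : eP hG eT (eT.symm (QuotientGroup.mk x)) = QuotientGroup.mk (AutOrth.Main.oe hG x) := by
  change pe hG (eT (eT.symm _)) = _
  rw [eT.apply_symm_apply, pe_mk]

theorem mem_act_pj (x : Og Q) {w : Fin n → F} :
    w ∈ act hI (pj eT x) W ↔ ∃ v ∈ W, ((x : GL (Fin n) F) : Matrix (Fin n) (Fin n) F) *ᵥ v = w := by
  obtain ⟨x, rfl⟩ := (oeq Q).surjective x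
  rw [pj_oeq, act_T hG hI (eP_pj x), Submodule.mem_map]
  rfl

/-- the stabiliser of a subspace -/
def stG (hI : Ind (eP hG eT)) (W : Submodule F (Fin n → F)) : Subgroup G where
  carrier := {g | act hI g W = W}
  mul_mem' := fun {a b} ha hb => by
    change act hI (a * b) W = W
    rw [act_mul hG, hb, ha]
  one_mem' := act_one hG hI W
  inv_mem' := fun {a} ha => by
    have h1 := H449.Reg.act_inv_act hG hI a W
    rwa [ha] at h1

theorem mem_stG {g : G} : g ∈ stG hI W ↔ act hI g W = W := Iff.rfl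

theorem mem_stG_of_le {g : G} (h : act hI g W ≤ W) : g ∈ stG hI W :=
  Submodule.eq_of_le_of_finrank_eq h (finrank_act hI g W)

theorem pj_mem_stG {x : Og Q} : pj eT x ∈ stG hI W ↔ (x : GL (Fin n) F) ∈ St W := by
  rw [mem_St]
  constructor
  · intro h w hw
    rw [← mem_stG.1 h, mem_act_pj]
    exact ⟨w, hw, rfl⟩
  · intro h
    refine mem_stG_of_le fun w hw => ?_
    obtain ⟨v, hv, rfl⟩ := (mem_act_pj x).1 hw
    exact h v hv

theorem pre_le_St (h : X ≤ stG hI W) : pre eT X ≤ St W := fun _ hg => pj_mem_stG.1 (h (mem_pre' hg))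

theorem eq_stG (h : Spc Q m) {A : Subgroup G} (hA : A ⋖ ⊤) (hle : A ≤ stG hI W) (h0 : W ≠ ⊥) (h1 : W ≠ ⊤) : A = stG hI W := by
  rcases hA.eq_or_eq hle le_top with h2 | h2
  · exact h2.symm
  · refine (h.irr h0 h1 fun g hg => (pj_mem_stG (hI := hI) (x := ⟨g, hg⟩)).1 ?_).elim
    rw [h2]
    exact Subgroup.mem_top _

/-- the semisimilitude of an element -/
noncomputable def sm (hI : Ind (eP hG eT)) (g : G) : Gam Q := (hI g).choose

theorem mem_act {g : G} {w : Fin n → F} : w ∈ act hI g W ↔ ∃ v ∈ W, (sm hI g).1 v = w := Iff.rfl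

/-- conjugation -/
theorem exists_cj (hI : Ind (eP hG eT)) (g : G) (x : Og Q) : ∃ y : Og Q, pj eT y = g * pj eT x * g⁻¹ ∧
    ((y : GL (Fin n) F) : Matrix (Fin n) (Fin n) F) = cjR (sm hI g) (x : GL (Fin n) F) := by
  obtain ⟨x, rfl⟩ := (oeq Q).surjective x
  refine ⟨oeq Q ((AutOrth.Main.oe hG).symm (conjE Q (sm hI g) (AutOrth.Main.oe hG x))), ?_, mx_ext fun v => ?_⟩
  · have h1 : Psi Q (sm hI g) = autP (eP hG eT) g := (hI g).choose_spec
    have h2 := autP_apply (eP hG eT) g (eT.symm (QuotientGroup.mk x))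
    rw [← h1, eP_pj, Psi_mk, ← (AutOrth.Main.oe hG).apply_symm_apply (conjE Q (sm hI g) (AutOrth.Main.oe hG x)), ← eP_pj (eT := eT)] at h2
    rw [pj_oeq, pj_oeq, (eP hG eT).injective h2]
    rfl
  · obtain ⟨w, rfl⟩ := (sm hI g).1.surjective v
    rw [cjR_mv, oeq_coe, oeq_coe, ← oe_apply hG, ← oe_apply hG, MulEquiv.apply_symm_apply, coe_conjE, conjLin_apply']

theorem act_pt (g : G) (v : Fin n → F) : act hI g (F ∙ v) = F ∙ (sm hI g).1 v := by
  obtain ⟨σ, c, hA⟩ := (sm hI g).2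
  ext w
  rw [mem_act, Submodule.mem_span_singleton]
  constructor
  · rintro ⟨u, hu, rfl⟩
    obtain ⟨a, rfl⟩ := Submodule.mem_span_singleton.1 hu
    exact ⟨σ a, (hA.smul a v).symm⟩
  · rintro ⟨a, rfl⟩
    exact ⟨σ.symm a • v, Submodule.smul_mem _ _ (Submodule.mem_span_singleton_self v), by
      rw [hA.smul, RingEquiv.apply_symm_apply]⟩

end Cfsg.Agent.SM.Om
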