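import Cfsg.Agent.SM.Om.Tab
import Cfsg.Agent.H100.Ppd.Defs
import Cfsg.Agent.H449.Reg.Fix
import Cfsg.Agent.H278.Cov.ClDefs

/-!
# SM (S3570), socle `PΩ⁻_{2m}(q)`: the linear setting and the boxes (helper87, plan in `notes/SM/ominus.md`)

`V = Fin n → F`, `Q` a quadratic form of minus type, `Og Q = omegaGL Q`.

* `Pr Q m X Y` : `Ω = X Y`, both factors proper;  `Ln Q m T B` : moreover `T` is simple modulo scalars with scalar centraliser.
* `Fld X` : `X` contains an element of primitive prime order for `q ^ n - 1` and normalises a field of prime degree.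
* `Sm Q Y` : the invariant subspaces of dimension at most two lie in one plane, which is hyperbolic if it is invariant.
* `NoNs Q Y` : `Y` fixes no non-singular point.
-/

set_option autoImplicit false
set_option linter.unusedSectionVars false

namespace Cfsg.Agent.SM.Om

open Module QuadraticMap Cfsg Cfsg.Geo Cfsg.Agent.LieClassical.OrthCore Cfsg.Agent.LieClassical.OrthTrans
  Cfsg.Agent.H955 Cfsg.Agent.H884.El
open Cfsg.Agent.H278.Cov (Red Ext)
open Cfsg.Agent.H915.LD (Core)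
open Cfsg.Agent.H100.Ppd (Nat')
open scoped MatrixGroups Matrix

section lin

variable {n : ℕ} {F : Type} [Field F] [Fintype F]

/-- `Ω(Q)` as a group of matrices -/
abbrev Og (Q : QuadraticForm F (Fin n → F)) : Subgroup (GL (Fin n) F) := omegaGL (⇑Q)

/-- the stabiliser of a subspace -/
abbrev St (W : Submodule F (Fin n → F)) : Subgroup (GL (Fin n) F) := subspaceStabilizer W

/-- the right hand side of `S0294` -/
def oM (q m : ℕ) : ℕ := q ^ (m * (m - 1)) * (q ^ m + 1) * ∏ i ∈ Finset.range (m - 1), (q ^ (2 * (i + 1)) - 1)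

/-- the space -/
structure Spc (Q : QuadraticForm F (Fin n → F)) (m : ℕ) : Prop where
  dim : n = 2 * m
  four : 4 ≤ m
  good : Good Q
  minus : ¬ IsPlus Q
  /-- `z = |Z(Ω)|` -/
  ord : ∃ z, (z = 1 ∨ z = 2 ∧ Odd (Fintype.card F)) ∧
    Nat.gcd 4 (Fintype.card F ^ m + 1) * Nat.card (Og Q) = z * oM (Fintype.card F) m

/-- a factorisation of `Ω` -/
structure Pr (Q : QuadraticForm F (Fin n → F)) (m : ℕ) (X Y : Subgroup (GL (Fin n) F)) : Prop extends Spc Q m where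
  leX : X ≤ Og Q
  leY : Y ≤ Og Q
  nX : ¬ Og Q ≤ X
  nY : ¬ Og Q ≤ Y
  fac : ∀ g ∈ Og Q, ∃ x ∈ X, ∃ y ∈ Y, g = x * y

theorem Pr.symm {Q : QuadraticForm F (Fin n → F)} {m : ℕ} {X Y : Subgroup (GL (Fin n) F)} (h : Pr Q m X Y) : Pr Q m Y X :=
  { h.toSpc with
    leX := h.leY
    leY := h.leX
    nX := h.nY
    nY := h.nX
    fac := fun g hg => by
      obtain ⟨x, hx, y, hy, e⟩ := h.fac g⁻¹ (inv_mem hg)
      exact ⟨y⁻¹, inv_mem hy, x⁻¹, inv_mem hx, by rw [← mul_inv_rev, ← e, inv_inv]⟩ }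

/-- a factorisation whose first factor is simple modulo scalars and has a scalar centraliser -/
structure Ln (Q : QuadraticForm F (Fin n → F)) (m : ℕ) (T B : Subgroup (GL (Fin n) F)) : Prop extends Pr Q m T B where
  simple : IsSimpleGroup (H915.LD.Soc T)
  nab : ¬ IsMulCommutative (H915.LD.Soc T)
  cen : ∀ g ∈ Og Q, (∀ t ∈ T, g * t = t * g) → g ∈ scalars (Fin n) F

/-- `X` contains an irreducible element of prime order and normalises a field of prime degree -/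
def Fld (X : Subgroup (GL (Fin n) F)) : Prop :=
  ∃ (r s : ℕ) (K : Subalgebra F (Matrix (Fin n) (Fin n) F)), PP (Nat.card F) n r ∧ r ∣ Nat.card X ∧ s.Prime ∧
    IsFieldSubalgebra s K ∧ X ≤ subalgebraNormalizer K

/-- small invariant subspaces -/
def Sm (Q : QuadraticForm F (Fin n → F)) (Y : Subgroup (GL (Fin n) F)) : Prop :=
  ∃ D : Submodule F (Fin n → F), finrank F D = 2 ∧ (∀ W : Submodule F (Fin n → F), Y ≤ St W → finrank F W ≤ 2 → W ≤ D) ∧
    (∃ W : Submodule F (Fin n → F), W ≠ ⊥ ∧ finrank F W ≤ 2 ∧ Y ≤ St W) ∧ (Y ≤ St D → ∃ e f, Hyp Q e f ∧ D = Submodule.span F {e, f})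

/-- no non-singular point is fixed -/
def NoNs (Q : QuadraticForm F (Fin n → F)) (Y : Subgroup (GL (Fin n) F)) : Prop := ∀ v, Q v ≠ 0 → ¬ Y ≤ St (F ∙ v)

/-- the span of `K W` -/
def kw (K : Subalgebra F (Matrix (Fin n) (Fin n) F)) (W : Submodule F (Fin n → F)) : Submodule F (Fin n → F) :=
  Submodule.span F {v | ∃ y ∈ K, ∃ w ∈ W, v = y *ᵥ w}

end lin

/-! ### the numbers of points -/

def BoxIdx : Prop :=
  ∀ (F : Type) [Field F] [Fintype F] (n m : ℕ) (Q : QuadraticForm F (Fin n → F)) (v : Fin n → F), Spc Q m → v ≠ 0 →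
    (Q v = 0 → (St (F ∙ v)).relIndex (Og Q) * (Fintype.card F - 1) =
        (Fintype.card F ^ m + 1) * (Fintype.card F ^ (m - 1) - 1) ∧ {f | Hyp Q v f}.ncard = Fintype.card F ^ (n - 2)) ∧
    (Q v ≠ 0 → (St (F ∙ v)).relIndex (Og Q) * Nat.gcd 2 (Fintype.card F - 1) =
        Fintype.card F ^ (m - 1) * (Fintype.card F ^ m + 1))

/-! ### S5948 for small primes -/

/-- **Structure** (copy of `H100.Ppd.struct` with `n < r` in place of `2 k + 1 < r`) -/
def BoxSt : Prop :=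
  ∀ (F : Type) [Field F] [Fintype F] (n k r : ℕ) (H : Subgroup (GL (Fin n) F)), (Fintype.card F).Prime → 10 ≤ n → k ≤ n →
    n < 2 * k → ¬ IsPrimePow n → PP (Nat.card F) k r → n < r → r ∣ Nat.card H →
    Red H ∨ Ext (Nat.gcd n k) H ∨ ∃ P, P ≤ H ∧ Core P ∧ ∀ h ∈ H, ∀ x ∈ P, h * x * h⁻¹ ∈ P

/-- **Defining characteristic** (copy of `H100.Ppd.Row.nat_def` with `17 ≤ r` in place of `2 k + 1 < r`) -/
def BoxDf : Prop :=
  ∀ (F : Type) [Field F] [Fintype F] (p n k r : ℕ) [Fact p.Prime] [CharP F p] (P : Subgroup (GL (Fin n) F)), 10 ≤ n → k ≤ n →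
    n < 2 * k → PP (Nat.card F) k r → 17 ≤ r → Core P → r ∣ Nat.card (H915.LD.Soc P) → IsLieTypeChar p (H915.LD.Soc P) → Nat' P

/-! ### subgroups of symmetric groups -/

/-- the symmetric group of degree `c` has no subgroup of index `N` or `2 N` -/
def NoIdx (c N : ℕ) : Prop := ∀ U : Subgroup (Equiv.Perm (Fin c)), U.index ≠ N ∧ U.index ≠ 2 * N

def BoxAlt : Prop :=
  NoIdx 12 528 ∧ NoIdx 13 2080 ∧ NoIdx 13 366080 ∧ NoIdx 19 131328 ∧ NoIdx 19 130815 ∧ NoIdx 20 131328 ∧ NoIdx 20 130815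

/-! ### the small cases of the list -/

/-- `n = 8`, `q ≥ 3` -/
def Box8 : Prop :=
  ∀ (F : Type) [Field F] [Fintype F] (Q : QuadraticForm F (Fin 8 → F)) (X Y : Subgroup (GL (Fin 8) F)), Pr Q 4 X Y →
    3 ≤ Fintype.card F → (Fld X ∧ Sm Q Y) ∨ (Fld Y ∧ Sm Q X)

/-- `n = 8`, `q = 2` -/
def Box82 : Prop :=
  ∀ (F : Type) [Field F] [Fintype F] (Q : QuadraticForm F (Fin 8 → F)) (T B : Subgroup (GL (Fin 8) F)), Ln Q 4 T B →
    Fintype.card F = 2 → (Fld T ∧ Sm Q B) ∨ (Fld B ∧ Sm Q T)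

/-- `n = 10`, `q = 2` -/
def Box10 : Prop :=
  ∀ (F : Type) [Field F] [Fintype F] (Q : QuadraticForm F (Fin 10 → F)) (X Y : Subgroup (GL (Fin 10) F)), Pr Q 5 X Y →
    Fintype.card F = 2 → 11 ∣ Nat.card X →
    Sm Q Y ∧ (Fld X ∨ (NoNs Q Y ∧ ∃ P, ⁅X, X⁆ ≤ P ∧ P ≤ Og Q ∧ Nonempty (P ≃* alternatingGroup (Fin 12))))

/-- `n = 12`, `q = 2` -/
def Box12 : Prop :=
  ∀ (F : Type) [Field F] [Fintype F] (Q : QuadraticForm F (Fin 12 → F)) (X Y : Subgroup (GL (Fin 12) F)), Pr Q 6 X Y →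
    Fintype.card F = 2 → 13 ∣ Nat.card X → Fld X ∧ Sm Q Y

/-- `n = 14`, `q = 2` -/
def Box14 : Prop :=
  ∀ (F : Type) [Field F] [Fintype F] (Q : QuadraticForm F (Fin 14 → F)) (Y : Subgroup (GL (Fin 14) F)), Spc Q 7 → Y ≤ Og Q →
    ¬ Og Q ≤ Y → Fintype.card F = 2 → 13 ∣ Nat.card Y → 17 ∣ Nat.card Y → 31 ∣ Nat.card Y → Red Y

/-- `(n, q, r) = (18, 2, 19), (18, 3, 37), (20, 2, 41)` -/
def BoxK (m q r : ℕ) : Prop :=
  ∀ (F : Type) [Field F] [Fintype F] (n : ℕ) (Q : QuadraticForm F (Fin n → F)) (X Y : Subgroup (GL (Fin n) F)), Pr Q m X Y →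
    Fintype.card F = q → r ∣ Nat.card X → (∃ v, v ≠ 0 ∧ Y ≤ St (F ∙ v)) → Fld X

/-! ### the geometric rows -/

/-- `T` is linear over `K`, `B` fixes a point -/
def BoxG1p : Prop :=
  ∀ (F : Type) [Field F] [Fintype F] (n m s : ℕ) (Q : QuadraticForm F (Fin n → F)) (T B : Subgroup (GL (Fin n) F))
    (K : Subalgebra F (Matrix (Fin n) (Fin n) F)) (v : Fin n → F), Pr Q m T B → s.Prime → IsFieldSubalgebra s K →
    (∀ t ∈ T, ∀ y ∈ K, (t : Matrix (Fin n) (Fin n) F) * y = y * t) → ¬ Red T → v ≠ 0 → B ≤ St (F ∙ v) →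
    (T ≤ St (kw K (F ∙ v)) ∨ T ⊓ St (kw K (F ∙ v)) ≤ St (F ∙ v)) → False

/-- `T` is linear over `K`, `B` fixes a hyperbolic plane -/
def BoxG1h : Prop :=
  ∀ (F : Type) [Field F] [Fintype F] (n m s : ℕ) (Q : QuadraticForm F (Fin n → F)) (T B : Subgroup (GL (Fin n) F))
    (K : Subalgebra F (Matrix (Fin n) (Fin n) F)) (e f : Fin n → F), Pr Q m T B → s.Prime → IsFieldSubalgebra s K →
    (∀ t ∈ T, ∀ y ∈ K, (t : Matrix (Fin n) (Fin n) F) * y = y * t) → 3 ≤ Fintype.card F → Hyp Q e f →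
    B ≤ St (Submodule.span F {e, f}) → False

/-- the stabiliser of a singular point normalises `T` -/
def BoxG2s : Prop :=
  ∀ (F : Type) [Field F] [Fintype F] (n m : ℕ) (Q : QuadraticForm F (Fin n → F)) (T B : Subgroup (GL (Fin n) F))
    (u : Fin n → F), Ln Q m T B → u ≠ 0 → Q u = 0 → T ≤ St (F ∙ u) →
    (∀ g ∈ Og Q ⊓ St (F ∙ u), ∀ t ∈ T, g * t * g⁻¹ ∈ T) → False

/-- the stabiliser of a non-singular point and a field -/
def BoxG2n : Prop :=
  ∀ (F : Type) [Field F] [Fintype F] (n m s : ℕ) (Q : QuadraticForm F (Fin n → F))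
    (K : Subalgebra F (Matrix (Fin n) (Fin n) F)) (v : Fin n → F), Spc Q m → s.Prime → IsFieldSubalgebra s K → Q v ≠ 0 →
    (Og Q ⊓ St (F ∙ v) ≤ St (kw K (F ∙ v)) ∨ Og Q ⊓ St (F ∙ v) ⊓ St (kw K (F ∙ v)) ≤ subalgebraNormalizer K) → False

/-- the stabiliser of a hyperbolic plane and a field -/
def BoxG2h : Prop :=
  ∀ (F : Type) [Field F] [Fintype F] (n m s : ℕ) (Q : QuadraticForm F (Fin n → F)) (T B : Subgroup (GL (Fin n) F))
    (K : Subalgebra F (Matrix (Fin n) (Fin n) F)) (e f : Fin n → F), Ln Q m T B → s.Prime → IsFieldSubalgebra s K →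
    B ≤ subalgebraNormalizer K → 3 ≤ Fintype.card F → Hyp Q e f → T ≤ St (Submodule.span F {e, f}) →
    (Og Q ⊓ St (Submodule.span F {e, f}) ≤ St (kw K (Submodule.span F {e, f})) ∨
      Og Q ⊓ St (Submodule.span F {e, f}) ⊓ St (kw K (Submodule.span F {e, f})) ≤ subalgebraNormalizer K) → False

/-! ### the count in degree `495` -/

def Box495 : Prop :=
  ∀ (Ω : Type) [Fintype Ω] [DecidableEq Ω] (X H T : Subgroup (Equiv.Perm Ω)) (a : Ω) (O : Set (Subgroup (Equiv.Perm Ω))),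
    Sec X H → MulAction.IsPreprimitive H Ω → SM.Soc H T → Fintype.card Ω = 495 → O.Nonempty →
    (∀ M ∈ O, M ∈ Ov X H ∧ (∃ P, T ≤ P ∧ P < M ∧ Nonempty (P ≃* alternatingGroup (Fin 12))) ∧
      ∃ Δ : Set Ω, Δ.ncard = 256 ∧ ∀ g ∈ M, g a = a → ∀ b ∈ Δ, g b ∈ Δ) →
    (Nat.card T = 239500800 ∨ Nat.card T = 95040) ∧ O.ncard ≤ 2

end Cfsg.Agent.SM.Om
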