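import Cfsg.Agent.SM.Om.Lin
import Cfsg.Agent.H530.NA.Base

/-!
# SM (S3570), socle `Ω⁻₈(2)`: the quadratic field and the Siegel groups (helper48)

* `JJ Q K J` : `J` generates the field `K` with four elements and is self-adjoint;
* `not_256` : `2 ^ 8` does not divide the order of a subgroup of `Ω` which normalises `K`.
-/

set_option autoImplicit false
set_option linter.unusedSectionVars false

namespace Cfsg.Agent.SM.Om.E82

open Module QuadraticMap Cfsg Cfsg.Geo Cfsg.Agent.LieClassical.OrthCore Cfsg.Agent.LieClassical.OrthTrans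
  Cfsg.Agent.H955 Cfsg.Agent.H884.El
open Cfsg.Agent.H951 (fx cm Inv)
open scoped MatrixGroups Matrix

variable {F : Type} [Field F] [Fintype F] {Q : QuadraticForm F (Fin 8 → F)} {X Y : Subgroup (GL (Fin 8) F)}
  {K : Subalgebra F (Matrix (Fin 8) (Fin 8) F)} {J : Matrix (Fin 8) (Fin 8) F}

theorem zo (hF : Fintype.card F = 2) (c : F) : c = 0 ∨ c = 1 := by
  have h := FiniteField.pow_card c
  rw [hF] at h
  have h1 : c * (c - 1) = 0 := by linear_combination h
  rcases mul_eq_zero.1 h1 with h2 | h2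
  · exact Or.inl h2
  · exact Or.inr (sub_eq_zero.1 h2)

theorem two0 (hF : Fintype.card F = 2) : (2 : F) = 0 := by
  have h := FiniteField.cast_card_eq_zero F
  rw [hF] at h
  exact_mod_cast h

theorem charP (hF : Fintype.card F = 2) : CharP F 2 := CharTwo.of_one_ne_zero_of_two_eq_zero one_ne_zero (two0 hF)

theorem pself (hF : Fintype.card F = 2) (v : Fin 8 → F) : polar Q v v = 0 := by rw [polar_self', two0 hF, zero_mul]

theorem vv (hF : Fintype.card F = 2) (v : Fin 8 → F) : v + v = 0 := by rw [← two_smul F v, two0 hF, zero_smul]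

theorem scal (hF : Fintype.card F = 2) {g : GL (Fin 8) F} (hg : g ∈ scalars (Fin 8) F) : g = 1 := by
  obtain ⟨c, hc⟩ := (mem_scalars_iff g).1 hg
  have h1 : (c : F) = 1 := (zo hF c).resolve_left c.ne_zero
  exact Units.ext (by rw [hc, h1, one_smul, Units.val_one])

theorem card_og (h : Spc Q 4) (hF : Fintype.card F = 2) : Nat.card (Og Q) = 197406720 := by
  obtain ⟨z, hz, h1⟩ := h.ord
  rw [hF] at hz h1
  have h2 : z = 1 := hz.resolve_right fun h3 => absurd h3.2 (by decide)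
  have h3 : oM 2 4 = 197406720 := by decide
  rw [h2, h3] at h1
  norm_num at h1
  exact h1

theorem card_sub (hF : Fintype.card F = 2) (W : Submodule F (Fin 8 → F)) : Nat.card W = 2 ^ finrank F W := by
  rw [Module.natCard_eq_pow_finrank (K := F), Nat.card_eq_fintype_card, hF]

/-! ### the generator of the field -/

/-- a self-adjoint generator -/
structure JJ (Q : QuadraticForm F (Fin 8 → F)) (K : Subalgebra F (Matrix (Fin 8) (Fin 8) F))
    (J : Matrix (Fin 8) (Fin 8) F) : Prop where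
  fld : IsFieldSubalgebra 2 K
  mem : J ∈ K
  ns : ∀ c : F, J ≠ c • (1 : Matrix (Fin 8) (Fin 8) F)
  sa : ∀ u v, polar Q (J *ᵥ u) v = polar Q u (J *ᵥ v)
  sq : ∀ v, J *ᵥ (J *ᵥ v) = J *ᵥ v + v

theorem JJ.alt (h : JJ Q K J) (hF : Fintype.card F = 2) (v : Fin 8 → F) : polar Q (J *ᵥ v) v = 0 := by
  have h1 := h.sa (J *ᵥ v) v
  rwa [h.sq, polar_add_left, pself hF, pself hF, add_zero] at h1

theorem JJ.ne (h : JJ Q K J) {v : Fin 8 → F} (hv : v ≠ 0) (c : F) : J *ᵥ v ≠ c • v := fun e =>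
  h.ns c (fld_scalar h.fld h.mem hv e)

theorem sq_eq (hF : Fintype.card F = 2) (hK : IsFieldSubalgebra 2 K) (hJ : J ∈ K)
    (hn : ∀ c : F, J ≠ c • (1 : Matrix (Fin 8) (Fin 8) F)) : J * J = J + 1 := by
  let _ : Field K := (H912.isField_of_fieldSub hK).toField
  have hfd : Module.Finite F K := inferInstance
  have hfin : Finite K := Module.finite_of_finite F
  have := Fintype.ofFinite K
  have hc : Fintype.card K = 4 := by
    rw [← Nat.card_eq_fintype_card, Module.natCard_eq_pow_finrank (K := F), Nat.card_eq_fintype_card, hF, hK.finrank_eq]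
    rfl
  obtain ⟨j, hj⟩ : ∃ j : K, j = ⟨J, hJ⟩ := ⟨_, rfl⟩
  have h1 := FiniteField.pow_card j
  rw [hc] at h1
  have h2 : (2 : K) = 0 := by
    rw [← map_ofNat (algebraMap F K) 2, two0 hF, map_zero]
  have h3 : j ≠ 0 := fun e => hn 0 (by rw [zero_smul]; exact congrArg Subtype.val (hj.symm.trans e))
  have h4 : j - 1 ≠ 0 := fun e => hn 1 (by rw [one_smul]; exact congrArg Subtype.val (hj.symm.trans (sub_eq_zero.1 e)))
  have h5 : j * ((j - 1) * (j * j + j + 1)) = 0 := by linear_combination h1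
  have h6 : j * j + j + 1 = 0 := (mul_eq_zero.1 ((mul_eq_zero.1 h5).resolve_left h3)).resolve_left h4
  have h7 : j * j = j + 1 := by linear_combination h6 - (j + 1) * h2
  rw [hj] at h7
  exact congrArg Subtype.val h7

theorem exists_J (hF : Fintype.card F = 2) (hK : IsFieldSubalgebra 2 K) {a : GL (Fin 8) F} (ha : a ∈ Og Q)
    (haK : a ∈ subalgebraNormalizer K) (h17 : a ^ 17 = 1)
    (hirr : ∀ W : Submodule F (Fin 8 → F), Inv (lin a) W → W = ⊥ ∨ W = ⊤) : ∃ J, JJ Q K J := by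
  obtain ⟨J, hJ, hn⟩ := exists_not_scalar le_rfl hK
  have h1 := sq_eq hF hK hJ hn
  have h2 : ∀ v, J *ᵥ (J *ᵥ v) = J *ᵥ v + v := fun v => by
    rw [Matrix.mulVec_mulVec, h1, Matrix.add_mulVec, Matrix.one_mulVec]
  refine ⟨J, hK, hJ, hn, fun u v => ?_, h2⟩
  have h3 := comm_field Nat.prime_two hK haK (r := 17) (by norm_num) (by norm_num) h17 J hJ
  have h4 := H449.Reg.bil_adj (B := polarBilin Q) (z := lin a) (J := Matrix.toLin' J) (U := ⊤) (h := 4)
    (fun u w => polar_mv ha u w) (by rw [hF, ← H251.GeoCard.toLin_pow]; exact (congrArg lin h17).trans lin_one)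
    H951.inv_top (fun W _ hW => hirr W hW) (fun _ _ => Submodule.mem_top) (fun v => by
      rw [Matrix.toLin'_apply, Matrix.toLin'_apply, Matrix.toLin'_apply, Matrix.toLin'_apply, Matrix.mulVec_mulVec,
        Matrix.mulVec_mulVec, h3]) (u := u) (w := v) Submodule.mem_top Submodule.mem_top
  have h5 : (Matrix.toLin' J) ^ 3 = 1 := by
    refine LinearMap.ext fun x => ?_
    show J *ᵥ (J *ᵥ (J *ᵥ x)) = x
    rw [h2, h2, add_assoc, add_comm x, ← add_assoc, vv hF, zero_add]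
  have h6 : (Matrix.toLin' J) ^ Fintype.card F ^ 4 = Matrix.toLin' J := by
    rw [hF, show 2 ^ 4 = 3 * 5 + 1 from rfl, pow_succ, pow_mul, h5, one_pow, one_mul]
  rw [h6] at h4
  exact h4

/-! ### the Siegel group -/

theorem sg_congr {u u' w w' : Fin 8 → F} (e1 : u = u') (e2 : w = w') (hu : Q u = 0) (hw : polar Q u w = 0)
    (hu' : Q u' = 0) (hw' : polar Q u' w' = 0) : sg Q u w hu hw = sg Q u' w' hu' hw' := by
  subst e1 e2
  rfl

theorem sg_zero {u : Fin 8 → F} (hu : Q u = 0) (hw : polar Q u 0 = 0) : sg Q u 0 hu hw = 1 := by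
  refine gl_ext fun v => ?_
  rw [sg_apply, Units.val_one, Matrix.one_mulVec]
  simp

theorem sg_add {u w : Fin 8 → F} (hu : Q u = 0) (hw : polar Q u w = 0) (c : F) (hw' : polar Q u (w + c • u) = 0) :
    sg Q u (w + c • u) hu hw' = sg Q u w hu hw := by
  refine gl_ext fun v => ?_
  rw [sg_apply, sg_apply, Q_add, QuadraticMap.map_smul, hu, polar_smul_right, polar_comm Q w u, hw, polar_add_left,
    polar_smul_left]
  simp only [smul_eq_mul, mul_zero, add_zero]
  module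

/-- the Siegel elements with centre `u` -/
def RR (Q : QuadraticForm F (Fin 8 → F)) (u : Fin 8 → F) (hu : Q u = 0) : Subgroup (GL (Fin 8) F) where
  carrier := {g | ∃ w, ∃ hw : polar Q u w = 0, g = sg Q u w hu hw}
  one_mem' := ⟨0, polar_zero_right Q u, (sg_zero hu _).symm⟩
  mul_mem' := by
    rintro _ _ ⟨w, hw, rfl⟩ ⟨w', hw', rfl⟩
    exact ⟨w + w', by rw [polar_add_right, hw, hw', add_zero], sg_mul hu hw hw' _⟩
  inv_mem' := by
    rintro _ ⟨w, hw, rfl⟩
    have h1 : polar Q u (-w) = 0 := by rw [polar_neg_right, hw, neg_zero]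
    refine ⟨-w, h1, inv_eq_of_mul_eq_one_right ?_⟩
    rw [sg_mul hu hw h1 (by rw [add_neg_cancel, polar_zero_right]),
      sg_congr rfl (add_neg_cancel w) hu _ hu (polar_zero_right Q u), sg_zero]

theorem RR_pgroup (hF : Fintype.card F = 2) {u : Fin 8 → F} (hu : Q u = 0) : IsPGroup 2 (RR Q u hu) := by
  rintro ⟨_, w, hw, rfl⟩
  refine ⟨1, Subtype.ext ?_⟩
  show sg Q u w hu hw ^ 2 ^ 1 = 1
  rw [pow_one, pow_two, sg_mul hu hw hw (by rw [vv hF, polar_zero_right]),
    sg_congr rfl (vv hF w) hu _ hu (polar_zero_right Q u), sg_zero]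

theorem RR_card (h : Spc Q 4) (hF : Fintype.card F = 2) {u : Fin 8 → F} (hu : Q u = 0) (h0 : u ≠ 0) :
    64 ≤ Nat.card (RR Q u hu) := by
  obtain ⟨f, hf⟩ := exists_hyp h.nd hu h0
  let φ : (Fin 8 → F) →ₗ[F] F × F := (polarBilin Q u).prod (polarBilin Q f)
  have h1 := φ.finrank_range_add_finrank_ker
  have h2 := Submodule.finrank_le (LinearMap.range φ)
  rw [finrank_V'] at h1
  rw [Module.finrank_prod, Module.finrank_self] at h2
  have h3 : ∀ w : LinearMap.ker φ, polar Q u w = 0 ∧ polar Q f w = 0 := fun w =>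
    ⟨congrArg Prod.fst (LinearMap.mem_ker.1 w.2), congrArg Prod.snd (LinearMap.mem_ker.1 w.2)⟩
  have h4 : Function.Injective fun w : LinearMap.ker φ => (⟨sg Q u w hu (h3 w).1, w, (h3 w).1, rfl⟩ : RR Q u hu) := by
    intro w w' e
    have e1 : sg Q u w hu (h3 w).1 = sg Q u w' hu (h3 w').1 := congrArg Subtype.val e
    have e2 := sg_apply hu (h3 w).1 f
    rw [e1, sg_apply, hf.pair, polar_comm Q w f, polar_comm Q w' f, (h3 w).2, (h3 w').2] at e2
    have e3 : (w : Fin 8 → F) = w' + (Q w - Q w') • u := by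
      simp only [one_smul, zero_smul, sub_zero, mul_one] at e2
      linear_combination (norm := module) -e2
    have e4 := (h3 w).2
    rw [e3, polar_add_right, polar_smul_right, (h3 w').2, hf.pair', zero_add, smul_eq_mul, mul_one] at e4
    rw [e4, zero_smul, add_zero] at e3
    exact Subtype.ext e3
  have h5 := Nat.card_le_card_of_injective _ h4
  rw [card_sub hF] at h5
  exact le_trans (Nat.pow_le_pow_right (by norm_num) (by omega) : 2 ^ 6 ≤ _) h5

theorem sg_field (h : Spc Q 4) (hF : Fintype.card F = 2) (hJ : JJ Q K J) {u w : Fin 8 → F} (hu : Q u = 0) (h0 : u ≠ 0)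
    (hw : polar Q u w = 0) (hg : sg Q u w hu hw ∈ subalgebraNormalizer K) (hn : ∀ c : F, w ≠ c • u) :
    ∃ c : F, w = -(J *ᵥ u) + c • u := by
  obtain ⟨z, hz0, hz⟩ := exists_perp_ne (Q := Q) ![u, w, J *ᵥ u, J *ᵥ w] (by rw [finrank_V']; norm_num)
  have z1 : polar Q u z = 0 := hz 0
  have z2 : polar Q w z = 0 := hz 1
  have z3 : polar Q u (J *ᵥ z) = 0 := (hJ.sa u z).symm.trans (hz 2)
  have z4 : polar Q w (J *ᵥ z) = 0 := (hJ.sa w z).symm.trans (hz 3)
  obtain ⟨g, hgd⟩ : ∃ g, g = sg Q u w hu hw := ⟨_, rfl⟩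
  have ga : ∀ v, (g : Matrix (Fin 8) (Fin 8) F) *ᵥ v =
      v + polar Q u v • w - polar Q w v • u - (Q w * polar Q u v) • u := fun v => by rw [hgd, sg_apply]
  rw [← hgd] at hg
  have g1 : (g : Matrix (Fin 8) (Fin 8) F) *ᵥ z = z := by rw [ga, z1, z2]; simp
  have g2 : (g : Matrix (Fin 8) (Fin 8) F) *ᵥ (J *ᵥ z) = J *ᵥ z := by rw [ga, z3, z4]; simp
  have g3 : ((g⁻¹ : GL (Fin 8) F) : Matrix (Fin 8) (Fin 8) F) *ᵥ z = z := by
    conv_lhs => rw [← g1]
    exact inv_mv g z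
  have g4 : (g : Matrix (Fin 8) (Fin 8) F) * J * ((g⁻¹ : GL (Fin 8) F) : Matrix (Fin 8) (Fin 8) F) - J = 0 := by
    refine fld_inj hJ.fld (K.sub_mem ((hg J).1 hJ.mem) hJ.mem) hz0 ?_
    rw [Matrix.sub_mulVec, ← Matrix.mulVec_mulVec, ← Matrix.mulVec_mulVec, g3, g2, sub_self]
  have g5 : ∀ v, (g : Matrix (Fin 8) (Fin 8) F) *ᵥ (J *ᵥ v) = J *ᵥ ((g : Matrix (Fin 8) (Fin 8) F) *ᵥ v) := by
    intro v
    conv_rhs => rw [← sub_eq_zero.1 g4, ← Matrix.mulVec_mulVec, ← Matrix.mulVec_mulVec, inv_mv]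
  obtain ⟨v, v1, v2⟩ := exists_sep h.nd hn
  have g6 := g5 v
  rw [ga v, ga, v1, v2] at g6
  simp only [zero_smul, add_zero, one_smul, mul_zero, sub_zero, Matrix.mulVec_sub] at g6
  rcases zo hF (polar Q u (J *ᵥ v)) with k | k
  · exfalso
    rw [k] at g6
    refine hJ.ne h0 (polar Q w (J *ᵥ v)) ?_
    simp only [zero_smul, add_zero, mul_zero, sub_zero] at g6
    linear_combination (exp := 1) g6
  · rw [k] at g6
    refine ⟨polar Q w (J *ᵥ v) + Q w, ?_⟩
    simp only [one_smul, mul_one] at g6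
    linear_combination (norm := module) g6

theorem inf_card (h : Spc Q 4) (hF : Fintype.card F = 2) (hJ : JJ Q K J) {u : Fin 8 → F} (hu : Q u = 0) (h0 : u ≠ 0)
    (hX : X ≤ subalgebraNormalizer K) : Nat.card ↥((RR Q u hu).subgroupOf X) ≤ 2 := by
  have h1 : polar Q u (-(J *ᵥ u)) = 0 := by rw [polar_neg_right, polar_comm, hJ.alt hF, neg_zero]
  have key : ∀ g : ↥((RR Q u hu).subgroupOf X), ((g : X) : GL (Fin 8) F) = 1 ∨
      ((g : X) : GL (Fin 8) F) = sg Q u _ hu h1 := by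
    rintro ⟨⟨g, hgX⟩, w, hw, e⟩
    have e' : g = sg Q u w hu hw := e
    subst e'
    by_cases hc : ∃ c : F, w = c • u
    · obtain ⟨c, rfl⟩ := hc
      left
      show sg Q u (c • u) hu hw = 1
      rw [sg_congr rfl (zero_add (c • u)).symm hu hw hu (by rwa [zero_add]), sg_add hu (polar_zero_right Q u), sg_zero]
    · push Not at hc
      obtain ⟨c, rfl⟩ := sg_field h hF hJ hu h0 hw (hX hgX) hc
      right
      exact sg_add hu h1 c hw
  classical
  have h2 : Function.Injective fun g : ↥((RR Q u hu).subgroupOf X) => decide (((g : X) : GL (Fin 8) F) = 1) := by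
    intro a b e
    have e1 : ((a : X) : GL (Fin 8) F) = 1 ↔ ((b : X) : GL (Fin 8) F) = 1 := decide_eq_decide.1 e
    refine Subtype.ext (Subtype.ext ?_)
    by_cases ha : ((a : X) : GL (Fin 8) F) = 1
    · rw [ha, e1.1 ha]
    · rw [(key a).resolve_left ha, (key b).resolve_left fun k => ha (e1.2 k)]
  have h3 := Nat.card_le_card_of_injective _ h2
  rwa [Nat.card_eq_fintype_card (α := Bool), Fintype.card_bool] at h3

/-- **the `2`-part of the normaliser of the field** -/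
theorem not_256 (h : Spc Q 4) (hF : Fintype.card F = 2) (hJ : JJ Q K J) (hX : X ≤ Og Q)
    (hXK : X ≤ subalgebraNormalizer K) : ¬ 2 ^ 8 ∣ Nat.card X := by
  intro hd
  have := Fact.mk Nat.prime_two
  have := charP hF
  obtain ⟨P', hP'⟩ := Sylow.exists_subgroup_card_pow_prime 2 hd
  obtain ⟨P, hPd⟩ : ∃ P, P = P'.map X.subtype := ⟨_, rfl⟩
  have hP : Nat.card P = 2 ^ 8 := by rw [hPd, Subgroup.card_map_of_injective X.subtype_injective, hP']
  have hPX : P ≤ X := hPd ▸ Subgroup.map_subtype_le _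
  have hP2 : IsPGroup 2 P := IsPGroup.of_card hP
  let ρ : P →* Module.End F (Fin 8 → F) :=
    (Matrix.toLinAlgEquiv' (R := F) (n := Fin 8)).toAlgHom.toMonoidHom.comp ((Units.coeHom _).comp P.subtype)
  have hρ : ∀ (g : P) v, ρ g v = ((g : GL (Fin 8) F) : Matrix (Fin 8) (Fin 8) F) *ᵥ v := fun g v =>
    Matrix.toLinAlgEquiv'_apply _ _
  obtain ⟨u, h0, hu, hfix⟩ := H530.NA.exists_fix_sing (Q := Q) (ρ := ρ) hP2
    (fun g x => by rw [hρ]; exact Q_mv (hX (hPX g.2)) x) (by rw [finrank_V']; norm_num)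
  have hN : P ≤ Subgroup.normalizer (RR Q u hu : Set (GL (Fin 8) F)) := by
    intro g hg
    refine Subgroup.mem_normalizer_fintype ?_
    rintro _ ⟨w, hw, rfl⟩
    have h1 : (g : Matrix (Fin 8) (Fin 8) F) *ᵥ u = u := (hρ ⟨g, hg⟩ u).symm.trans (hfix ⟨g, hg⟩)
    have hg' := hX (hPX hg)
    have h2 : polar Q u ((g : Matrix (Fin 8) (Fin 8) F) *ᵥ w) = 0 := by
      conv_lhs => rw [← h1]
      rw [polar_mv hg', hw]
    refine ⟨_, h2, ?_⟩
    rw [sg_conj hg' hu hw (by rw [h1, hu]) (by rw [polar_mv hg', hw])]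
    exact sg_congr h1 rfl _ _ _ _
  have hS : IsPGroup 2 ↥(P ⊔ RR Q u hu) := hP2.to_sup_of_normal_right' (RR_pgroup hF hu) hN
  have hSO : P ⊔ RR Q u hu ≤ Og Q := sup_le (hPX.trans hX) (by
    rintro _ ⟨w, hw, rfl⟩
    exact h.sg_mem hu hw)
  obtain ⟨i, hi⟩ := hS.exists_card_eq
  have h1 := Subgroup.card_dvd_of_le hSO
  rw [hi, card_og h hF] at h1
  have h2 : i ≤ 12 := by
    by_contra hc
    exact absurd ((pow_dvd_pow 2 (by omega : 13 ≤ i)).trans h1) (by norm_num)
  have h3 : Nat.card ↥(P ⊔ RR Q u hu) ≤ 4096 := by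
    rw [hi]
    exact Nat.pow_le_pow_right (by norm_num) h2
  have h4 : Nat.card ↥((RR Q u hu).subgroupOf P) * (RR Q u hu).relIndex P = Nat.card P := Subgroup.card_mul_index _
  have h5 : Nat.card ↥((RR Q u hu).subgroupOf (P ⊔ RR Q u hu)) * (RR Q u hu).relIndex (P ⊔ RR Q u hu) =
    Nat.card ↥(P ⊔ RR Q u hu) := Subgroup.card_mul_index _
  rw [Nat.card_congr (Subgroup.subgroupOfEquivOfLe le_sup_right).toEquiv] at h5
  have h6 : (RR Q u hu).relIndex P ≤ (RR Q u hu).relIndex (P ⊔ RR Q u hu) :=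
    Subgroup.relIndex_le_of_le_right le_sup_left Subgroup.index_ne_zero_of_finite
  have h7 := inf_card h hF hJ hu h0 (hPX.trans hXK)
  have h8 := RR_card h hF hu h0
  rw [hP] at h4
  have h9 : 128 ≤ (RR Q u hu).relIndex P := by nlinarith
  nlinarith

end Cfsg.Agent.SM.Om.E82
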