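import Cfsg.Agent.SM.Om.E82A
import Cfsg.Agent.H353.TwoOrthTrans

/-!
# SM (S3570), socle `Ω⁻₈(2)`: the second factor fixes neither a singular `3`-space nor a plane of minus type (helper48)
-/

set_option autoImplicit false
set_option linter.unusedSectionVars false

namespace Cfsg.Agent.SM.Om.E82

open Module QuadraticMap Cfsg Cfsg.Geo Cfsg.Agent.LieClassical.OrthCore Cfsg.Agent.LieClassical.OrthTrans
  Cfsg.Agent.H955 Cfsg.Agent.H884.El
open Cfsg.Agent.H951 (fx cm Inv)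
open scoped MatrixGroups Matrix

variable {F : Type} [Field F] [Fintype F] {Q : QuadraticForm F (Fin 8 → F)} {X Y : Subgroup (GL (Fin 8) F)}
  {K : Subalgebra F (Matrix (Fin 8) (Fin 8) F)} {J : Matrix (Fin 8) (Fin 8) F} {W : Submodule F (Fin 8 → F)}

/-- `X` commutes with `J` -/
def Cm (X : Subgroup (GL (Fin 8) F)) (J : Matrix (Fin 8) (Fin 8) F) : Prop :=
  ∀ x ∈ X, (x : Matrix (Fin 8) (Fin 8) F) * J = J * (x : Matrix (Fin 8) (Fin 8) F)

theorem Cm.be (hc : Cm X J) (hX : X ≤ Og Q) {x : GL (Fin 8) F} (hx : x ∈ X) (u v : Fin 8 → F) :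
    polar Q (J *ᵥ ((x : Matrix (Fin 8) (Fin 8) F) *ᵥ u)) ((x : Matrix (Fin 8) (Fin 8) F) *ᵥ v) = polar Q (J *ᵥ u) v := by
  rw [Matrix.mulVec_mulVec, ← hc x hx, ← Matrix.mulVec_mulVec, polar_mv (hX hx)]

/-- transport of the form along the factorisation -/
theorem transport (h : Pr Q 4 X Y) (hc : Cm X J) (hY : Y ≤ St W) {g : GL (Fin 8) F} (hg : g ∈ Og Q) :
    ∃ k ∈ Og Q, k ∈ St W ∧ ∀ u v, polar Q (J *ᵥ ((g : Matrix (Fin 8) (Fin 8) F) *ᵥ u)) ((g : Matrix (Fin 8) (Fin 8) F) *ᵥ v) =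
      polar Q (J *ᵥ ((k : Matrix (Fin 8) (Fin 8) F) *ᵥ u)) ((k : Matrix (Fin 8) (Fin 8) F) *ᵥ v) := by
  obtain ⟨x, hx, h1⟩ := h.move hY hg
  refine ⟨x⁻¹ * g, mul_mem (inv_mem (h.leX hx)) hg, h1, fun u v => ?_⟩
  rw [mul_mv, mul_mv, hc.be h.leX (inv_mem hx)]

theorem JJ.sym (hJ : JJ Q K J) (u v : Fin 8 → F) : polar Q (J *ᵥ u) v = polar Q (J *ᵥ v) u := by
  rw [hJ.sa, polar_comm]

/-! ### a totally singular line over the field -/

theorem exists_ts_line (hF : Fintype.card F = 2) (hJ : JJ Q K J) : ∃ v, v ≠ 0 ∧ Q v = 0 ∧ Q (J *ᵥ v) = 0 := by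
  have hne : (Pi.single 0 1 : Fin 8 → F) ≠ 0 := fun e => by simpa using congrFun e 0
  obtain ⟨a, ha⟩ : ∃ a : Fin 8 → F, a ≠ 0 := ⟨_, hne⟩
  -- a vector orthogonal to `K a` and outside
  obtain ⟨b, b1, b2, b3⟩ : ∃ b, polar Q a b = 0 ∧ polar Q (J *ᵥ a) b = 0 ∧ b ∉ Submodule.span F {a, J *ᵥ a} := by
    let φ : (Fin 8 → F) →ₗ[F] F × F := (polarBilin Q a).prod (polarBilin Q (J *ᵥ a))
    have h1 := φ.finrank_range_add_finrank_ker
    have h2 := Submodule.finrank_le (LinearMap.range φ)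
    rw [finrank_V'] at h1
    rw [Module.finrank_prod, Module.finrank_self] at h2
    by_contra hc
    push Not at hc
    have h3 : LinearMap.ker φ ≤ Submodule.span F {a, J *ᵥ a} := fun w hw =>
      hc w (congrArg Prod.fst (LinearMap.mem_ker.1 hw)) (congrArg Prod.snd (LinearMap.mem_ker.1 hw))
    have h4 := Submodule.finrank_mono h3
    have h5 : finrank F (Submodule.span F {a, J *ᵥ a}) ≤ 2 := by
      classical
      have := finrank_span_finset_le_card (R := F) ({a, J *ᵥ a} : Finset (Fin 8 → F))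
      rw [Set.finrank, Finset.coe_pair] at this
      exact this.trans Finset.card_le_two
    omega
  let ψ : F × F × F → (Fin 8 → F) := fun c => c.1 • a + c.2.1 • (J *ᵥ a) + c.2.2 • b
  have hcard : Fintype.card (F × F) < Fintype.card (F × F × F) := by
    simp only [Fintype.card_prod, hF]
    norm_num
  obtain ⟨c, d, hcd, e⟩ := Fintype.exists_ne_map_eq_of_card_lt (fun c => (Q (ψ c), Q (J *ᵥ ψ c))) hcard
  have p1 := pself (Q := Q) hF a
  have p2 := pself (Q := Q) hF (J *ᵥ a)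
  have p3 := pself (Q := Q) hF b
  have p4 := pself (Q := Q) hF (J *ᵥ b)
  have p5 := hJ.alt hF a
  have p6 := hJ.alt hF b
  have p7 : polar Q a (J *ᵥ b) = 0 := (hJ.sa a b).symm.trans b2
  have p8 : polar Q (J *ᵥ a) (J *ᵥ b) = 0 := by rw [← hJ.sa, hJ.sq, polar_add_left, b2, b1, add_zero]
  have q1 : polar Q (ψ c) (ψ d) = 0 := by
    simp only [ψ, polar_add_left, polar_add_right, polar_smul_left, polar_smul_right, p1, p2, p3, p5, b1, b2,
      polar_comm Q a (J *ᵥ a), polar_comm Q b a, polar_comm Q b (J *ᵥ a), smul_zero, add_zero]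
  have q2 : polar Q (J *ᵥ ψ c) (J *ᵥ ψ d) = 0 := by
    simp only [ψ, Matrix.mulVec_add, Matrix.mulVec_smul, hJ.sq, polar_add_left, polar_add_right, polar_smul_left,
      polar_smul_right, p1, p2, p4, p5, p7, p8, polar_comm Q a (J *ᵥ a), polar_comm Q (J *ᵥ b) a,
      polar_comm Q (J *ᵥ b) (J *ᵥ a), smul_zero, add_zero]
  have h2 := two0 hF
  refine ⟨ψ c + ψ d, fun h0 => hcd ?_, ?_, ?_⟩
  · have h3 : ψ c = ψ d := by
      have := vv hF (ψ d)
      linear_combination (norm := module) h0 - this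
    have h4 : (c.2.2 - d.2.2) • b = (d.1 - c.1) • a + (d.2.1 - c.2.1) • (J *ᵥ a) := by
      simp only [ψ] at h3
      linear_combination (norm := module) h3
    have h5 : c.2.2 - d.2.2 = 0 := by
      refine (zo hF _).resolve_right fun k => b3 ?_
      rw [k, one_smul] at h4
      exact Submodule.mem_span_pair.2 ⟨_, _, h4.symm⟩
    rw [h5, zero_smul] at h4
    have h6 : d.2.1 - c.2.1 = 0 := by
      refine (zo hF _).resolve_right fun k => hJ.ne ha (-(d.1 - c.1)) ?_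
      rw [k, one_smul] at h4
      linear_combination (norm := module) -h4
    rw [h6, zero_smul, add_zero] at h4
    have h7 : d.1 - c.1 = 0 := (smul_eq_zero.1 h4.symm).resolve_right ha
    exact Prod.ext (sub_eq_zero.1 h7).symm (Prod.ext (sub_eq_zero.1 h6).symm (sub_eq_zero.1 h5))
  · have e1 : Q (ψ c) = Q (ψ d) := congrArg Prod.fst e
    rw [Q_add, q1, e1]
    linear_combination Q (ψ d) * h2
  · have e1 : Q (J *ᵥ ψ c) = Q (J *ᵥ ψ d) := congrArg Prod.snd e
    rw [Matrix.mulVec_add, Q_add, q2, e1]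
    linear_combination Q (J *ᵥ ψ d) * h2

theorem trans_ts (h : Spc Q 4) {x y x' y' : Fin 8 → F} (h1 : H353.TwoOrth.TS Q x y) (h2 : H353.TwoOrth.TS Q x' y') :
    ∃ g ∈ Og Q, (g : Matrix (Fin 8) (Fin 8) F) *ᵥ x = x' ∧ (g : Matrix (Fin 8) (Fin 8) F) *ᵥ y = y' := by
  obtain ⟨a, ha, h3, h4⟩ := H353.TwoOrth.trans_TS h.good (by rw [finrank_V']; norm_num) h1 h2
  obtain ⟨g, hg, h5⟩ := h.exists_og ha
  exact ⟨g, hg, by rw [h5, h3], by rw [h5, h4]⟩

theorem exists_basis3 (hW : finrank F W = 3) : ∃ a ∈ W, ∃ b ∈ W, ∃ c ∈ W, (∀ s t : F, s • a + t • b = 0 → s = 0 ∧ t = 0) ∧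
    ∀ x ∈ W, ∃ r s t : F, x = r • a + s • b + t • c := by
  let B := Module.finBasisOfFinrankEq F W hW
  refine ⟨B 0, (B 0).2, B 1, (B 1).2, B 2, (B 2).2, fun s t hst => ?_, fun x hx => ?_⟩
  · have h1 : s • B 0 + t • B 1 = 0 := Subtype.ext hst
    have h2 := congrArg (fun z => B.repr z 0) h1
    have h3 := congrArg (fun z => B.repr z 1) h1
    simp at h2 h3
    exact ⟨h2, h3⟩
  · have h1 := B.sum_repr ⟨x, hx⟩
    rw [Fin.sum_univ_three] at h1
    exact ⟨_, _, _, (congrArg Subtype.val h1).symm⟩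

/-- **the second factor fixes no singular `3`-space** -/
theorem kill3B (h : Pr Q 4 X Y) (hF : Fintype.card F = 2) (hJ : JJ Q K J) (hc : Cm X J) (hW : finrank F W = 3)
    (hs : ∀ w ∈ W, Q w = 0) (hY : Y ≤ St W) : False := by
  have hp : ∀ x ∈ W, ∀ y ∈ W, polar Q x y = 0 := fun x hx y hy => by
    have := Q_add (Q := Q) x y
    rwa [hs _ (W.add_mem hx hy), hs x hx, hs y hy, zero_add, zero_add, eq_comm] at this
  obtain ⟨a, ha, b, hb, c, hc', hind, hspan⟩ := exists_basis3 hW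
  have hab : H353.TwoOrth.TS Q a b := ⟨hs a ha, hs b hb, hp a ha b hb, hind⟩
  obtain ⟨v, v0, v1, v2⟩ := exists_ts_line hF hJ
  have hv : H353.TwoOrth.TS Q v (J *ᵥ v) := by
    refine ⟨v1, v2, by rw [polar_comm]; exact hJ.alt hF v, fun s t hst => ?_⟩
    have ht : t = 0 := by
      refine (zo hF t).resolve_right fun k => hJ.ne v0 (-s) ?_
      rw [k, one_smul] at hst
      linear_combination (norm := module) hst
    rw [ht, zero_smul, add_zero] at hst
    exact ⟨(smul_eq_zero.1 hst).resolve_right v0, ht⟩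
  obtain ⟨g, hg, g1, g2⟩ := trans_ts h.toSpc hab hv
  -- the form vanishes on `g W`
  have k1 : ∀ y ∈ W, polar Q (J *ᵥ ((g : Matrix (Fin 8) (Fin 8) F) *ᵥ a)) ((g : Matrix (Fin 8) (Fin 8) F) *ᵥ y) = 0 := by
    intro y hy
    rw [g1, ← g2, polar_mv hg, hp b hb y hy]
  have k2 : ∀ y ∈ W, polar Q (J *ᵥ ((g : Matrix (Fin 8) (Fin 8) F) *ᵥ b)) ((g : Matrix (Fin 8) (Fin 8) F) *ᵥ y) = 0 := by
    intro y hy
    rw [g2, hJ.sq, polar_add_left]
    conv_lhs => rw [← g2, ← g1]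
    rw [polar_mv hg, polar_mv hg, hp b hb y hy, hp a ha y hy, add_zero]
  have k3 : ∀ y ∈ W, polar Q (J *ᵥ ((g : Matrix (Fin 8) (Fin 8) F) *ᵥ c)) ((g : Matrix (Fin 8) (Fin 8) F) *ᵥ y) = 0 := by
    intro y hy
    obtain ⟨r, s, t, rfl⟩ := hspan y hy
    rw [Matrix.mulVec_add, Matrix.mulVec_add, Matrix.mulVec_smul, Matrix.mulVec_smul, Matrix.mulVec_smul,
      polar_add_right, polar_add_right, polar_smul_right, polar_smul_right, polar_smul_right, hJ.alt hF,
      hJ.sym, k1 c hc', hJ.sym, k2 c hc']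
    simp
  have k4 : ∀ x ∈ W, ∀ y ∈ W,
      polar Q (J *ᵥ ((g : Matrix (Fin 8) (Fin 8) F) *ᵥ x)) ((g : Matrix (Fin 8) (Fin 8) F) *ᵥ y) = 0 := by
    intro x hx y hy
    obtain ⟨r, s, t, rfl⟩ := hspan x hx
    simp only [Matrix.mulVec_add, Matrix.mulVec_smul, polar_add_left, polar_smul_left, k1 y hy, k2 y hy, k3 y hy,
      smul_zero, add_zero]
  -- on `W`
  obtain ⟨k, -, hk, e⟩ := transport h hc hY hg
  have k5 : ∀ x ∈ W, ∀ y ∈ W, polar Q (J *ᵥ x) y = 0 := by
    intro x hx y hy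
    have := k4 _ (mem_St.1 (inv_mem hk) x hx) _ (mem_St.1 (inv_mem hk) y hy)
    rwa [e, mv_inv, mv_inv] at this
  -- on all singular pairs
  have k6 : ∀ x y, H353.TwoOrth.TS Q x y → polar Q (J *ᵥ x) y = 0 := by
    intro x y hxy
    obtain ⟨g', hg', e1, e2⟩ := trans_ts h.toSpc hab hxy
    obtain ⟨k', -, hk', e'⟩ := transport h hc hY hg'
    rw [← e1, ← e2, e']
    exact k5 _ (mem_St.1 hk' a ha) _ (mem_St.1 hk' b hb)
  obtain ⟨f, hf⟩ := exists_hyp h.toSpc.nd v1 v0
  obtain ⟨z, w, hzw, z1, z2, -, -⟩ := h.good.exists_hyp2 hf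
  obtain ⟨y, y1, y2⟩ := exists_sep h.toSpc.nd (hJ.ne v0)
  have k7 : polar Q (J *ᵥ v) y = 0 := by
    refine sing_induction_perp (P := fun y => polar Q (J *ᵥ v) y = 0) hzw z1 z2 z1 z2
      (fun p q _ _ _ _ hp hq => by rw [polar_add_right, hp, hq, add_zero]) (fun p p1 p2 _ => ?_) y y1 y1
    by_cases hp : ∃ s : F, p = s • v
    · obtain ⟨s, rfl⟩ := hp
      rw [polar_smul_right, hJ.alt hF, smul_zero]
    · refine k6 v p ⟨v1, p1, p2, fun s t hst => ?_⟩
      have ht : t = 0 := by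
        refine (zo hF t).resolve_right fun k => hp ⟨-s, ?_⟩
        rw [k, one_smul] at hst
        linear_combination (norm := module) hst
      rw [ht, zero_smul, add_zero] at hst
      exact ⟨(smul_eq_zero.1 hst).resolve_right v0, ht⟩
  rw [k7] at y2
  exact zero_ne_one y2

/-- an anisotropic plane over the field with two elements -/
theorem exists_pair (hF : Fintype.card F = 2) (hW : finrank F W = 2) (ha : ∀ w ∈ W, Q w = 0 → w = 0) :
    ∃ a ∈ W, ∃ b ∈ W, Q a = 1 ∧ Q b = 1 ∧ polar Q a b = 1 ∧ ∀ x ∈ W, ∃ s t : F, x = s • a + t • b := by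
  let B := Module.finBasisOfFinrankEq F W hW
  have h1 : ∀ w : W, w ≠ 0 → Q w = 1 := fun w hw => (zo hF _).resolve_left fun k => hw (Subtype.ext (ha w w.2 k))
  have h2 := h1 _ (B.ne_zero 0)
  have h3 := h1 _ (B.ne_zero 1)
  have h4 := h1 (B 0 + B 1) (fun e => by simpa using congrArg (fun z => B.repr z 0) e)
  rw [Submodule.coe_add, Q_add, h2, h3] at h4
  refine ⟨B 0, (B 0).2, B 1, (B 1).2, h2, h3, by linear_combination h4 - two0 hF, fun x hx => ?_⟩
  have h5 := B.sum_repr ⟨x, hx⟩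
  rw [Fin.sum_univ_two] at h5
  exact ⟨_, _, (congrArg Subtype.val h5).symm⟩

/-- **the second factor fixes no plane of minus type**, first case -/
theorem killDB (h : Pr Q 4 X Y) (hF : Fintype.card F = 2) (hJ : JJ Q K J) (hc : Cm X J) (hW : finrank F W = 2)
    (ha : ∀ w ∈ W, Q w = 0 → w = 0) {x y : Fin 8 → F} (hxy : Hyp Q x y) (hx : x ∈ perp Q W) (hy : y ∈ perp Q W)
    (hY : Y ≤ St W) : False := by
  obtain ⟨a, haW, b, hbW, a1, b1, hab, hspan⟩ := exists_pair hF hW ha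
  have a0 : a ≠ 0 := by
    rintro rfl
    rw [QuadraticMap.map_zero] at a1
    exact zero_ne_one a1
  have k1 : ∀ u ∈ W, ∀ v ∈ W, polar Q (J *ᵥ u) v = polar Q (J *ᵥ a) b * polar Q u v := by
    intro u hu v hv
    obtain ⟨s, t, rfl⟩ := hspan u hu
    obtain ⟨s', t', rfl⟩ := hspan v hv
    simp only [Matrix.mulVec_add, Matrix.mulVec_smul, polar_add_left, polar_add_right, polar_smul_left,
      polar_smul_right, hJ.alt hF, pself hF, hJ.sym b a, polar_comm Q b a, hab, smul_eq_mul]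
    ring
  have k2 : ∀ u, Q u = 0 → polar Q a u = 0 → polar Q b u = 0 → polar Q (J *ᵥ a) u = 0 := by
    intro u hu u1 u2
    have u3 : polar Q u a = 0 := by rw [polar_comm, u1]
    have u4 : polar Q u b = 0 := by rw [polar_comm, u2]
    obtain ⟨k, hk, hkW, e⟩ := transport h hc hY (h.toSpc.sg_mem hu u3)
    have e1 := e a b
    rw [k1 _ (mem_St.1 hkW a haW) _ (mem_St.1 hkW b hbW), polar_mv hk, hab, mul_one, sg_apply, sg_apply, u3, u4,
      pself hF, hab] at e1
    simp only [zero_smul, add_zero, mul_zero, sub_zero, one_smul, polar_sub_right] at e1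
    linear_combination -e1
  have k3 : ∀ v, polar Q a v = 0 → polar Q b v = 0 → polar Q (J *ᵥ a) v = 0 := fun v v1 v2 =>
    sing_induction_perp (P := fun y => polar Q (J *ᵥ a) y = 0) hxy (hx a haW) (hy a haW) (hx b hbW) (hy b hbW)
      (fun p q _ _ _ _ hp hq => by rw [polar_add_right, hp, hq, add_zero]) k2 v v1 v2
  refine hJ.ne a0 (polar Q (J *ᵥ a) b) (sub_eq_zero.1 (h.toSpc.nd _ fun v => ?_))
  have h2 := two0 hF
  have k4 := k3 (v - polar Q b v • a - polar Q a v • b)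
    (by simp only [polar_sub_right, polar_smul_right, pself hF, hab, smul_eq_mul]; ring)
    (by simp only [polar_sub_right, polar_smul_right, pself hF, polar_comm Q b a, hab, smul_eq_mul]; ring)
  simp only [polar_sub_right, polar_smul_right, hJ.alt hF, smul_eq_mul] at k4
  rw [polar_sub_left, polar_smul_left, smul_eq_mul]
  linear_combination k4

/-! ### the simple factor -/

theorem simple_of (hF : Fintype.card F = 2) (hs : IsSimpleGroup (H915.LD.Soc X)) : IsSimpleGroup X := by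
  have h1 : (scalars (Fin 8) F).subgroupOf X = ⊥ := by
    rw [eq_bot_iff]
    intro g hg
    exact Subgroup.mem_bot.2 (Subtype.ext (scal hF hg))
  exact ((QuotientGroup.quotientMulEquivOfEq h1).trans QuotientGroup.quotientBot).symm.isSimpleGroup

theorem cm_of (hs : IsSimpleGroup X) (hXK : X ≤ subalgebraNormalizer K) (hJ : J ∈ K) {a : GL (Fin 8) F} (ha : a ∈ X)
    (h1 : a ≠ 1) (hc : ∀ y ∈ K, (a : Matrix (Fin 8) (Fin 8) F) * y = y * a) : Cm X J := by
  let C : Subgroup X :=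
    { carrier := {t | ∀ y ∈ K, ((t : GL (Fin 8) F) : Matrix (Fin 8) (Fin 8) F) * y = y * (t : GL (Fin 8) F)}
      one_mem' := fun y _ => by simp
      mul_mem' := fun {s} {t} hs ht y hy => by
        rw [Subgroup.coe_mul, Units.val_mul, mul_assoc, ht y hy, ← mul_assoc, hs y hy, mul_assoc]
      inv_mem' := fun {s} hs y hy => (Commute.units_inv_left (hs y hy) : _) }
  have hN : C.Normal := by
    refine ⟨fun t ht s y hy => ?_⟩
    have h2 := ht _ ((hXK (inv_mem s.2) y).1 hy)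
    rw [inv_inv] at h2
    rw [Subgroup.coe_mul, Subgroup.coe_mul, Subgroup.coe_inv, Units.val_mul, Units.val_mul]
    calc ((s : GL (Fin 8) F) : Matrix (Fin 8) (Fin 8) F) * (t : GL (Fin 8) F) * ((s : GL (Fin 8) F)⁻¹ : GL (Fin 8) F) * y
        = (s : GL (Fin 8) F) * ((t : GL (Fin 8) F) * (((s : GL (Fin 8) F)⁻¹ : GL (Fin 8) F) * y * (s : GL (Fin 8) F))) *
          ((s : GL (Fin 8) F)⁻¹ : GL (Fin 8) F) := by simp only [mul_assoc, Units.mul_inv, mul_one]
      _ = _ := by rw [h2]; simp only [← mul_assoc, Units.mul_inv, one_mul]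
  rcases hN.eq_bot_or_eq_top with h2 | h2
  · have h3 : (⟨a, ha⟩ : X) ∈ C := hc
    rw [h2, Subgroup.mem_bot] at h3
    exact absurd (congrArg Subtype.val h3) h1
  · intro x hx
    have h3 : (⟨x, hx⟩ : X) ∈ C := h2 ▸ Subgroup.mem_top _
    exact h3 J hJ

theorem act_dich (hF : Fintype.card F = 2) (hs : IsSimpleGroup Y) (hY : Y ≤ St W) :
    (∀ t ∈ Y, ∀ v ∈ W, (t : Matrix (Fin 8) (Fin 8) F) *ᵥ v = v) ∨ Nat.card Y ∣ (2 ^ finrank F W - 1).factorial := by
  let S : Set (Fin 8 → F) := (W : Set (Fin 8 → F)) \ {0}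
  let _ : MulAction Y S :=
    { smul := fun g v => ⟨((g : GL (Fin 8) F) : Matrix (Fin 8) (Fin 8) F) *ᵥ v.1, mem_St.1 (hY g.2) _ v.2.1, mv_ne _ v.2.2⟩
      one_smul := fun v => Subtype.ext (Matrix.one_mulVec v.1)
      mul_smul := fun g h v => Subtype.ext (mul_mv _ _ _) }
  rcases (MulAction.toPermHom Y S).normal_ker.eq_bot_or_eq_top with h1 | h1
  · right
    have h2 := Subgroup.card_dvd_of_injective _ ((MonoidHom.ker_eq_bot_iff _).1 h1)
    have h3 : Nat.card S = 2 ^ finrank F W - 1 := by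
      rw [Nat.card_coe_set_eq, Set.ncard_diff_singleton_of_mem W.zero_mem, ← Nat.card_coe_set_eq, ← card_sub hF]
      rfl
    rwa [Nat.card_perm, h3] at h2
  · left
    intro t ht v hv
    by_cases h0 : v = 0
    · rw [h0, Matrix.mulVec_zero]
    · have h2 : (⟨t, ht⟩ : Y) ∈ (MulAction.toPermHom Y S).ker := h1 ▸ Subgroup.mem_top _
      have h3 := congrArg (fun σ : Equiv.Perm S => (σ ⟨v, hv, h0⟩ : Fin 8 → F)) (MonoidHom.mem_ker.1 h2)
      exact h3

/-- **the second factor fixes no plane of minus type**, second case -/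
theorem killDT (h : Spc Q 4) (hF : Fintype.card F = 2) (hYO : Y ≤ Og Q) (hs : IsSimpleGroup Y) (h7 : 7 ∣ Nat.card Y)
    (hcen : ∀ g ∈ Og Q, (∀ t ∈ Y, g * t = t * g) → g ∈ scalars (Fin 8) F) (hW : finrank F W = 2)
    (ha : ∀ w ∈ W, Q w = 0 → w = 0) (hY : Y ≤ St W) : False := by
  rcases act_dich hF hs hY with h1 | h1
  · obtain ⟨a, haW, b, hbW, a1, b1, hab, -⟩ := exists_pair hF hW ha
    have a0 : Q a ≠ 0 := by rw [a1]; exact one_ne_zero
    have b0 : Q b ≠ 0 := by rw [b1]; exact one_ne_zero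
    obtain ⟨g, hg, e⟩ := h.exists_og (h.good.refl_mul_refl_mem b0 a0 (b1.trans a1.symm))
    have e' : ∀ v, (g : Matrix (Fin 8) (Fin 8) F) *ᵥ v =
        v - polar Q b v • b - polar Q a (v - polar Q b v • b) • a := fun v => by
      rw [e, LinearEquiv.mul_apply, refl_apply, refl_apply, a1, b1, inv_one, one_mul, one_mul]
    have h2 := scal hF (hcen g hg fun t ht => gl_ext fun v => by
      have t1 : ∀ z, polar Q a ((t : Matrix (Fin 8) (Fin 8) F) *ᵥ z) = polar Q a z := fun z => by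
        conv_lhs => rw [← h1 t ht a haW]
        exact polar_mv (hYO ht) a z
      have t2 : ∀ z, polar Q b ((t : Matrix (Fin 8) (Fin 8) F) *ᵥ z) = polar Q b z := fun z => by
        conv_lhs => rw [← h1 t ht b hbW]
        exact polar_mv (hYO ht) b z
      rw [mul_mv, mul_mv, e', e']
      simp only [Matrix.mulVec_sub, Matrix.mulVec_smul, h1 t ht a haW, h1 t ht b hbW, polar_sub_right, t1, t2])
    have h3 := e' b
    rw [h2, Units.val_one, Matrix.one_mulVec, pself hF, zero_smul, sub_zero, hab, one_smul] at h3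
    have h4 : a = 0 := by linear_combination (norm := module) h3
    rw [h4, QuadraticMap.map_zero] at a1
    exact zero_ne_one a1
  · rw [hW] at h1
    exact absurd (h7.trans h1) (by decide)

end Cfsg.Agent.SM.Om.E82
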