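import Cfsg.Agent.SM.Om.Defs
import Cfsg.Agent.H906.Cov.EKill

/-!
# SM, family fM, rows G2: Siegel elements and a field of matrices (helper38)

* `mem_Og` : `g ∈ Og Q ↔ glEquiv g ∈ E Q`;
* `IsSg Q u w g` : the matrix `g` acts as the Siegel transformation of `(u, w)`; `exists_sg`;
* `mem_span_of_norm` : if such a `g` normalises a field `K` and `y ∈ K` is not scalar then `w ∈ ⟨u, y u⟩`;
* `alt_two` : the pointwise stabiliser in `Ω` of a subspace of codimension at least four does not normalise `K`;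
* `alt_one` : what the first alternative gives.
-/

set_option autoImplicit false
set_option linter.unusedSectionVars false

namespace Cfsg.Agent.SM.Om.G2

open Module QuadraticMap Cfsg Cfsg.Geo Cfsg.Agent.LieClassical.OrthCore Cfsg.Agent.LieClassical.OrthTrans
  Cfsg.Agent.LieClassical.OrthFinite
open scoped MatrixGroups Matrix

variable {n : ℕ} {F : Type} [Field F] [Fintype F] {Q : QuadraticForm F (Fin n → F)}

theorem mem_Og (hG : Good Q) (g : GL (Fin n) F) : g ∈ Og Q ↔ glEquiv (Fin n) F g ∈ E Q := by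
  have h : (omegaGL (⇑Q)).map (glEquiv (Fin n) F).toMonoidHom = E Q := by
    rw [← hG.commutator_eq_E, ← map_Omega Q, isometryHom, omegaGL, ← Subgroup.map_map]
  rw [← h]
  constructor
  · intro h
    exact ⟨g, h, rfl⟩
  · rintro ⟨g', hg', e⟩
    have : g' = g := (glEquiv (Fin n) F).injective e
    rw [← this]
    exact hg'

/-- every element of `E Q` is a matrix of `Og Q` -/
theorem exists_Og (hG : Good Q) {x : (Fin n → F) ≃ₗ[F] (Fin n → F)} (hx : x ∈ E Q) :
    ∃ g ∈ Og Q, ∀ v, (g : Matrix (Fin n) (Fin n) F) *ᵥ v = x v := by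
  refine ⟨(glEquiv (Fin n) F).symm x, ?_, fun v => ?_⟩
  · rw [mem_Og hG, MulEquiv.apply_symm_apply]
    exact hx
  · rw [← glEquiv_apply, MulEquiv.apply_symm_apply]

theorem polar_Og (hG : Good Q) {g : GL (Fin n) F} (hg : g ∈ Og Q) (x y : Fin n → F) :
    polar Q ((g : Matrix (Fin n) (Fin n) F) *ᵥ x) ((g : Matrix (Fin n) (Fin n) F) *ᵥ y) = polar Q x y := by
  rw [← glEquiv_apply, ← glEquiv_apply]
  exact polar_map (E_le_O ((mem_Og hG g).1 hg)) x y

theorem Q_Og (hG : Good Q) {g : GL (Fin n) F} (hg : g ∈ Og Q) (x : Fin n → F) :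
    Q ((g : Matrix (Fin n) (Fin n) F) *ᵥ x) = Q x := by
  rw [← glEquiv_apply]
  exact mem_O.1 (E_le_O ((mem_Og hG g).1 hg)) x

theorem mem_St {W : Submodule F (Fin n → F)} {g : GL (Fin n) F} :
    g ∈ St W ↔ ∀ w ∈ W, (g : Matrix (Fin n) (Fin n) F) *ᵥ w ∈ W :=
  H884.OmegaGL.mem_subspaceStabilizer

theorem mul_mv (g h : GL (Fin n) F) (v : Fin n → F) :
    ((g * h : GL (Fin n) F) : Matrix (Fin n) (Fin n) F) *ᵥ v =
      (g : Matrix (Fin n) (Fin n) F) *ᵥ ((h : Matrix (Fin n) (Fin n) F) *ᵥ v) := by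
  rw [Units.val_mul, Matrix.mulVec_mulVec]

theorem inv_mv (g : GL (Fin n) F) (v : Fin n → F) :
    ((g⁻¹ : GL (Fin n) F) : Matrix (Fin n) (Fin n) F) *ᵥ ((g : Matrix (Fin n) (Fin n) F) *ᵥ v) = v := by
  rw [← mul_mv, inv_mul_cancel, Units.val_one, Matrix.one_mulVec]

theorem mv_inv (g : GL (Fin n) F) (v : Fin n → F) :
    (g : Matrix (Fin n) (Fin n) F) *ᵥ (((g⁻¹ : GL (Fin n) F) : Matrix (Fin n) (Fin n) F) *ᵥ v) = v := by
  rw [← mul_mv, mul_inv_cancel, Units.val_one, Matrix.one_mulVec]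

theorem mat_ext {a b : Matrix (Fin n) (Fin n) F} (h : ∀ v, a *ᵥ v = b *ᵥ v) : a = b :=
  Matrix.toLin'.injective (LinearMap.ext fun v => by rw [Matrix.toLin'_apply, Matrix.toLin'_apply]; exact h v)

theorem gl_ext {g h : GL (Fin n) F}
    (e : ∀ v, (g : Matrix (Fin n) (Fin n) F) *ᵥ v = (h : Matrix (Fin n) (Fin n) F) *ᵥ v) : g = h :=
  Units.ext (mat_ext e)

/-- `g` acts as the Siegel transformation of `(u, w)` -/
def IsSg (Q : QuadraticForm F (Fin n → F)) (u w : Fin n → F) (g : GL (Fin n) F) : Prop :=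
  ∀ v, (g : Matrix (Fin n) (Fin n) F) *ᵥ v = v + polar Q u v • w - polar Q w v • u - (Q w * polar Q u v) • u

theorem exists_sg (hG : Good Q) {u w : Fin n → F} (hu : Q u = 0) (hw : polar Q u w = 0) :
    ∃ g ∈ Og Q, IsSg Q u w g := by
  obtain ⟨g, hg, e⟩ := exists_Og hG (siegel_mem_E hu hw)
  exact ⟨g, hg, fun v => by rw [e, siegel_apply]⟩

theorem IsSg.fix {u w : Fin n → F} {g : GL (Fin n) F} (h : IsSg Q u w g) {v : Fin n → F} (h1 : polar Q u v = 0)
    (h2 : polar Q w v = 0) : (g : Matrix (Fin n) (Fin n) F) *ᵥ v = v := by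
  rw [h v, h1, h2]
  simp

section field

variable {s : ℕ} {K : Subalgebra F (Matrix (Fin n) (Fin n) F)}

/-- a nonzero element of the field has no kernel -/
theorem eq_zero_of_mv (hK : IsFieldSubalgebra s K) {y : Matrix (Fin n) (Fin n) F} (hy : y ∈ K) {v : Fin n → F}
    (hv : v ≠ 0) (h : y *ᵥ v = 0) : y = 0 := by
  by_contra h0
  obtain ⟨z, hz, e⟩ := hK.inv y hy h0
  apply hv
  rw [← Matrix.one_mulVec v, ← e, hK.comm y hy z hz, ← Matrix.mulVec_mulVec, h, Matrix.mulVec_zero]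

theorem eq_of_mv (hK : IsFieldSubalgebra s K) {y z : Matrix (Fin n) (Fin n) F} (hy : y ∈ K) (hz : z ∈ K)
    {v : Fin n → F} (hv : v ≠ 0) (h : y *ᵥ v = z *ᵥ v) : y = z :=
  sub_eq_zero.1 (eq_zero_of_mv hK (K.sub_mem hy hz) hv (by rw [Matrix.sub_mulVec, h, sub_self]))

theorem smul_one_mem (c : F) : c • (1 : Matrix (Fin n) (Fin n) F) ∈ K := K.smul_mem K.one_mem c

/-- a non-scalar element of the field has no eigenvector -/
theorem no_eigen (hK : IsFieldSubalgebra s K) {y : Matrix (Fin n) (Fin n) F} (hy : y ∈ K)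
    (hys : ∀ c : F, y ≠ c • 1) {v : Fin n → F} (hv : v ≠ 0) (c : F) : y *ᵥ v ≠ c • v := fun h =>
  hys c (eq_of_mv hK hy (smul_one_mem c) hv (by rw [h, Matrix.smul_mulVec, Matrix.one_mulVec]))

theorem exists_nonscalar (hK : IsFieldSubalgebra s K) (hs : 2 ≤ s) : ∃ y ∈ K, ∀ c : F, y ≠ c • 1 := by
  by_contra h
  push Not at h
  have h1 : Subalgebra.toSubmodule K ≤ F ∙ (1 : Matrix (Fin n) (Fin n) F) := by
    intro y hy
    obtain ⟨c, e⟩ := h y hy
    exact Submodule.mem_span_singleton.2 ⟨c, e.symm⟩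
  have h2 := Submodule.finrank_mono h1
  have h3 : finrank F (F ∙ (1 : Matrix (Fin n) (Fin n) F)) ≤ 1 := by
    by_cases h0 : (1 : Matrix (Fin n) (Fin n) F) = 0
    · rw [h0, Submodule.span_zero_singleton, finrank_bot]
      omega
    · exact (finrank_span_singleton h0).le
  have h4 : finrank F (Subalgebra.toSubmodule K) = s := hK.finrank_eq
  omega

theorem conj_mem {g : GL (Fin n) F} (hg : g ∈ subalgebraNormalizer K) {y : Matrix (Fin n) (Fin n) F} (hy : y ∈ K) :
    (g : Matrix (Fin n) (Fin n) F) * y * ((g⁻¹ : GL (Fin n) F) : Matrix (Fin n) (Fin n) F) ∈ K := (hg y).1 hy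

/-- `g y = y' g` with `y' ∈ K` -/
theorem exists_conj {g : GL (Fin n) F} (hg : g ∈ subalgebraNormalizer K) {y : Matrix (Fin n) (Fin n) F} (hy : y ∈ K) :
    ∃ y' ∈ K, ∀ v, (g : Matrix (Fin n) (Fin n) F) *ᵥ (y *ᵥ v) = y' *ᵥ ((g : Matrix (Fin n) (Fin n) F) *ᵥ v) :=
  ⟨_, conj_mem hg hy, fun v => by rw [← Matrix.mulVec_mulVec, ← Matrix.mulVec_mulVec, inv_mv]⟩

/-- `y g = g y'` with `y' ∈ K` -/
theorem exists_conj' {g : GL (Fin n) F} (hg : g ∈ subalgebraNormalizer K) {y : Matrix (Fin n) (Fin n) F} (hy : y ∈ K) :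
    ∃ y' ∈ K, ∀ v, y *ᵥ ((g : Matrix (Fin n) (Fin n) F) *ᵥ v) = (g : Matrix (Fin n) (Fin n) F) *ᵥ (y' *ᵥ v) := by
  obtain ⟨y', hy', e⟩ := exists_conj (inv_mem hg) hy
  refine ⟨y', hy', fun v => ?_⟩
  have h := e ((g : Matrix (Fin n) (Fin n) F) *ᵥ v)
  rw [inv_mv] at h
  rw [← h, mv_inv]

/-- a Siegel element normalising the field centralises it -/
theorem comm_of_norm (hn : 5 ≤ n) (hK : IsFieldSubalgebra s K) {u w : Fin n → F} {g : GL (Fin n) F} (hg : IsSg Q u w g)
    (hN : g ∈ subalgebraNormalizer K) {y : Matrix (Fin n) (Fin n) F} (hy : y ∈ K) (v : Fin n → F) :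
    (g : Matrix (Fin n) (Fin n) F) *ᵥ (y *ᵥ v) = y *ᵥ ((g : Matrix (Fin n) (Fin n) F) *ᵥ v) := by
  let f : (Fin n → F) →ₗ[F] (Fin 4 → F) := LinearMap.pi
    ![polarBilin Q u, polarBilin Q w, (polarBilin Q u).comp (Matrix.toLin' y), (polarBilin Q w).comp (Matrix.toLin' y)]
  have hker : LinearMap.ker f ≠ ⊥ := LinearMap.ker_ne_bot_of_finrank_lt (by simp; omega)
  obtain ⟨z, hz, hz0⟩ := Submodule.exists_mem_ne_zero_of_ne_bot hker
  have hz' : f z = 0 := hz
  have h0 : polar Q u z = 0 := congrFun hz' 0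
  have h1 : polar Q w z = 0 := congrFun hz' 1
  have h2 : polar Q u (y *ᵥ z) = 0 := congrFun hz' 2
  have h3 : polar Q w (y *ᵥ z) = 0 := congrFun hz' 3
  obtain ⟨y', hy', e⟩ := exists_conj hN hy
  have h4 := e z
  rw [hg.fix h2 h3, hg.fix h0 h1] at h4
  rw [e v, ← eq_of_mv hK hy hy' hz0 h4]

/-- **The second alternative.** If the Siegel element of `(u, w)` normalises the field `K` and `y ∈ K` is not scalar, then
`w` lies in the span of `u` and `y u`. -/
theorem mem_span_of_norm (hQ : Nondeg Q) (hn : 5 ≤ n) (hK : IsFieldSubalgebra s K) {y : Matrix (Fin n) (Fin n) F}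
    (hy : y ∈ K) (hys : ∀ c : F, y ≠ c • 1) {u w : Fin n → F} (hu : u ≠ 0) {g : GL (Fin n) F} (hg : IsSg Q u w g)
    (hN : g ∈ subalgebraNormalizer K) : w ∈ Submodule.span F {u, y *ᵥ u} := by
  rw [Submodule.mem_span_pair]
  by_cases hw : ∀ c : F, w ≠ c • u
  · obtain ⟨x, hx1, hx2⟩ := exists_sep hQ hw
    have h1 : (g : Matrix (Fin n) (Fin n) F) *ᵥ x = x - u := by
      rw [hg x, hx1, hx2]
      simp
    have h2 := comm_of_norm hn hK hg hN hy x
    rw [h1, hg (y *ᵥ x), Matrix.mulVec_sub] at h2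
    set a := polar Q u (y *ᵥ x)
    set b := polar Q w (y *ᵥ x)
    have h3 : y *ᵥ u = (b + Q w * a) • u - a • w := by
      rw [add_smul]
      linear_combination (exp := 1) h2
    have ha : a ≠ 0 := fun h0 => no_eigen hK hy hys hu (b + Q w * a) (by rw [h3, h0, zero_smul, sub_zero])
    refine ⟨a⁻¹ * (b + Q w * a), -a⁻¹, ?_⟩
    rw [h3, smul_sub, smul_smul, smul_smul, neg_mul, neg_mul, inv_mul_cancel₀ ha]
    module
  · push Not at hw
    obtain ⟨c, e⟩ := hw
    exact ⟨c, 0, by rw [e, zero_smul, add_zero]⟩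

end field

/-- the orthogonal complement -/
abbrev pp (Q : QuadraticForm F (Fin n → F)) (W : Submodule F (Fin n → F)) : Submodule F (Fin n → F) :=
  LinearMap.BilinForm.orthogonal (polarBilin Q) W

theorem mem_pp {W : Submodule F (Fin n → F)} {x : Fin n → F} : x ∈ pp Q W ↔ ∀ w ∈ W, polar Q w x = 0 :=
  LinearMap.BilinForm.mem_orthogonal_iff

theorem finrank_pp (hQ : Nondeg Q) (W : Submodule F (Fin n → F)) : finrank F (pp Q W) = n - finrank F W := by
  rw [LinearMap.BilinForm.finrank_orthogonal (H884.SingMax.nondegenerate_of_nondeg hQ)]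
  simp

theorem finrank_sing_le (v : Fin n → F) : finrank F (F ∙ v) ≤ 1 := by
  by_cases h0 : v = 0
  · rw [h0, Submodule.span_zero_singleton, finrank_bot]
    omega
  · exact (finrank_span_singleton h0).le

theorem finrank_pair_le (u v : Fin n → F) : finrank F (Submodule.span F {u, v} : Submodule F (Fin n → F)) ≤ 2 := by
  have h1 := Submodule.finrank_add_le_finrank_add_finrank (F ∙ u) (F ∙ v)
  have h2 := finrank_sing_le u
  have h3 := finrank_sing_le v
  rw [Submodule.span_insert]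
  omega

theorem finrank_sup_sing (R : Submodule F (Fin n → F)) (u : Fin n → F) :
    finrank F (R ⊔ F ∙ u : Submodule F (Fin n → F)) ≤ finrank F R + 1 := by
  have h1 := Submodule.finrank_add_le_finrank_add_finrank R (F ∙ u)
  have h2 := finrank_sing_le u
  omega

/-- the pointwise stabiliser in `Ω` of a subspace of codimension at least four does not normalise a field -/
theorem alt_two (hG : Good Q) {s : ℕ} {K : Subalgebra F (Matrix (Fin n) (Fin n) F)} (hK : IsFieldSubalgebra s K)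
    (hs : 2 ≤ s) (R : Submodule F (Fin n → F)) (hR : finrank F R + 4 ≤ n)
    (h : ∀ g ∈ Og Q, (∀ v ∈ R, (g : Matrix (Fin n) (Fin n) F) *ᵥ v = v) → g ∈ subalgebraNormalizer K) : False := by
  have hn : 5 ≤ n := by simpa using hG.dim
  obtain ⟨y, hy, hys⟩ := exists_nonscalar hK hs
  obtain ⟨u, hu, hu0, hQu⟩ := exists_sing_mem (Q := Q) (pp Q R) (by rw [finrank_pp hG.nondeg]; omega)
  have hnot : ¬ pp Q (R ⊔ F ∙ u) ≤ Submodule.span F {u, y *ᵥ u} := by
    intro hle
    have h1 := Submodule.finrank_mono hle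
    have h2 := finrank_pair_le u (y *ᵥ u)
    have h3 := finrank_sup_sing R u
    rw [finrank_pp hG.nondeg] at h1
    omega
  obtain ⟨w, hw, hw'⟩ := SetLike.not_le_iff_exists.1 hnot
  have huw : polar Q u w = 0 := mem_pp.1 hw u (Submodule.mem_sup_right (Submodule.mem_span_singleton_self u))
  obtain ⟨g, hg, hsg⟩ := exists_sg hG hQu huw
  refine hw' (mem_span_of_norm hG.nondeg hn hK hy hys hu0 hsg (h g hg fun v hv => hsg.fix ?_ ?_))
  · rw [polar_comm]
    exact mem_pp.1 hu v hv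
  · rw [polar_comm]
    exact mem_pp.1 hw v (Submodule.mem_sup_left hv)

/-- the first alternative -/
theorem alt_one (hG : Good Q) {W R : Submodule F (Fin n → F)} (h : Og Q ⊓ St W ≤ St R) {z u : Fin n → F} (hz : z ∈ R)
    (hQu : Q u = 0) (hu : u ∈ pp Q W) (huz : polar Q u z ≠ 0) {w : Fin n → F} (hw : w ∈ pp Q W)
    (huw : polar Q u w = 0) : w ∈ R ⊔ F ∙ u := by
  obtain ⟨g, hg, hsg⟩ := exists_sg hG hQu huw
  have h1 : g ∈ St W := mem_St.2 fun v hv => by
    rw [hsg.fix (by rw [polar_comm]; exact mem_pp.1 hu v hv) (by rw [polar_comm]; exact mem_pp.1 hw v hv)]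
    exact hv
  have h2 := mem_St.1 (h ⟨hg, h1⟩) z hz
  have h3 : w = (polar Q u z)⁻¹ • ((g : Matrix (Fin n) (Fin n) F) *ᵥ z - z) +
      ((polar Q u z)⁻¹ * (polar Q w z + Q w * polar Q u z)) • u := by
    rw [hsg z]
    have : w = ((polar Q u z)⁻¹ * polar Q u z) • w := by rw [inv_mul_cancel₀ huz, one_smul]
    conv_lhs => rw [this]
    module
  rw [h3]
  exact Submodule.add_mem_sup (R.smul_mem _ (R.sub_mem h2 hz))
    (Submodule.smul_mem _ _ (Submodule.mem_span_singleton_self u))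

end Cfsg.Agent.SM.Om.G2
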