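import Cfsg.Agent.SM.Om.G2a

/-!
# SM, family fM: `boxG2s`, `boxG2n` (helper38)
-/

set_option autoImplicit false
set_option linter.unusedSectionVars false

namespace Cfsg.Agent.SM.Om.G2

open Module QuadraticMap Cfsg Cfsg.Geo Cfsg.Agent.LieClassical.OrthCore Cfsg.Agent.LieClassical.OrthTrans
  Cfsg.Agent.LieClassical.OrthFinite
open scoped MatrixGroups Matrix

variable {n : ℕ} {F : Type} [Field F] [Fintype F] {Q : QuadraticForm F (Fin n → F)}

/-! ### normal subgroups of a group which is simple modulo scalars -/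

theorem normal_cases {T N : Subgroup (GL (Fin n) F)} (hT : IsSimpleGroup (H915.LD.Soc T))
    (hN : ∀ t ∈ T, ∀ x ∈ T, x ∈ N → t * x * t⁻¹ ∈ N) :
    (∀ x ∈ T, x ∈ N → x ∈ scalars (Fin n) F) ∨ ∀ t ∈ T, ∃ x ∈ N, ∃ z ∈ scalars (Fin n) F, t = x * z := by
  have hn : (N.subgroupOf T).Normal := ⟨fun x hx t => hN t t.2 x x.2 hx⟩
  have hM : ((N.subgroupOf T).map (QuotientGroup.mk' ((scalars (Fin n) F).subgroupOf T))).Normal :=
    hn.map _ (QuotientGroup.mk'_surjective _)
  rcases hT.eq_bot_or_eq_top_of_normal _ hM with h | h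
  · left
    intro x hx hxN
    have h1 : QuotientGroup.mk' ((scalars (Fin n) F).subgroupOf T) ⟨x, hx⟩ ∈
        (N.subgroupOf T).map (QuotientGroup.mk' ((scalars (Fin n) F).subgroupOf T)) := ⟨⟨x, hx⟩, hxN, rfl⟩
    rw [h, Subgroup.mem_bot, QuotientGroup.mk'_apply, QuotientGroup.eq_one_iff] at h1
    exact h1
  · right
    intro t ht
    have h1 : QuotientGroup.mk' ((scalars (Fin n) F).subgroupOf T) ⟨t, ht⟩ ∈
        (N.subgroupOf T).map (QuotientGroup.mk' ((scalars (Fin n) F).subgroupOf T)) := by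
      rw [h]
      trivial
    obtain ⟨x, hx, e⟩ := h1
    rw [QuotientGroup.mk'_apply, QuotientGroup.mk'_apply, QuotientGroup.eq] at e
    exact ⟨x, hx, (x : GL (Fin n) F)⁻¹ * t, e, by group⟩

theorem scalar_comm {z : GL (Fin n) F} (hz : z ∈ scalars (Fin n) F) (g : GL (Fin n) F) : z * g = g * z := by
  obtain ⟨c, e⟩ := (mem_scalars_iff z).1 hz
  apply Units.ext
  rw [Units.val_mul, Units.val_mul, e, Matrix.smul_mul, Matrix.mul_smul, one_mul, mul_one]

theorem scalar_mv {z : GL (Fin n) F} (hz : z ∈ scalars (Fin n) F) :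
    ∃ c : F, ∀ v, (z : Matrix (Fin n) (Fin n) F) *ᵥ v = c • v := by
  obtain ⟨c, e⟩ := (mem_scalars_iff z).1 hz
  exact ⟨c, fun v => by rw [e, Matrix.smul_mulVec, Matrix.one_mulVec]⟩

/-- a scalar which fixes a nonzero vector -/
theorem scalar_fix {z : GL (Fin n) F} (hz : z ∈ scalars (Fin n) F) {u : Fin n → F} (hu : u ≠ 0)
    (h : (z : Matrix (Fin n) (Fin n) F) *ᵥ u = u) (v : Fin n → F) : (z : Matrix (Fin n) (Fin n) F) *ᵥ v = v := by
  obtain ⟨c, e⟩ := scalar_mv hz
  have h1 : (c - 1) • u = 0 := by rw [sub_smul, ← e, h, one_smul, sub_self]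
  have h2 : c = 1 := sub_eq_zero.1 ((smul_eq_zero.1 h1).resolve_right hu)
  rw [e, h2, one_smul]

theorem soc_comm {T : Subgroup (GL (Fin n) F)} (h : ∀ a ∈ T, ∀ b ∈ T, a * b = b * a) :
    IsMulCommutative (H915.LD.Soc T) := by
  refine ⟨⟨fun a b => ?_⟩⟩
  obtain ⟨a, rfl⟩ := QuotientGroup.mk_surjective a
  obtain ⟨b, rfl⟩ := QuotientGroup.mk_surjective b
  rw [← QuotientGroup.mk_mul, ← QuotientGroup.mk_mul]
  exact congrArg _ (Subtype.ext (h a a.2 b b.2))

/-! ### the Siegel group of a singular vector -/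

theorem IsSg.mul {u w w' : Fin n → F} {g g' : GL (Fin n) F} (hu : Q u = 0) (hw : polar Q u w = 0)
    (hw' : polar Q u w' = 0) (h : IsSg Q u w g) (h' : IsSg Q u w' g') : IsSg Q u (w + w') (g * g') := fun v => by
  rw [mul_mv, h, h', ← siegelLin_apply, ← siegelLin_apply, ← siegelLin_apply, siegelLin_comp hu hw hw']

theorem IsSg.unique {u w : Fin n → F} {g g' : GL (Fin n) F} (h : IsSg Q u w g) (h' : IsSg Q u w g') : g = g' :=
  gl_ext fun v => by rw [h, h']

theorem isSg_one (u : Fin n → F) : IsSg Q u 0 1 := fun v => by simp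

theorem IsSg.inv (hG : Good Q) {u w : Fin n → F} {g : GL (Fin n) F} (hu : Q u = 0) (hw : polar Q u w = 0)
    (h : IsSg Q u w g) : IsSg Q u (-w) g⁻¹ := by
  have hw' : polar Q u (-w) = 0 := by rw [polar_neg_right, hw, neg_zero]
  obtain ⟨g', -, h'⟩ := exists_sg hG hu hw'
  have h1 := h.mul hu hw hw' h'
  rw [add_neg_cancel] at h1
  rw [inv_eq_of_mul_eq_one_right (h1.unique (isSg_one u))]
  exact h'

/-- the Siegel group of `u` -/
def Ru (hG : Good Q) {u : Fin n → F} (hu : Q u = 0) : Subgroup (GL (Fin n) F) where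
  carrier := {g | ∃ w, polar Q u w = 0 ∧ IsSg Q u w g}
  mul_mem' := by
    rintro g g' ⟨w, hw, h⟩ ⟨w', hw', h'⟩
    exact ⟨w + w', by rw [polar_add_right, hw, hw', add_zero], h.mul hu hw hw' h'⟩
  one_mem' := ⟨0, by simp, isSg_one u⟩
  inv_mem' := by
    rintro g ⟨w, hw, h⟩
    exact ⟨-w, by rw [polar_neg_right, hw, neg_zero], h.inv hG hu hw⟩

theorem Ru_comm (hG : Good Q) {u : Fin n → F} (hu : Q u = 0) {g g' : GL (Fin n) F} (h : g ∈ Ru hG hu)
    (h' : g' ∈ Ru hG hu) : g * g' = g' * g := by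
  obtain ⟨w, hw, h⟩ := h
  obtain ⟨w', hw', h'⟩ := h'
  have h1 := h'.mul hu hw' hw h
  rw [add_comm] at h1
  exact (h.mul hu hw hw' h').unique h1

theorem Ru_fix (hG : Good Q) {u : Fin n → F} (hu : Q u = 0) {g : GL (Fin n) F} (h : g ∈ Ru hG hu) :
    (g : Matrix (Fin n) (Fin n) F) *ᵥ u = u := by
  obtain ⟨w, hw, h⟩ := h
  exact h.fix (polar_self_of_sing hu) (by rw [polar_comm]; exact hw)

theorem Ru_conj (hG : Good Q) {u : Fin n → F} (hu : Q u = 0) {g t : GL (Fin n) F} (h : g ∈ Ru hG hu) (ht : t ∈ Og Q)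
    (htu : t ∈ St (F ∙ u)) : t * g * t⁻¹ ∈ Ru hG hu := by
  obtain ⟨w, hw, h⟩ := h
  obtain ⟨c, hc⟩ := Submodule.mem_span_singleton.1 (mem_St.1 htu u (Submodule.mem_span_singleton_self u))
  refine ⟨c • (t : Matrix (Fin n) (Fin n) F) *ᵥ w, ?_, fun v => ?_⟩
  · have h1 := polar_Og hG ht u w
    rw [← hc, polar_smul_left, hw] at h1
    rw [polar_smul_right]
    exact h1
  · obtain ⟨x, rfl⟩ : ∃ x, v = (t : Matrix (Fin n) (Fin n) F) *ᵥ x := ⟨_, (mv_inv t v).symm⟩
    have h1 := polar_Og hG ht u x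
    rw [← hc, polar_smul_left, smul_eq_mul] at h1
    rw [mul_mv, mul_mv, inv_mv, h, polar_smul_left, polar_Og hG ht, QuadraticMap.map_smul, Q_Og hG ht,
      Matrix.mulVec_sub, Matrix.mulVec_sub, Matrix.mulVec_add, Matrix.mulVec_smul, Matrix.mulVec_smul,
      Matrix.mulVec_smul, ← hc, ← h1]
    simp only [smul_eq_mul]
    module

end G2

open G2 Module QuadraticMap Cfsg Cfsg.Geo Cfsg.Agent.LieClassical.OrthCore Cfsg.Agent.LieClassical.OrthTrans
  Cfsg.Agent.LieClassical.OrthFinite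
open scoped MatrixGroups Matrix

theorem boxG2s : BoxG2s := by
  intro F _ _ n m Q T B u h hu0 hu hT hN
  have hG := h.good
  obtain ⟨f, hf⟩ := exists_hyp hG.nondeg hu hu0
  obtain ⟨w, hw0, hw⟩ := exists_perp_ne (Q := Q) ![u, f] (by have := hG.dim; omega)
  have huw : polar Q u w = 0 := hw 0
  have hfw : polar Q f w = 0 := hw 1
  have hwu : ∀ c : F, w ≠ c • u := by
    intro c e
    rw [e, polar_smul_right, hf.pair', smul_eq_mul, mul_one] at hfw
    exact hw0 (by rw [e, hfw, zero_smul])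
  obtain ⟨g, hg, hsg⟩ := exists_sg hG hu huw
  have hgR : g ∈ Ru hG hu := ⟨w, huw, hsg⟩
  have hgS : g ∈ St (F ∙ u) := G2.mem_St.2 fun v hv => by
    obtain ⟨c, rfl⟩ := Submodule.mem_span_singleton.1 hv
    rw [Matrix.mulVec_smul, Ru_fix hG hu hgR]
    exact hv
  rcases normal_cases (N := Ru hG hu) h.simple (fun t ht x _ hx => Ru_conj hG hu hx (h.leX ht) (hT ht)) with h1 | h1
  · have h2 : ∀ t ∈ T, g * t = t * g := by
      intro t ht
      have h3 : g * t * g⁻¹ * t⁻¹ ∈ T := mul_mem (hN g ⟨hg, hgS⟩ t ht) (inv_mem ht)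
      have h4 : g * t * g⁻¹ * t⁻¹ ∈ Ru hG hu := by
        have := mul_mem hgR (Ru_conj hG hu (inv_mem hgR) (h.leX ht) (hT ht))
        rwa [← mul_assoc, ← mul_assoc] at this
      have h5 : g * t * g⁻¹ * t⁻¹ = 1 := G2.gl_ext fun v => by
        rw [scalar_fix (h1 _ h3 h4) hu0 (Ru_fix hG hu h4), Units.val_one, Matrix.one_mulVec]
      calc g * t = g * t * g⁻¹ * t⁻¹ * (t * g) := by group
        _ = t * g := by rw [h5, one_mul]
    obtain ⟨x, hx1, hx2⟩ := exists_sep hG.nondeg hwu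
    have h3 := scalar_fix (h.cen g hg h2) hu0 (Ru_fix hG hu hgR) x
    rw [hsg, hx1, hx2] at h3
    apply hu0
    simpa using h3
  · refine h.nab (soc_comm fun a ha b hb => ?_)
    obtain ⟨x, hx, z, hz, rfl⟩ := h1 a ha
    obtain ⟨x', hx', z', hz', rfl⟩ := h1 b hb
    calc x * z * (x' * z') = x * (z * (x' * z')) := by group
      _ = x * x' * (z' * z) := by rw [scalar_comm hz]; group
      _ = x' * (x * z') * z := by rw [Ru_comm hG hu hx hx']; group
      _ = x' * z' * (x * z) := by rw [← scalar_comm hz']; group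

namespace G2

variable {n : ℕ} {F : Type} [Field F] [Fintype F] {Q : QuadraticForm F (Fin n → F)}
  {s : ℕ} {K : Subalgebra F (Matrix (Fin n) (Fin n) F)}

/-! ### the span of `K W` -/

theorem le_kw' (K : Subalgebra F (Matrix (Fin n) (Fin n) F)) (W : Submodule F (Fin n → F)) : W ≤ kw K W :=
  fun w hw => Submodule.subset_span ⟨1, K.one_mem, w, hw, (Matrix.one_mulVec w).symm⟩

theorem mv_kw {W : Submodule F (Fin n → F)} {y : Matrix (Fin n) (Fin n) F} (hy : y ∈ K) {w : Fin n → F} (hw : w ∈ W) :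
    y *ᵥ w ∈ kw K W := Submodule.subset_span ⟨y, hy, w, hw, rfl⟩

theorem kw_le {W R : Submodule F (Fin n → F)} (hR : ∀ y ∈ K, ∀ v ∈ R, y *ᵥ v ∈ R) (h : W ≤ R) : kw K W ≤ R := by
  refine Submodule.span_le.2 ?_
  rintro _ ⟨y, hy, w, hw, rfl⟩
  exact hR y hy w (h hw)

theorem kw_inv (W : Submodule F (Fin n → F)) : ∀ y ∈ K, ∀ v ∈ kw K W, y *ᵥ v ∈ kw K W := by
  intro y hy v hv
  have h : kw K W ≤ (kw K W).comap (Matrix.toLin' y) := by
    refine Submodule.span_le.2 ?_
    rintro _ ⟨z, hz, w, hw, rfl⟩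
    show Matrix.toLin' y (z *ᵥ w) ∈ kw K W
    rw [Matrix.toLin'_apply, Matrix.mulVec_mulVec]
    exact mv_kw (K.mul_mem hy hz) hw
  have h1 := h hv
  rwa [Submodule.mem_comap, Matrix.toLin'_apply] at h1

/-- evaluation at a vector -/
def ev (v : Fin n → F) : Matrix (Fin n) (Fin n) F →ₗ[F] (Fin n → F) where
  toFun y := y *ᵥ v
  map_add' a b := Matrix.add_mulVec a b v
  map_smul' c a := Matrix.smul_mulVec c a v

/-- the subspace `K v` -/
def kv (K : Subalgebra F (Matrix (Fin n) (Fin n) F)) (v : Fin n → F) : Submodule F (Fin n → F) :=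
  (Subalgebra.toSubmodule K).map (ev v)

theorem mem_kv {v z : Fin n → F} : z ∈ kv K v ↔ ∃ y ∈ K, y *ᵥ v = z := Iff.rfl

theorem self_kv (v : Fin n → F) : v ∈ kv K v := ⟨1, K.one_mem, Matrix.one_mulVec v⟩

theorem kv_inv (v : Fin n → F) : ∀ y ∈ K, ∀ z ∈ kv K v, y *ᵥ z ∈ kv K v := by
  rintro y hy _ ⟨z, hz, rfl⟩
  exact ⟨y * z, K.mul_mem hy hz, (Matrix.mulVec_mulVec v y z).symm⟩

theorem finrank_kv (hK : IsFieldSubalgebra s K) (v : Fin n → F) : finrank F (kv K v) ≤ s := by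
  have h4 : finrank F (Subalgebra.toSubmodule K) = s := hK.finrank_eq
  rw [← h4]
  exact Submodule.finrank_map_le _ _

theorem dvd_dim (hn : 0 < n) (hK : IsFieldSubalgebra s K) {R : Submodule F (Fin n → F)}
    (hR : ∀ y ∈ K, ∀ v ∈ R, y *ᵥ v ∈ R) : s ∣ finrank F R :=
  haveI : Nonempty (Fin n) := ⟨⟨0, hn⟩⟩
  H906.Cov.dvd_finrank_of_invariant hK R hR

theorem le_half {m : ℕ} (h : Spc Q m) (hs : s.Prime) (hK : IsFieldSubalgebra s K) : s = 2 ∨ s ∣ m := by
  have h4 := h.four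
  have hd := h.dim
  have h1 := dvd_dim (R := ⊤) (by omega) hK (fun _ _ _ _ => trivial)
  rw [finrank_top, finrank_fintype_fun_eq_card, Fintype.card_fin, hd] at h1
  exact ((Nat.Prime.dvd_mul hs).1 h1).imp_left fun h2 => (Nat.prime_dvd_prime_iff_eq hs Nat.prime_two).1 h2

/-- a singular vector of `⟨a, b⟩^⊥` which is not orthogonal to `z` -/
theorem exists_sing_ne {a b x y z v : Fin n → F} (h : Hyp Q x y) (hax : polar Q a x = 0) (hay : polar Q a y = 0)
    (hbx : polar Q b x = 0) (hby : polar Q b y = 0) (hav : polar Q a v = 0) (hbv : polar Q b v = 0)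
    (hz : polar Q v z ≠ 0) : ∃ u, Q u = 0 ∧ polar Q a u = 0 ∧ polar Q b u = 0 ∧ polar Q u z ≠ 0 := by
  by_contra hc
  push Not at hc
  exact hz (sing_induction_perp (P := fun v => polar Q v z = 0) h hax hay hbx hby
    (fun c d _ _ _ _ h1 h2 => by rw [polar_add_left, h1, h2, add_zero]) hc v hav hbv)

end G2

theorem boxG2n : BoxG2n := by
  intro F _ _ n m s Q K v h hs hK hv halt
  have hG := h.good
  have h4 := h.four
  have hd := h.dim
  have hv0 : v ≠ 0 := fun e => hv (by rw [e, map_zero])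
  have hsm : s ≤ m := by
    rcases le_half h hs hK with h1 | h1
    · omega
    · exact Nat.le_of_dvd (by omega) h1
  have hR : finrank F (kw K (F ∙ v)) ≤ m :=
    ((Submodule.finrank_mono (kw_le (kv_inv v) ((Submodule.span_singleton_le_iff_mem _ _).2 (self_kv v)))).trans
      (finrank_kv hK v)).trans hsm
  rcases halt with h1 | h1
  · obtain ⟨y, hy, hys⟩ := exists_nonscalar hK hs.two_le
    obtain ⟨x0, hx1, hx2⟩ := exists_sep hG.nondeg (no_eigen hK hy hys hv0)
    obtain ⟨a, ha0, haQ, ha⟩ := exists_sing_perp (Q := Q) ![v] (by have := hG.dim; omega)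
    have hva : polar Q v a = 0 := ha 0
    obtain ⟨b, hb1, hb2⟩ := exists_sep (x := a) (z := v) hG.nondeg (by
      intro c e
      rw [e, QuadraticMap.map_smul, smul_eq_mul, mul_eq_zero, mul_self_eq_zero] at haQ
      exact ha0 (by rw [e, haQ.resolve_right hv, zero_smul]))
    have hab : Hyp Q a (b - Q b • a) := by
      refine ⟨haQ, ?_, ?_⟩
      · rw [sub_eq_add_neg, ← neg_smul, Q_add, QuadraticMap.map_smul, haQ, polar_smul_right, polar_comm Q b a, hb2]
        simp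
      · rw [polar_sub_right, polar_smul_right, polar_self_of_sing haQ, hb2]
        simp
    have hvb : polar Q v (b - Q b • a) = 0 := by
      rw [polar_sub_right, polar_smul_right, hva, hb1]
      simp
    obtain ⟨u, hu, hvu, -, huz⟩ := exists_sing_ne (z := y *ᵥ v) hab hva hvb hva hvb hx1 hx1
      (by rw [polar_comm, hx2]; exact one_ne_zero)
    have hpp : ∀ x, polar Q v x = 0 → x ∈ pp Q (F ∙ v) := fun x hx => mem_pp.2 fun w hw => by
      obtain ⟨c, rfl⟩ := Submodule.mem_span_singleton.1 hw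
      rw [polar_smul_left, hx, smul_zero]
    have hle : pp Q (Submodule.span F {v, u}) ≤ kw K (F ∙ v) ⊔ F ∙ u := fun w hw =>
      alt_one hG h1 (mv_kw hy (Submodule.mem_span_singleton_self v)) hu (hpp u hvu) huz
        (hpp w (mem_pp.1 hw v (Submodule.subset_span (by simp)))) (mem_pp.1 hw u (Submodule.subset_span (by simp)))
    have h5 := Submodule.finrank_mono hle
    have h6 := finrank_sup_sing (kw K (F ∙ v)) u
    have h7 := finrank_pair_le v u
    rw [finrank_pp hG.nondeg] at h5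
    omega
  · refine alt_two hG hK hs.two_le (kw K (F ∙ v)) (by omega) fun g hg hfix => h1 ⟨⟨hg, ?_⟩, ?_⟩
    · exact G2.mem_St.2 fun w hw => by rw [hfix w (le_kw' K _ hw)]; exact hw
    · exact G2.mem_St.2 fun w hw => by rw [hfix w hw]; exact hw

end Cfsg.Agent.SM.Om
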