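import Cfsg.Agent.SM.Om.Can

/-!
# SM (S3570), socle `PΩ⁻_{2m}(q)`: the bound from the boxes (helper87)
-/

set_option autoImplicit false
set_option linter.unusedSectionVars false

namespace Cfsg.Agent.SM.Om

open Module QuadraticMap Cfsg Cfsg.Geo Cfsg.Agent.LieClassical.OrthCore Cfsg.Agent.LieClassical.OrthTrans
  Cfsg.Agent.H955 Cfsg.Agent.H884.El Cfsg.Agent.ClassicalGeometry.OrthSemi
open Cfsg.Agent.H449.Reg (act Ind eP act_mul act_one act_inv_act ind_of_surjective)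
open scoped MatrixGroups Matrix

/-- the geometric boxes -/
structure GBx : Prop where
  idx : BoxIdx
  g1p : BoxG1p
  g1h : BoxG1h
  g2s : BoxG2s
  g2n : BoxG2n
  g2h : BoxG2h

section abs

variable {n : ℕ} {F : Type} [Field F] [Fintype F] {Q : QuadraticForm F (Fin n → F)} {m : ℕ}
  {G : Type} [Group G] {S : Subgroup G} [S.Normal] {eT : S ≃* POmega F (⇑Q)} {hG : Good Q}
  {H T B : Subgroup G} {W : Submodule F (Fin n → F)} {K : Subalgebra F (Matrix (Fin n) (Fin n) F)} {r s : ℕ}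

theorem conj_self (B : Subgroup G) : ∀ g ∈ B, ∀ z ∈ B, g * z * g⁻¹ ∈ B := fun _ hg _ hz =>
  B.mul_mem (B.mul_mem hg hz) (B.inv_mem hg)

theorem small_ne (h : Spc Q m)
    (hW : (∃ v, v ≠ 0 ∧ W = F ∙ v) ∨ (3 ≤ Fintype.card F ∧ ∃ e f, Hyp Q e f ∧ W = Submodule.span F {e, f})) :
    W ≠ ⊥ ∧ W ≠ ⊤ := by
  have h8 := h.eight
  have key : finrank F W ≤ 2 → W ≠ ⊤ := fun h1 h2 => by
    rw [h2, finrank_top, finrank_V'] at h1
    omega
  rcases hW with ⟨v, hv, rfl⟩ | ⟨-, e, f, he, rfl⟩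
  · exact ⟨fun k => hv (Submodule.span_singleton_eq_bot.1 k), key (by rw [finrank_span_singleton hv]; omega)⟩
  · refine ⟨fun k => he.left_ne (Submodule.span_eq_bot.1 k e (Set.mem_insert _ _)), key ?_⟩
    have h1 := Submodule.finrank_add_le_finrank_add_finrank (F ∙ e) (F ∙ f)
    rw [finrank_span_singleton (he.left_ne), finrank_span_singleton (he.right_ne)] at h1
    rwa [Submodule.span_insert]

/-- `T` normalises a field -/
theorem caseI (b : GBx) (h : Spc Q m) (hI : Ind (eP hG eT)) (f : Fac ⊤ S H T B) (hF : Fld (pre eT T)) (hS : Sm Q (pre eT B)) :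
    False := by
  have L := ln_pre h eT f
  obtain ⟨r, s, K, x, d⟩ := hF.fd h pre_le
  have hc := d.le_cenK L
  obtain ⟨W, w1, w2, ⟨v, hv, rfl⟩ | ⟨hq, e, e', he, rfl⟩⟩ := canon hI (conj_self B) hS
  · refine b.g1p F n m s Q _ _ K v L.toPr d.prime d.field (fun t ht => hc ht) (hF.not_red h pre_le) hv w2 ?_
    have hk : H ⊓ B ≤ stG hI (kw K (F ∙ v)) := fun g hg => mem_stG_kw (d.cjK_eq h hI f.asH.conj hg.1) (w1 hg.2)
    rcases f.prim (Y := T ⊓ stG hI (kw K (F ∙ v))) (fun t ht => ⟨ht.1, hk ⟨f.asH.le ht.1, ht.2⟩⟩) inf_le_left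
      (fun g hg y hy => ⟨f.asH.conj g hg.1 y hy.1, conj_self _ g (hk hg) y hy.2⟩) with e | e
    · refine Or.inr fun g hg => ?_
      have h1 : pj eT ⟨g, pre_le hg.1⟩ ∈ T ⊓ B := by
        rw [← e]
        exact ⟨mem_pre' hg.1, pj_mem_stG.2 hg.2⟩
      exact w2 (mem_pre.2 h1.2)
    · exact Or.inl (pre_le_St (e.ge.trans inf_le_right))
  · exact b.g1h F n m s Q _ _ K e e' L.toPr d.prime d.field (fun t ht => hc ht) hq he w2

/-- primitivity of the stabiliser of `W` on the conjugates of the field -/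
theorem kw_or {x : GL (Fin n) F} (h : Spc Q m) (hI : Ind (eP hG eT)) (f : Fac ⊤ S H T B) (d : Fd (pre eT B) r s K x)
    (hH : H = stG hI W) : Og Q ⊓ St W ≤ St (kw K W) ∨ Og Q ⊓ St W ⊓ St (kw K W) ≤ subalgebraNormalizer K := by
  have hk : H ⊓ B ≤ H ⊓ stG hI (kw K W) := fun g hg => ⟨hg.1, mem_stG_kw (d.cjK_eq h hI (conj_self B) hg.2) (hH.le hg.1)⟩
  rcases f.pr.eq_or_eq hk inf_le_left with e | e
  · refine Or.inr fun g hg => ?_
    have h1 : pj eT ⟨g, hg.1.1⟩ ∈ H ⊓ B := by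
      rw [← e]
      exact ⟨hH.ge (pj_mem_stG.2 hg.1.2), pj_mem_stG.2 hg.2⟩
    exact d.le (mem_pre.2 h1.2)
  · exact Or.inl fun g hg => (pj_mem_stG (x := ⟨g, hg.1⟩)).1 (e.ge (hH.ge (pj_mem_stG.2 hg.2))).2

/-- `T` fixes a small subspace -/
theorem caseII (b : GBx) (h : Spc Q m) (hI : Ind (eP hG eT)) (f : Fac ⊤ S H T B) (hS : Sm Q (pre eT T))
    (hF : Fld (pre eT B) ∨ (Fintype.card F = 2 ∧ NoNs Q (pre eT T))) : False := by
  have L := ln_pre h eT f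
  obtain ⟨W, w1, w2, hW⟩ := canon hI f.asH.conj hS
  have hH : H = stG hI W := eq_stG h f.hm w1 (small_ne h hW).1 (small_ne h hW).2
  rcases hW with ⟨v, hv, rfl⟩ | ⟨hq, e, e', he, rfl⟩
  · by_cases h0 : Q v = 0
    · refine b.g2s F n m Q _ _ v L hv h0 w2 fun g hg t ht => ?_
      refine (mem_pre (eT := eT) (x := ⟨g, hg.1⟩ * ⟨t, pre_le ht⟩ * ⟨g, hg.1⟩⁻¹)).2 ?_
      rw [map_mul, map_mul, map_inv]
      exact f.asH.conj _ (hH.ge (pj_mem_stG.2 hg.2)) _ (mem_pre' ht)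
    · rcases hF with hF | ⟨-, hF⟩
      · obtain ⟨r, s, K, x, d⟩ := hF.fd h pre_le
        exact b.g2n F n m s Q K v h d.prime d.field h0 (kw_or h hI f d hH)
      · exact hF v h0 w2
  · rcases hF with hF | ⟨h2, -⟩
    · obtain ⟨r, s, K, x, d⟩ := hF.fd h pre_le
      exact b.g2h F n m s Q _ _ K e e' L d.prime d.field d.le hq he w2 (kw_or h hI f d hH)
    · omega

theorem pt_inj (hq : Fintype.card F = 2) {x y : Fin n → F} (h : F ∙ x = F ∙ y) : x = y := by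
  obtain ⟨z, hz⟩ := Submodule.span_singleton_eq_span_singleton.1 h
  rw [← hz, Units.smul_def, two_field hq z.ne_zero, one_smul]

/-- the row -/
def Row (T B : Subgroup G) {Ω : Type} [MulAction G Ω] (a : Ω) : Prop :=
  B.relIndex T = 495 ∧ (∃ P : Subgroup G, T ≤ P ∧ P ≠ ⊤ ∧ Nonempty (P ≃* alternatingGroup (Fin 12))) ∧
    ∃ Δ : Set Ω, Δ.ncard = 256 ∧ ∀ g : G, g • a = a → ∀ c ∈ Δ, g • c ∈ Δ

theorem not_og_alt (h : Spc Q 5) (hq : Fintype.card F = 2) (e : Og Q ≃* alternatingGroup (Fin 12)) : False := by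
  obtain ⟨z, hz, h1⟩ := h.ord
  rw [hq] at hz h1
  rw [Nat.card_congr e.toEquiv, nat_card_alternatingGroup, Nat.card_eq_fintype_card, Fintype.card_fin] at h1
  rcases hz with rfl | ⟨-, hz⟩
  · exact absurd h1 (by decide +kernel)
  · exact absurd hz (by decide)

/-- `T` lies in `A₁₂` -/
theorem caseIII [Finite G] (b : GBx) (h : Spc Q 5) (hI : Ind (eP hG eT)) (f : Fac ⊤ S H T B) (hq : Fintype.card F = 2)
    (hS : Sm Q (pre eT B)) (hN : NoNs Q (pre eT B)) {P : Subgroup (GL (Fin n) F)} (p1 : pre eT T ≤ P) (p2 : P ≤ Og Q)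
    (p3 : P ≃* alternatingGroup (Fin 12)) {Ω : Type} [MulAction G Ω] (a : Ω) (hB : B = MulAction.stabilizer G a) :
    Row T B a := by
  obtain ⟨W, w1, w2, hW⟩ := canon hI (conj_self B) hS
  have hH : B = stG hI W := eq_stG h f.bm w1 (small_ne h hW).1 (small_ne h hW).2
  obtain ⟨u, hu, rfl⟩ := hW.resolve_right fun k => by omega
  have h0 : Q u = 0 := by_contra fun k => hN u k w2
  obtain ⟨i1, i2⟩ := (b.idx F n 5 Q u h hu).1 h0
  rw [hq] at i1 i2
  have inj : Function.Injective (pj eT) :=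
    (injective_iff_map_eq_one _).2 fun x hx => Subtype.ext (scalar_two hq ((pj_eq_one h x).1 hx))
  refine ⟨?_, ⟨(P.subgroupOf (Og Q)).map (pj eT), fun t ht => ?_, fun k => ?_,
    ⟨(Subgroup.equivMapOfInjective _ _ inj).symm.trans ((Subgroup.subgroupOfEquivOfLe p2).trans p3)⟩⟩, ?_⟩
  · have h1 : B.comap (pj eT) = (St (F ∙ u)).subgroupOf (Og Q) := by
      ext x
      rw [Subgroup.mem_comap, Subgroup.mem_subgroupOf, ← pj_mem_stG (hI := hI), ← hH]
    have h2 := B.index_comap (pj eT)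
    rw [pj_range eT, h1] at h2
    unfold Subgroup.relIndex at i1
    rw [f.relIndex_eq, ← h2]
    omega
  · obtain ⟨x, rfl⟩ := pj_surj eT (f.le ht)
    exact ⟨x, p1 (mem_pre.2 ht), rfl⟩
  · refine not_og_alt h hq ((MulEquiv.subgroupCongr (le_antisymm (fun g hg => ?_) p2)).trans p3)
    obtain ⟨y, hy, e⟩ : pj eT ⟨g, hg⟩ ∈ (P.subgroupOf (Og Q)).map (pj eT) := by
      rw [k]
      exact Subgroup.mem_top _
    rwa [inj e] at hy
  · have tot : ∀ y, Hyp Q u y → ∃ g : G, act hI g (F ∙ u) = F ∙ y := fun y hy => by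
      obtain ⟨g, hg, e⟩ := h.trans_norm hu (hy.right_ne) (h0.trans hy.right.symm)
      refine ⟨pj eT ⟨g, hg⟩, (Submodule.eq_of_le_of_finrank_eq ?_ ?_).symm⟩
      · rw [Submodule.span_singleton_le_iff_mem, mem_act_pj]
        exact ⟨u, Submodule.mem_span_singleton_self u, e⟩
      · rw [H449.Reg.finrank_act, finrank_span_singleton hu, finrank_span_singleton (hy.right_ne)]
    choose! γ hγ using tot
    have key : ∀ g g' : G, g • a = g' • a ↔ act hI g (F ∙ u) = act hI g' (F ∙ u) := fun g g' => by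
      rw [← inv_smul_eq_iff, ← mul_smul, ← MulAction.mem_stabilizer_iff, ← hB, hH, mem_stG, act_mul hG]
      refine ⟨fun k => ?_, fun k => by rw [k, act_inv_act hG]⟩
      rw [← H449.Reg.act_act_inv hG hI g' (act hI g (F ∙ u)), k]
    refine ⟨(fun y => γ y • a) '' {y | Hyp Q u y}, ?_, ?_⟩
    · rw [Set.InjOn.ncard_image fun y hy z hz e => pt_inj hq (by rw [← hγ y hy, ← hγ z hz]; exact (key _ _).1 e), i2, h.dim]
      rfl
    · rintro g hg _ ⟨y, hy, rfl⟩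
      obtain ⟨σ, c, hA⟩ := (sm hI g).2
      have h1 : (sm hI g).1 u = u := pt_inj hq (by rw [← act_pt, ← mem_stG, ← hH, hB]; exact hg)
      have hz : Hyp Q u ((sm hI g).1 y) := ⟨h0, by rw [hA.form, hy.right, map_zero, mul_zero], by
        have h2 := hA.polar u y
        rwa [h1, hy.pair, map_one, mul_one, two_field hq hA.ne] at h2⟩
      refine ⟨_, hz, ?_⟩
      change γ _ • a = g • γ y • a
      rw [← mul_smul, key, hγ _ hz, act_mul hG, hγ y hy, act_pt]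

theorem row_of [Finite G] (l : LBx) (b : GBx) (h : Spc Q m) (eT : S ≃* POmega F (⇑Q)) (f : Fac ⊤ S H T B) {Ω : Type}
    [MulAction G Ω] (a : Ω) (hB : B = MulAction.stabilizer G a) : Row T B a := by
  have hI := ind_of_surjective (eP h.good eT) h.surj
  rcases (ln_pre h eT f).out l with ⟨h1, h2⟩ | ⟨h1, h2⟩ | ⟨h1, h2, h3, h4, P, p1, p2, ⟨p3⟩⟩
  · exact (caseI b h hI f h1 h2).elim
  · exact (caseII b h hI f h1 h2).elim
  · obtain rfl : m = 5 := by have := h.dim; omega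
    exact caseIII b h hI f h2 h3 h4 p1 p2 p3 a hB

end abs

theorem up_row (l : LBx) (b : GBx) {Ω : Type} [Fintype Ω] [DecidableEq Ω] {X H T M S : Subgroup (Equiv.Perm Ω)}
    (u : Up X H T M S) (hS : fM S) (a : Ω) : Fintype.card Ω = 495 ∧
      (∃ P, T ≤ P ∧ P < M ∧ Nonempty (P ≃* alternatingGroup (Fin 12))) ∧
      ∃ Δ : Set Ω, Δ.ncard = 256 ∧ ∀ g ∈ M, g a = a → ∀ c ∈ Δ, g c ∈ Δ := by
  obtain ⟨F, _, _, m, Q, h, ⟨e⟩⟩ := exists_spc hS
  have f := (u.fac a).top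
  rw [Subgroup.subgroupOf_self] at f
  have : (S.subgroupOf M).Normal := u.socM.toNor.normal
  have hT : T ≤ M := u.le.trans u.socM.le
  obtain ⟨h1, ⟨P, p1, p2, ⟨p3⟩⟩, Δ, d1, d2⟩ := row_of l b h ((Subgroup.subgroupOfEquivOfLe u.socM.le).trans e) f a
    (Subgroup.ext fun g => ⟨fun k => k.2, fun k => ⟨g.2, k⟩⟩)
  rw [Subgroup.relIndex_subgroupOf hT, u.relIndex] at h1
  refine ⟨h1, ⟨P.map M.subtype, fun t ht => ⟨⟨t, hT ht⟩, p1 ht, rfl⟩, lt_of_le_of_ne (Subgroup.map_subtype_le _) fun k => p2 ?_,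
    ⟨(Subgroup.equivMapOfInjective _ _ M.subtype_injective).symm.trans p3⟩⟩, Δ, d1, fun g hg => d2 ⟨g, hg⟩⟩
  refine eq_top_iff.2 fun g _ => ?_
  obtain ⟨y, hy, e⟩ := k.ge g.2
  rwa [← M.subtype_injective e]

theorem bnd_of (l : LBx) (b : GBx) (c : Box495) : Bnd fM tabM := by
  rintro Ω _ _ X H T ⟨M₀, S₀, u₀, h₀⟩
  obtain ⟨a⟩ : Nonempty Ω := Fintype.card_pos_iff.1 (by have := u₀.two; omega)
  have h495 := (up_row l b u₀ h₀ a).1
  obtain ⟨h1, h2⟩ := c Ω X H T a (OvP fM X H T) u₀.sec u₀.prim u₀.socH h495 ⟨M₀, S₀, u₀, h₀⟩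
    fun M ⟨_, u, hS⟩ => ⟨u.ov, (up_row l b u hS a).2⟩
  exact ⟨2, ⟨h495, h1, rfl⟩, h2⟩

end Cfsg.Agent.SM.Om
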