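import Cfsg.Agent.SM.Om.Defs
import Cfsg.Agent.H964.Rg.Fld
import Cfsg.Agent.H449.Reg.Abs
import Cfsg.Agent.H100.Ppd.StructB

/-!
# SM (S3570), socle `PΩ⁻_{2m}(q)`: common tools (helper87)
-/

set_option autoImplicit false
set_option linter.unusedSectionVars false

namespace Cfsg.Agent.SM.Om

open Module QuadraticMap Cfsg Cfsg.Geo Cfsg.Agent.LieClassical.OrthCore Cfsg.Agent.LieClassical.OrthTrans
  Cfsg.Agent.H955 Cfsg.Agent.H884.El Cfsg.Agent.H954.TSing
open Cfsg.Agent.H951 (fx cm Inv)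
open Cfsg.Agent.H278.Cov (Red Ext)
open Cfsg.Agent.H100.Ppd (Nat')
open Cfsg.Agent.LieClassical.OrthFinite (glEquiv glEquiv_apply)
open scoped MatrixGroups Matrix

variable {n : ℕ} {F : Type} [Field F] [Fintype F] {Q : QuadraticForm F (Fin n → F)} {m : ℕ}
  {X Y : Subgroup (GL (Fin n) F)} {W : Submodule F (Fin n → F)} {g : GL (Fin n) F}

/-! ### dictionary -/

theorem og_le : Og Q ≤ isometryGroup F (⇑Q) := Subgroup.map_subtype_le _

theorem mem_St : g ∈ St W ↔ ∀ w ∈ W, (g : Matrix (Fin n) (Fin n) F) *ᵥ w ∈ W := H884.OmegaGL.mem_subspaceStabilizer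

theorem Q_mv (hg : g ∈ Og Q) (v : Fin n → F) : Q ((g : Matrix (Fin n) (Fin n) F) *ᵥ v) = Q v := lin_iso og_le hg v

theorem polar_mv (hg : g ∈ Og Q) (u v : Fin n → F) :
    polar Q ((g : Matrix (Fin n) (Fin n) F) *ᵥ u) ((g : Matrix (Fin n) (Fin n) F) *ᵥ v) = polar Q u v := by
  unfold polar
  rw [← Matrix.mulVec_add, Q_mv hg, Q_mv hg, Q_mv hg]

theorem mul_mv (g h : GL (Fin n) F) (v : Fin n → F) : ((g * h : GL (Fin n) F) : Matrix (Fin n) (Fin n) F) *ᵥ v =
    (g : Matrix (Fin n) (Fin n) F) *ᵥ ((h : Matrix (Fin n) (Fin n) F) *ᵥ v) := by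
  rw [Units.val_mul, Matrix.mulVec_mulVec]

theorem inv_mv (g : GL (Fin n) F) (v : Fin n → F) :
    ((g⁻¹ : GL (Fin n) F) : Matrix (Fin n) (Fin n) F) *ᵥ ((g : Matrix (Fin n) (Fin n) F) *ᵥ v) = v := by
  rw [← mul_mv, inv_mul_cancel, Units.val_one, Matrix.one_mulVec]

theorem mv_inv (g : GL (Fin n) F) (v : Fin n → F) :
    (g : Matrix (Fin n) (Fin n) F) *ᵥ (((g⁻¹ : GL (Fin n) F) : Matrix (Fin n) (Fin n) F) *ᵥ v) = v := by
  rw [← mul_mv, mul_inv_cancel, Units.val_one, Matrix.one_mulVec]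

theorem mv_ne (g : GL (Fin n) F) {v : Fin n → F} (hv : v ≠ 0) : (g : Matrix (Fin n) (Fin n) F) *ᵥ v ≠ 0 := fun h =>
  hv (by rw [← inv_mv g v, h, Matrix.mulVec_zero])

theorem mem_St_pt {v : Fin n → F} : g ∈ St (F ∙ v) ↔ ∃ c : F, (g : Matrix (Fin n) (Fin n) F) *ᵥ v = c • v := by
  rw [mem_St]
  constructor
  · intro h
    obtain ⟨c, hc⟩ := Submodule.mem_span_singleton.1 (h v (Submodule.mem_span_singleton_self v))
    exact ⟨c, hc.symm⟩
  · rintro ⟨c, hc⟩ w hw
    obtain ⟨d, rfl⟩ := Submodule.mem_span_singleton.1 hw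
    rw [Matrix.mulVec_smul, hc]
    exact Submodule.smul_mem _ _ (Submodule.smul_mem _ _ (Submodule.mem_span_singleton_self v))

theorem finrank_V' : finrank F (Fin n → F) = n := by rw [Module.finrank_fintype_fun_eq_card, Fintype.card_fin]

namespace Spc

variable (h : Spc Q m)
include h

theorem nd : Nondeg Q := h.good.nondeg

theorem nd' : IsNondegenerateQuadraticForm (⇑Q) := H925.isND_of_nondeg h.nd

theorem minus' : ¬ IsPlusTypeOn (⇑Q) ⊤ := by
  rintro ⟨U, -, h1, h2⟩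
  exact h.minus ⟨U, h1, by rw [h2, finrank_top]⟩

theorem eight : 8 ≤ n := by have := h.dim; have := h.four; omega

theorem finrank_V : finrank F (Fin n → F) = 2 * m := by rw [finrank_V', h.dim]

theorem mem_og : g ∈ Og Q ↔ glEquiv (Fin n) F g ∈ E Q := by
  have h1 := H884.OmegaGL.mem_omegaGL (⇑Q) h.nd' (by rw [Fintype.card_fin]; have := h.eight; omega) g
  have h2 : H884.OmegaGL.bundle (⇑Q) h.nd' = Q := QuadraticMap.ext fun _ => rfl
  rwa [h2] at h1

/-- elements of `E Q` as matrices -/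
theorem exists_og {e : (Fin n → F) ≃ₗ[F] (Fin n → F)} (he : e ∈ E Q) :
    ∃ g ∈ Og Q, ∀ v, (g : Matrix (Fin n) (Fin n) F) *ᵥ v = e v :=
  ⟨(glEquiv (Fin n) F).symm e, h.mem_og.2 (by rwa [MulEquiv.apply_symm_apply]), fun v => by
    rw [← glEquiv_apply, MulEquiv.apply_symm_apply]⟩

theorem trans_norm {v v' : Fin n → F} (hv : v ≠ 0) (hv' : v' ≠ 0) (hq : Q v = Q v') :
    ∃ g ∈ Og Q, (g : Matrix (Fin n) (Fin n) F) *ᵥ v = v' := by
  obtain ⟨e, he, h1⟩ := h.good.trans_norm hv hv' hq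
  obtain ⟨g, hg, h2⟩ := h.exists_og he
  exact ⟨g, hg, by rw [h2, h1]⟩

theorem trans_hyp {e f e' f' : Fin n → F} (h1 : Hyp Q e f) (h2 : Hyp Q e' f') :
    ∃ g ∈ Og Q, (g : Matrix (Fin n) (Fin n) F) *ᵥ e = e' ∧ (g : Matrix (Fin n) (Fin n) F) *ᵥ f = f' := by
  obtain ⟨a, ha, h3, h4⟩ := h.good.trans_hyp h1 h2
  obtain ⟨g, hg, h5⟩ := h.exists_og ha
  exact ⟨g, hg, by rw [h5, h3], by rw [h5, h4]⟩

/-- `Ω` is irreducible -/
theorem irr (h0 : W ≠ ⊥) (h1 : W ≠ ⊤) : ¬ Og Q ≤ St W := by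
  intro hle
  obtain ⟨s, hsW, hs⟩ := Submodule.exists_mem_ne_zero_of_ne_bot h0
  have h2 : perp Q W ≠ ⊥ := fun h3 => h1 (by rw [← perp_perp h.nd W, h3, perp_bot])
  obtain ⟨v, hvW, hv⟩ := Submodule.exists_mem_ne_zero_of_ne_bot h2
  obtain ⟨e, he, h3⟩ := H449.Reg.exists_not_perp h.good hv hs
  obtain ⟨g, hg, h4⟩ := h.exists_og he
  exact h3 (hvW _ (by rw [← h4]; exact mem_St.1 (hle hg) s hsW))

end Spc

/-- a Siegel element as a matrix -/
noncomputable def sg (Q : QuadraticForm F (Fin n → F)) (u w : Fin n → F) (hu : Q u = 0) (hw : polar Q u w = 0) :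
    GL (Fin n) F := (glEquiv (Fin n) F).symm (siegel Q u w hu hw)

theorem sg_apply {u w : Fin n → F} (hu : Q u = 0) (hw : polar Q u w = 0) (v : Fin n → F) :
    (sg Q u w hu hw : Matrix (Fin n) (Fin n) F) *ᵥ v = v + polar Q u v • w - polar Q w v • u - (Q w * polar Q u v) • u := by
  rw [← glEquiv_apply, sg, MulEquiv.apply_symm_apply, siegel_apply]

theorem Spc.sg_mem (h : Spc Q m) {u w : Fin n → F} (hu : Q u = 0) (hw : polar Q u w = 0) : sg Q u w hu hw ∈ Og Q :=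
  h.mem_og.2 (by rw [sg, MulEquiv.apply_symm_apply]; exact siegel_mem_E hu hw)

theorem sg_mul {u w w' : Fin n → F} (hu : Q u = 0) (hw : polar Q u w = 0) (hw' : polar Q u w' = 0)
    (h : polar Q u (w + w') = 0) : sg Q u w hu hw * sg Q u w' hu hw' = sg Q u (w + w') hu h := by
  rw [sg, sg, sg, ← map_mul, siegel_mul]

theorem gl_ext {g h : GL (Fin n) F}
    (e : ∀ v, (g : Matrix (Fin n) (Fin n) F) *ᵥ v = (h : Matrix (Fin n) (Fin n) F) *ᵥ v) : g = h :=
  lin_injective (LinearMap.ext e)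

theorem sg_conj (hg : g ∈ Og Q) {u w : Fin n → F} (hu : Q u = 0) (hw : polar Q u w = 0)
    (hu' : Q ((g : Matrix (Fin n) (Fin n) F) *ᵥ u) = 0)
    (hw' : polar Q ((g : Matrix (Fin n) (Fin n) F) *ᵥ u) ((g : Matrix (Fin n) (Fin n) F) *ᵥ w) = 0) :
    g * sg Q u w hu hw * g⁻¹ = sg Q _ _ hu' hw' := by
  refine gl_ext fun v => ?_
  obtain ⟨y, rfl⟩ : ∃ y, v = (g : Matrix (Fin n) (Fin n) F) *ᵥ y := ⟨_, (mv_inv g v).symm⟩
  rw [mul_mv, mul_mv, inv_mv, sg_apply, sg_apply, polar_mv hg, polar_mv hg, Q_mv hg, Matrix.mulVec_sub, Matrix.mulVec_sub,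
    Matrix.mulVec_add, Matrix.mulVec_smul, Matrix.mulVec_smul, Matrix.mulVec_smul]

/-! ### factorisations -/

theorem relIndex_of_fac {G : Type*} [Group G] {A X Y S : Subgroup G} (hX : X ≤ A)
    (hf : ∀ g ∈ A, ∃ x ∈ X, ∃ y ∈ Y, g = x * y) (hY : Y ≤ S) : S.relIndex X = S.relIndex A := by
  unfold Subgroup.relIndex Subgroup.index
  refine Nat.card_congr (Equiv.ofBijective (Quotient.map' (fun x : X => (⟨x.1, hX x.2⟩ : A)) ?_) ⟨?_, ?_⟩)
  · intro a b hab
    rw [QuotientGroup.leftRel_apply] at hab ⊢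
    exact hab
  · intro a b
    induction a using Quotient.inductionOn' with | h a => ?_
    induction b using Quotient.inductionOn' with | h b => ?_
    intro hab
    have h1 := Quotient.exact' hab
    apply Quotient.sound'
    rw [QuotientGroup.leftRel_apply] at h1 ⊢
    exact h1
  · intro a
    induction a using Quotient.inductionOn' with | h a => ?_
    obtain ⟨x, hx, y, hy, e⟩ := hf a a.2
    refine ⟨Quotient.mk'' ⟨x, hx⟩, Quotient.sound' ?_⟩
    rw [QuotientGroup.leftRel_apply]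
    change x⁻¹ * (a : G) ∈ S
    rw [e, inv_mul_cancel_left]
    exact hY hy

/-- the order formula -/
theorem card_of_fac {G : Type*} [Group G] {A X Y : Subgroup G} (hX : X ≤ A) (hY : Y ≤ A)
    (hf : ∀ g ∈ A, ∃ x ∈ X, ∃ y ∈ Y, g = x * y) : Nat.card A * Nat.card ↥(X ⊓ Y) = Nat.card X * Nat.card Y := by
  have h1 := relIndex_of_fac hX hf (le_refl Y)
  have h2 : Nat.card ↥(Y.subgroupOf A) * Y.relIndex A = Nat.card A := Subgroup.card_mul_index _
  have h3 : Nat.card ↥(Y.subgroupOf X) * Y.relIndex X = Nat.card X := Subgroup.card_mul_index _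
  have h4 : Nat.card ↥(Y.subgroupOf A) = Nat.card Y := Nat.card_congr (Subgroup.subgroupOfEquivOfLe hY).toEquiv
  have h5 : Nat.card ↥(Y.subgroupOf X) = Nat.card ↥(X ⊓ Y) := by
    rw [← Subgroup.inf_subgroupOf_left]
    exact Nat.card_congr (Subgroup.subgroupOfEquivOfLe inf_le_left).toEquiv
  rw [← h2, ← h3, h4, h5, h1]
  ring

namespace Pr

variable (h : Pr Q m X Y)
include h

theorem isoX : X ≤ isometryGroup F (⇑Q) := h.leX.trans og_le

theorem isoY : Y ≤ isometryGroup F (⇑Q) := h.leY.trans og_le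

theorem relIndex {S : Subgroup (GL (Fin n) F)} (hY : Y ≤ S) : S.relIndex X = S.relIndex (Og Q) :=
  relIndex_of_fac h.leX h.fac hY

theorem relIndex_dvd {S : Subgroup (GL (Fin n) F)} (hY : Y ≤ S) : S.relIndex (Og Q) ∣ Nat.card X := by
  rw [← h.relIndex hY]
  exact Subgroup.index_dvd_card _

theorem card : Nat.card (Og Q) * Nat.card ↥(X ⊓ Y) = Nat.card X * Nat.card Y := card_of_fac h.leX h.leY h.fac

theorem card_dvd : Nat.card (Og Q) ∣ Nat.card X * Nat.card Y := ⟨_, h.card.symm⟩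

theorem dvd {r : ℕ} (hr : r.Prime) (hd : r ∣ Nat.card (Og Q)) : r ∣ Nat.card X ∨ r ∣ Nat.card Y :=
  hr.dvd_mul.1 (hd.trans h.card_dvd)

/-- `X` is transitive on the images of `W` -/
theorem move (hY : Y ≤ St W) (hg : g ∈ Og Q) : ∃ x ∈ X, x⁻¹ * g ∈ St W := by
  obtain ⟨x, hx, y, hy, e⟩ := h.fac g hg
  exact ⟨x, hx, by rw [e, inv_mul_cancel_left]; exact hY hy⟩

/-- points -/
theorem move_pt {v v' : Fin n → F} (hY : Y ≤ St (F ∙ v)) (hv : v ≠ 0) (hv' : v' ≠ 0) (hq : Q v = Q v') :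
    ∃ x ∈ X, ∃ c : F, c ≠ 0 ∧ v' = c • (x : Matrix (Fin n) (Fin n) F) *ᵥ v := by
  obtain ⟨g, hg, h1⟩ := h.toSpc.trans_norm hv hv' hq
  obtain ⟨x, hx, h2⟩ := h.move hY hg
  obtain ⟨c, hc⟩ := mem_St_pt.1 h2
  have h3 : v' = c • (x : Matrix (Fin n) (Fin n) F) *ᵥ v := by
    rw [← Matrix.mulVec_smul, ← hc, mul_mv, mv_inv, h1]
  exact ⟨x, hx, c, fun h0 => hv' (by rw [h3, h0, zero_smul]), h3⟩

end Pr

/-! ### primitive primes -/

variable {r : ℕ}

/-- an element of order `r_n` acts irreducibly -/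
theorem not_red (h : Spc Q m) (hX : X ≤ Og Q) (hr : PP (Nat.card F) n r) (hd : r ∣ Nat.card X) : ¬ Red X := by
  rintro ⟨W, hW0, hW1, hW⟩
  have h8 := h.eight
  obtain ⟨g, hg, hiso, hgr, hg1⟩ := exists_elt (Q := Q) (hX.trans og_le) hr (by omega) hd
  obtain ⟨-, hcm, hor, -⟩ := H449.Reg.elt_data hr (by omega) (by rw [Fintype.card_fin]; omega) hiso.pow (lin_ne_one hg1)
  have hadd := hiso.finrank_add
  rw [finrank_V'] at hadd
  rcases hor W (inv_of_mem (hW hg)) with h1 | h1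
  · have h2 := Submodule.finrank_mono h1
    exact hW0 (Submodule.finrank_eq_zero.1 (by omega))
  · have h2 := Submodule.finrank_mono h1
    refine hW1 (Submodule.eq_top_of_finrank_eq (le_antisymm (Submodule.finrank_le W) ?_))
    rw [finrank_V']
    omega

theorem irr_of_not_red (h : ¬ Red X) : ActsIrreducibly (matrixSet X) := by
  intro W hW
  by_contra hc
  push Not at hc
  refine h ⟨W, hc.1, hc.2, fun g hg => mem_St.2 fun w hw => ?_⟩
  exact hW _ ⟨g, hg, rfl⟩ ⟨w, hw, rfl⟩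

/-- a non-degenerate plane of plus type is spanned by a hyperbolic pair -/
theorem hyp_of_plus {D : Submodule F (Fin n → F)} (h2 : finrank F D = 2) (hnd : Nondeg (res Q D)) (hp : IsPlus (res Q D)) :
    ∃ e f, Hyp Q e f ∧ D = Submodule.span F {e, f} := by
  obtain ⟨U, hU, hUd⟩ := hp
  have hU0 : U ≠ ⊥ := by
    rintro rfl
    rw [finrank_bot, h2] at hUd
    omega
  obtain ⟨x, hxU, hx0⟩ := Submodule.exists_mem_ne_zero_of_ne_bot hU0
  obtain ⟨y, hy⟩ := exists_hyp hnd (hU x hxU) hx0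
  have hy' : Hyp Q (x : Fin n → F) y := ⟨hy.left, hy.right, by rw [← hy.pair]; rfl⟩
  refine ⟨x, y, hy', (Submodule.eq_of_le_of_finrank_eq ?_ ?_).symm⟩
  · rw [Submodule.span_le]
    rintro z (rfl | rfl)
    · exact x.2
    · exact y.2
  · have hli : LinearIndependent F ![(x : Fin n → F), y] := by
      rw [LinearIndependent.pair_iff]
      intro s t hst
      have h3 := congrArg (fun z => polar Q z (y : Fin n → F)) hst
      have h4 := congrArg (fun z => polar Q z (x : Fin n → F)) hst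
      simp only [polar_add_left, polar_smul_left, hy'.pair, hy'.pair', hy'.polar_left, hy'.polar_right, polar_zero_left,
        smul_eq_mul, mul_one, mul_zero, add_zero, zero_add] at h3 h4
      exact ⟨h3, h4⟩
    have h5 := finrank_span_eq_card hli
    rw [Matrix.range_cons, Matrix.range_cons, Matrix.range_empty, Set.union_empty, Set.singleton_union] at h5
    rw [h5, h2, Fintype.card_fin]

/-- a reducible group containing an element with a large block has a small invariant subspace -/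
theorem small_of_red (h : Spc Q m) (hY : Y ≤ Og Q) {k : ℕ} (hr : PP (Nat.card F) k r) (hk : m < k) {g : GL (Fin n) F}
    (hg : g ∈ Y) (hgr : g ^ r = 1) (hg1 : g ≠ 1) (hred : Red Y) :
    finrank F (fx (lin g)) + k = n ∧ (∀ W, Y ≤ St W → finrank F W < k → W ≤ fx (lin g)) ∧
      ∃ W, W ≠ ⊥ ∧ W ≤ fx (lin g) ∧ Y ≤ St W := by
  have h4 := h.four
  have hn := h.dim
  have hlin : (lin g) ^ r = 1 := by rw [← H251.GeoCard.toLin_pow, hgr]; exact lin_one
  obtain ⟨-, hcm, hor, -⟩ := H449.Reg.elt_data hr (by omega) (by rw [Fintype.card_fin]; omega) hlin (lin_ne_one hg1)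
  have hiso : Iso Q (lin g) r := Iso.mk' hr (by omega) hlin (lin_iso (hY.trans og_le) hg)
  have hadd := hiso.finrank_add
  rw [finrank_V'] at hadd
  have key : ∀ W : Submodule F (Fin n → F), Y ≤ St W → finrank F W < k → W ≤ fx (lin g) := by
    intro W hW hk
    rcases hor W (inv_of_mem (hW hg)) with h1 | h1
    · exact h1
    · have := Submodule.finrank_mono h1
      omega
  refine ⟨by omega, key, ?_⟩
  obtain ⟨W, hW0, hW1, hW⟩ := hred
  rcases hor W (inv_of_mem (hW hg)) with h1 | h1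
  · exact ⟨W, hW0, h1, hW⟩
  · have h2 := H449.Reg.stab_perp (hY.trans og_le) hW
    refine ⟨perp Q W, fun h0 => hW1 (by rw [← perp_perp h.nd W, h0, perp_bot]), key _ h2 ?_, h2⟩
    have h3 := finrank_perp h.nd W
    rw [finrank_V'] at h3
    have := Submodule.finrank_mono h1
    omega

/-- **a reducible factor with a prime `r_{n-2}`** -/
theorem sm_of_red (h : Spc Q m) (hY : Y ≤ Og Q) (hr : PP (Nat.card F) (2 * m - 2) r) (hd : r ∣ Nat.card Y) (hred : Red Y) :
    Sm Q Y := by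
  have h4 := h.four
  have hn := h.dim
  obtain ⟨g, hg, hiso, hgr, hg1⟩ := exists_elt (Q := Q) (hY.trans og_le) hr (by omega) hd
  obtain ⟨h1, h2, W, hW0, hW1, hW⟩ := small_of_red h hY hr (by omega) hg hgr hg1 hred
  have hfx : finrank F (fx (lin g)) = 2 := by omega
  refine ⟨fx (lin g), hfx, fun W hW hk => h2 W hW (by omega), ⟨W, hW0, hfx ▸ Submodule.finrank_mono hW1, hW⟩, fun _ => ?_⟩
  have hev : Even (2 * m - 2) := ⟨m - 1, by omega⟩
  obtain ⟨hcm, -⟩ := hiso.even_case h.nd (lin_ne_one hg1) hr hev (by rw [h.finrank_V]; omega)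
  have := Fact.mk hiso.prime
  refine hyp_of_plus hfx (nondeg_fx h.nd hiso.iso hiso.ne0 hiso.pow) ?_
  rw [isPlus_fx_iff hiso.two_lt h.nd (by rw [h.finrank_V]; exact even_two_mul m) hiso.iso hiso.ne0 hiso.pow (ord_eq hr) hev
    (A := 1) (by rw [hcm, mul_one])]
  exact ⟨fun h5 => absurd h5 h.minus, fun h5 => absurd h5 (by decide)⟩

theorem pt_of_finrank (h0 : W ≠ ⊥) (h1 : finrank F W ≤ 1) : ∃ v, v ≠ 0 ∧ W = F ∙ v := by
  obtain ⟨v, hv, hv0⟩ := Submodule.exists_mem_ne_zero_of_ne_bot h0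
  refine ⟨v, hv0, (Submodule.eq_of_le_of_finrank_le ((Submodule.span_singleton_le_iff_mem v W).2 hv) ?_).symm⟩
  rw [finrank_span_singleton hv0]
  exact h1

theorem Q_pair {e f : Fin n → F} (h : Hyp Q e f) (a b : F) : Q (a • e + b • f) = a * b := by
  rw [Q_add, QuadraticMap.map_smul, QuadraticMap.map_smul, h.left, h.right, polar_smul_left, polar_smul_right, h.pair]
  simp

/-- `q ≤ 3`: the vectors of norm one of a hyperbolic plane -/
theorem norm_one {e f z : Fin n → F} (hq : Fintype.card F ≤ 3) (h : Hyp Q e f) (hz : z ∈ Submodule.span F {e, f})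
    (h1 : Q z = 1) : ∃ c : F, z = c • (e + f) := by
  obtain ⟨a, b, rfl⟩ := Submodule.mem_span_pair.1 hz
  rw [Q_pair h] at h1
  have ha : a ≠ 0 := by rintro rfl; simp at h1
  have h2 : a * a = 1 := by
    have h3 := FiniteField.pow_card_sub_one_eq_one a ha
    have h4 : 1 < Fintype.card F := Fintype.one_lt_card
    rcases (show Fintype.card F - 1 = 1 ∨ Fintype.card F - 1 = 2 by omega) with h5 | h5
    · rw [h5, pow_one] at h3; rw [h3, mul_one]
    · rw [h5, pow_two] at h3; exact h3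
  have h3 : b = a := mul_left_cancel₀ ha (h1.trans h2.symm)
  exact ⟨a, by rw [h3, smul_add]⟩

theorem Q_one {e f : Fin n → F} (h : Hyp Q e f) : Q (e + f) = 1 := by
  have := Q_pair h 1 1
  rwa [one_smul, one_smul, mul_one] at this

theorem St_one {e f : Fin n → F} (hq : Fintype.card F ≤ 3) (h : Hyp Q e f) (hY : Y ≤ Og Q)
    (hS : Y ≤ St (Submodule.span F {e, f})) : Y ≤ St (F ∙ (e + f)) := fun g hg =>
  mem_St_pt.2 (norm_one hq h (mem_St.1 (hS hg) _ (Submodule.add_mem _ (Submodule.subset_span (by simp))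
    (Submodule.subset_span (by simp)))) (by rw [Q_mv (hY hg), Q_one h]))

/-- `q ≤ 3`: a fixed point -/
theorem Sm.pt (hq : Fintype.card F ≤ 3) (hY : Y ≤ Og Q) (h : Sm Q Y) : ∃ v, v ≠ 0 ∧ Y ≤ St (F ∙ v) := by
  obtain ⟨D, hD, h1, ⟨W, hW0, hW2, hW⟩, h2⟩ := h
  by_cases h3 : finrank F W ≤ 1
  · obtain ⟨v, hv, rfl⟩ := pt_of_finrank hW0 h3
    exact ⟨v, hv, hW⟩
  · have h4 : W = D := Submodule.eq_of_le_of_finrank_eq (h1 W hW hW2) (by omega)
    subst h4
    obtain ⟨e, f, hef, rfl⟩ := h2 hW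
    refine ⟨e + f, fun h0 => ?_, St_one hq hef hY hW⟩
    have := Q_one hef
    rw [h0, QuadraticMap.map_zero] at this
    exact zero_ne_one this

/-- the classical groups inside `Ω` -/
theorem nat_kill (h : Spc Q m) {P : Subgroup (GL (Fin n) F)} (hP : P ≤ Og Q) (hN : Nat' P) : Og Q ≤ P := by
  have h8 := h.eight
  have hQ := h.nd'
  have hone : Nonempty (Fin n) := ⟨⟨0, by omega⟩⟩
  have hc : Fintype.card (Fin n) = n := Fintype.card_fin n
  have hmem : ∀ x ∈ P, ∀ v, Q ((x : Matrix (Fin n) (Fin n) F) *ᵥ v) = Q v := fun x hx => Q_mv (hP hx)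
  rcases hN with h1 | ⟨f', hf', h1⟩ | ⟨τ, f', hf', h1⟩ | ⟨Q', hQ', h1⟩
  · exfalso
    refine H905.not_sl_le_quadSimilarityGroup (by omega) hQ fun x hx => ?_
    exact ⟨1, fun v => by rw [Units.val_one, one_mul]; exact hmem x (h1 hx) v⟩
  · exact (H558.Cov.symp_quad_false (by omega) hQ hf' fun x hx => hmem x (h1 x hx)).elim
  · exact (H558.Cov.unit_quad_false (by omega) hQ hf' fun x hx hd => hmem x (h1 x hx hd)).elim
  · have h2 : FixesQuadForm (matrixSet (omegaGL Q')) (⇑Q) := by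
      rintro _ ⟨x, hx, rfl⟩ v
      exact hmem x (h1 hx) v
    obtain ⟨c, hc, h3⟩ := H925.Nat.quad_prop (H925.Nat.omegaGL_absIrr hQ' (by omega)) hQ' hQ (H925.Nat.omegaGL_fixes Q') h2
    have h4 : omegaGL (⇑Q) = omegaGL Q' := H925.Nat.omegaGL_smul hc h3
    change omegaGL (⇑Q) ≤ P
    rw [h4]
    exact h1

/-! ### fields -/

variable {s : ℕ} {K : Subalgebra F (Matrix (Fin n) (Fin n) F)}

/-- two parities: an irreducible group which normalises a quadratic field -/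
theorem fld_two (h : Spc Q m) (hX : X ≤ Og Q) (hirr : ¬ Red X) {j k r t : ℕ} (hr : PP (Nat.card F) j r)
    (ht : PP (Nat.card F) k t) (hj : Even j) (hk : Even k) (hmj : m < j) (hmk : m < k) (hpar : Odd (j / 2 + k / 2))
    (hrX : r ∣ Nat.card X) (htX : t ∣ Nat.card X) (hK : IsFieldSubalgebra 2 K) (hXK : X ≤ subalgebraNormalizer K) : False := by
  have h4 := h.four
  have hn := h.dim
  refine H449.Reg.no_field2_gen (B := polarBilin Q) (irr_of_not_red hirr) ?_ (fun g hg u w => polar_mv (hX hg) u w) hr ht hj hk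
    (by rw [Fintype.card_fin]; omega) (by rw [Fintype.card_fin]; omega) (by omega) (by omega) hpar hrX htX hK hXK
  exact ⟨fun x hx => h.nd x hx, fun x hx => h.nd x fun y => by rw [polar_comm]; exact hx y⟩

/-- a prime of odd order `e`, `m < 2 e` -/
theorem fld_odd (h : Spc Q m) (hX : X ≤ Og Q) {e : ℕ} (hr : PP (Nat.card F) e r) (he : Odd e) (he3 : 3 ≤ e) (hme : m < 2 * e)
    (hd : r ∣ Nat.card X) (hs : s.Prime) (hK : IsFieldSubalgebra s K) (hXK : X ≤ subalgebraNormalizer K) : r = s ∨ s ∣ e :=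
  H964.Rg.ext_odd h.nd (hX.trans og_le) hr he he3 (by rw [Fintype.card_fin, h.dim]; omega) hd hs hK hXK

theorem fld_dvd (hn : 0 < n) (hK : IsFieldSubalgebra s K) : s ∣ n := by
  have : Nonempty (Fin n) := ⟨⟨0, hn⟩⟩
  have h1 := H100.Ppd.dvd_card_of_field hK
  rwa [Fintype.card_fin] at h1

/-- a prime of order `k > n / 2` -/
theorem fld_big {k : ℕ} (hr : PP (Nat.card F) k r) (hn : 0 < n) (hk : n < 2 * k) (hd : r ∣ Nat.card X) (hs : s.Prime)
    (hK : IsFieldSubalgebra s K) (hXK : X ≤ subalgebraNormalizer K) : r = s ∨ s ∣ k := by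
  have : Nonempty (Fin n) := ⟨⟨0, hn⟩⟩
  exact ext_cases hs hK hXK (by rw [Fintype.card_fin]; exact fld_dvd hn hK) hr (by rwa [Fintype.card_fin]) hd

/-- non-zero elements of the field are injective -/
theorem fld_inj (hK : IsFieldSubalgebra s K) {y : Matrix (Fin n) (Fin n) F} (hy : y ∈ K) {v : Fin n → F} (hv : v ≠ 0)
    (h0 : y *ᵥ v = 0) : y = 0 := by
  by_contra hne
  obtain ⟨z, hz, h1⟩ := hK.inv y hy hne
  apply hv
  rw [← Matrix.one_mulVec v, ← h1, hK.comm y hy z hz, ← Matrix.mulVec_mulVec, h0, Matrix.mulVec_zero]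

/-- an element of the field with an eigenvector is a scalar -/
theorem fld_scalar (hK : IsFieldSubalgebra s K) {y : Matrix (Fin n) (Fin n) F} (hy : y ∈ K) {v : Fin n → F} (hv : v ≠ 0)
    {c : F} (h0 : y *ᵥ v = c • v) : y = c • (1 : Matrix (Fin n) (Fin n) F) := by
  rw [← sub_eq_zero]
  refine fld_inj hK (K.sub_mem hy (K.smul_mem K.one_mem c)) hv ?_
  rw [Matrix.sub_mulVec, h0, Matrix.smul_mulVec, Matrix.one_mulVec, sub_self]

theorem exists_not_scalar (hs : 2 ≤ s) (hK : IsFieldSubalgebra s K) :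
    ∃ y ∈ K, ∀ c : F, y ≠ c • (1 : Matrix (Fin n) (Fin n) F) := by
  by_contra hc
  push Not at hc
  have h1 : Subalgebra.toSubmodule K ≤ F ∙ (1 : Matrix (Fin n) (Fin n) F) := fun y hy => by
    obtain ⟨c, h2⟩ := hc y hy
    exact Submodule.mem_span_singleton.2 ⟨c, h2.symm⟩
  have h2 := Submodule.finrank_mono h1
  have h3 : finrank F (F ∙ (1 : Matrix (Fin n) (Fin n) F)) ≤ 1 := by
    simpa using finrank_span_le_card (R := F) ({(1 : Matrix (Fin n) (Fin n) F)} : Set _)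
  have h4 : finrank F (Subalgebra.toSubmodule K) = s := hK.finrank_eq
  omega

theorem le_kw (K : Subalgebra F (Matrix (Fin n) (Fin n) F)) (W : Submodule F (Fin n → F)) : W ≤ kw K W := fun w hw =>
  Submodule.subset_span ⟨1, K.one_mem, w, hw, (Matrix.one_mulVec w).symm⟩

theorem mv_mem_kw {y : Matrix (Fin n) (Fin n) F} (hy : y ∈ K) {v : Fin n → F} (hv : v ∈ kw K W) : y *ᵥ v ∈ kw K W := by
  induction hv using Submodule.span_induction with
  | mem x hx =>
    obtain ⟨z, hz, w, hw, rfl⟩ := hx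
    exact Submodule.subset_span ⟨y * z, K.mul_mem hy hz, w, hw, by rw [Matrix.mulVec_mulVec]⟩
  | zero => rw [Matrix.mulVec_zero]; exact Submodule.zero_mem _
  | add a b _ _ ha hb => rw [Matrix.mulVec_add]; exact Submodule.add_mem _ ha hb
  | smul c a _ ha => rw [Matrix.mulVec_smul]; exact Submodule.smul_mem _ _ ha

/-- the span of `K v` is `K v` -/
theorem mem_kw_pt {v z : Fin n → F} : z ∈ kw K (F ∙ v) ↔ ∃ y ∈ K, z = y *ᵥ v := by
  constructor
  · intro hz
    induction hz using Submodule.span_induction with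
    | mem x hx =>
      obtain ⟨y, hy, w, hw, rfl⟩ := hx
      obtain ⟨c, rfl⟩ := Submodule.mem_span_singleton.1 hw
      exact ⟨c • y, K.smul_mem hy c, by rw [Matrix.mulVec_smul, Matrix.smul_mulVec]⟩
    | zero => exact ⟨0, K.zero_mem, by rw [Matrix.zero_mulVec]⟩
    | add a b _ _ ha hb =>
      obtain ⟨y, hy, rfl⟩ := ha
      obtain ⟨z, hz, rfl⟩ := hb
      exact ⟨y + z, K.add_mem hy hz, by rw [Matrix.add_mulVec]⟩
    | smul c a _ ha =>
      obtain ⟨y, hy, rfl⟩ := ha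
      exact ⟨c • y, K.smul_mem hy c, by rw [Matrix.smul_mulVec]⟩
  · rintro ⟨y, hy, rfl⟩
    exact mv_mem_kw hy (le_kw K _ (Submodule.mem_span_singleton_self v))

theorem finrank_kw_pt (hK : IsFieldSubalgebra s K) {v : Fin n → F} (hv : v ≠ 0) : finrank F (kw K (F ∙ v)) = s := by
  let φ : K →ₗ[F] (Fin n → F) :=
    { toFun := fun y => (y : Matrix (Fin n) (Fin n) F) *ᵥ v
      map_add' := fun a b => by rw [Subalgebra.coe_add, Matrix.add_mulVec]
      map_smul' := fun c a => by rw [Subalgebra.coe_smul, Matrix.smul_mulVec]; rfl }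
  have h1 : Function.Injective φ := by
    rw [← LinearMap.ker_eq_bot, eq_bot_iff]
    intro y hy
    exact (Submodule.mem_bot F).2 (Subtype.ext (fld_inj hK y.2 hv hy))
  have h2 : LinearMap.range φ = kw K (F ∙ v) := by
    ext z
    rw [mem_kw_pt]
    exact ⟨fun ⟨y, hy⟩ => ⟨y, y.2, hy.symm⟩, fun ⟨y, hy, e⟩ => ⟨⟨y, hy⟩, e.symm⟩⟩
  rw [← h2, LinearMap.finrank_range_of_inj h1, hK.finrank_eq]

end Cfsg.Agent.SM.Om
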