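import Cfsg.Agent.SP.Mon.NL.Out
import Cfsg.Agent.TH.Ex.Dg.Spor
import Cfsg.Agent.H290.ElReg
import Cfsg.Agent.OrdDiv.Table
import Cfsg.Agent.S0000

/-!
# SM (S3570), socle `PΩ⁻_{2m}(q)`: an order sieve with automorphism groups, characteristic and degree (helper25)

`sieve` : a simple group `S` of order dividing `N`, such that every multiple of `|Aut S|` passes the test `C`, is of Lie type in
characteristic `p` of order divisible by `r`, or one of the listed alternating groups.
-/

set_option autoImplicit false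

namespace Cfsg.Agent.SM.Om.Sv

open Cfsg Cfsg.Agent.OrdDiv Cfsg.Agent.H902 Cfsg.Agent.H902.Names
open Cfsg.Agent.H313.EPX (ou aut_eq lie_char)
open Cfsg.Agent.H290.ElTab (numL numL_eq)
open Cfsg.Agent.H290.ElReg (lb Fth lb_le)
open Cfsg.Agent.SP.Mon.NL (shp side outS isLie_of out_dvdS)
open Cfsg.Agent.TH.Ex.Dg (dgS dgS_le)

/-- the exponent -/
def lg (p : ℕ) : ℕ → ℕ → ℕ
  | 0, _ => 0
  | k + 1, q => if q % p = 0 then lg p k (q / p) + 1 else 0

example := @lg.eq_def

/-- a prime of the list which divides `q` -/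
def pr (l : List (ℕ × ℕ)) (q : ℕ) : ℕ := ((l.find? fun x => q % x.1 == 0).map fun x => x.1).getD 0

/-- the listed alternating groups -/
def isAl (al : List ℕ) : Grp → Bool
  | .alt c => al.contains c
  | _ => false

example := @isAl.eq_def

/-- the test for a group of Lie type over the field of `a ^ f` elements -/
def chkL (C : ℕ → Bool) (p r n : ℕ) (b : Bool) (X : Art.Sh) (q a f o : ℕ) : Bool :=
  isPrimeB a && Nat.beq (a ^ f) q && Nat.blt 0 f && decide (Art.Ok X a f) && Nat.beq (Art.dd X q * o) (q ^ Art.NN X * numL X q) &&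
    (!C (ou X a f * o) || if a = p then Nat.beq (o % r) 0 else b && Nat.blt n (lb X q))

/-- the test -/
def chk (l : List (ℕ × ℕ)) (C : ℕ → Bool) (p r n : ℕ) (b : Bool) (al : List ℕ) (g : Grp) : Bool :=
  side g && match shp g with
  | some (X, q) => chkL C p r n b X q (pr l q) (lg (pr l q) 100 q) (ordN g)
  | none => !C (outS g * ordN g) || b && Nat.blt n (dgS g p) || isAl al g

theorem sieve {S : Type} [Group S] [Finite S] [IsSimpleGroup S] (hna : ¬ IsMulCommutative S) {l : List (ℕ × ℕ)} {N : ℕ}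
    (hv : valid l N = true) (hd : Nat.card S ∣ N) {C : ℕ → Bool} (hC : ∀ M, Nat.card (MulAut S) ∣ M → C M = true)
    {p r n : ℕ} (hp : p.Prime) (hn : n ≤ 248) {F : Type} [Field F] [CharP F p] {b : Bool} (hb : b = true → Fth n F S) {al : List ℕ}
    (h : (cands l N).all (chk l C p r n b al) = true) :
    (IsLieTypeChar p S ∧ r ∣ Nat.card S) ∨ ∃ c ∈ al, Nonempty (S ≃* alternatingGroup (Fin c)) := by
  have hna' : ¬ ∀ a b : S, a * b = b * a := fun h => hna ⟨⟨h⟩⟩
  obtain ⟨g, h1, h2, h3⟩ := exists_good table (S0000.result (G := S)) hna' hv hd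
  have h4 := List.all_eq_true.1 h g h1
  unfold chk at h4
  rw [Bool.and_eq_true] at h4
  obtain ⟨hs, h4⟩ := h4
  rcases hg : shp g with _ | ⟨X, q⟩
  · rw [hg] at h4
    have h5 : C (outS g * ordN g) = true := hC _ (by
      rw [← H934.OutB.card_out_mul S hna, h3]
      exact Nat.mul_dvd_mul_right (out_dvdS hna' hg hs h2) _)
    simp only [h5, Bool.not_true, Bool.false_or, Bool.or_eq_true, Bool.and_eq_true, Nat.blt_eq] at h4
    rcases h4 with ⟨k1, k2⟩ | k
    · exact absurd (dgS_le hna' h2 (hb k1)) (by omega)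
    · cases g with
      | alt c => exact Or.inr ⟨c, by simpa [isAl] using k, h2⟩
      | _ => simp [isAl] at k
  · rw [hg] at h4
    simp only [chkL, Bool.and_eq_true, decide_eq_true_eq, Nat.beq_eq, Nat.blt_eq] at h4
    generalize pr l q = a at h4
    generalize lg a 100 q = f at h4
    obtain ⟨⟨⟨⟨⟨k1, rfl⟩, k3⟩, k4⟩, k5⟩, k6⟩ := h4
    have hL : IsLie g X a f := isLie_of hg hs
    have hR : Art.Real X a f (Nat.card S) := ⟨prime_of k1, k3, k4, by rw [h3, k5, numL_eq]⟩
    have h5 : C (ou X a f * ordN g) = true := hC _ (by rw [aut_eq hna' hL h2 hR, h3])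
    rw [h5, Bool.not_true, Bool.false_or] at k6
    by_cases hap : a = p
    · rw [if_pos hap, Nat.beq_eq] at k6
      exact Or.inl ⟨hap ▸ lie_char hL h2 hR, h3 ▸ Nat.dvd_of_mod_eq_zero k6⟩
    · rw [if_neg hap, Bool.and_eq_true, Nat.blt_eq] at k6
      have h6 : (a : F) ≠ 0 := fun h0 =>
        hap ((Nat.prime_dvd_prime_iff_eq hp (prime_of k1)).1 ((CharP.cast_eq_zero_iff F p a).1 h0)).symm
      exact absurd (lb_le hna' hn (hb k6.1) hL h2 hR h6) (by omega)

/-- `r` and one of the numbers of the list divide `z M` -/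
def tst (z r : ℕ) (Ns : List ℕ) (M : ℕ) : Bool := Nat.beq (z * M % r) 0 && Ns.any fun N => Nat.beq (z * M % N) 0

theorem tst_of {z r c A N : ℕ} {Ns : List ℕ} (hc : c ∣ z * A) (hr : r ∣ c) (hN : N ∈ Ns) (hd : N ∣ c) (M : ℕ) (h : A ∣ M) :
    tst z r Ns M = true := by
  have h1 : c ∣ z * M := hc.trans (Nat.mul_dvd_mul_left z h)
  unfold tst
  rw [Bool.and_eq_true, Nat.beq_eq, List.any_eq_true]
  exact ⟨Nat.mod_eq_zero_of_dvd (hr.trans h1), N, hN, by rw [Nat.beq_eq]; exact Nat.mod_eq_zero_of_dvd (hd.trans h1)⟩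

/-! ### the four tables -/

/-- `|Ω⁻₁₄(2)|` -/
def l14 : List (ℕ × ℕ) := [(2, 42), (3, 9), (5, 3), (7, 2), (11, 1), (13, 1), (17, 1), (31, 1), (43, 1)]
/-- `|Ω⁻₁₈(2)|` -/
def l18 : List (ℕ × ℕ) :=
  [(2, 72), (3, 13), (5, 4), (7, 2), (11, 1), (13, 1), (17, 2), (19, 1), (31, 1), (43, 1), (127, 1), (257, 1)]
/-- `4 |PΩ⁻₁₈(3)|` -/
def l183 : List (ℕ × ℕ) :=
  [(2, 33), (3, 72), (5, 4), (7, 3), (11, 2), (13, 2), (17, 1), (19, 1), (37, 1), (41, 2), (61, 1), (73, 1), (193, 1), (547, 1), (1093, 1)]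
/-- `|Ω⁻₂₀(2)|` -/
def l20 : List (ℕ × ℕ) :=
  [(2, 90), (3, 13), (5, 6), (7, 3), (11, 1), (13, 1), (17, 2), (19, 1), (31, 1), (41, 1), (43, 1), (73, 1), (127, 1), (257, 1)]

theorem v14 : valid l14 (prodl l14) = true := by decide +kernel
theorem v18 : valid l18 (prodl l18) = true := by decide +kernel
theorem v183 : valid l183 (prodl l183) = true := by decide +kernel
theorem v20 : valid l20 (prodl l20) = true := by decide +kernel

theorem c14 : (cands l14 (prodl l14)).all (chk l14 (tst 1 17 [403]) 2 17 14 false []) = true := by decide +kernel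
theorem c18 : (cands l18 (prodl l18)).all (chk l18 (tst 1 19 [130815, 131328]) 2 19 18 true [19, 20]) = true := by decide +kernel
theorem c183 : (cands l183 (prodl l183)).all (chk l183 (tst 2 37 [64563520, 64573362]) 3 37 18 false []) = true := by decide +kernel
theorem c20 : (cands l20 (prodl l20)).all (chk l20 (tst 1 41 [523775, 524800]) 2 41 20 true []) = true := by decide +kernel

end Cfsg.Agent.SM.Om.Sv
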