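import Cfsg.Agent.SM.Om.Lin
import Cfsg.Agent.SM.Om.SvA
import Cfsg.Agent.H100.Ppd.Basic
import Cfsg.Agent.S2119

/-!
# SM (S3570), socle `PΩ⁻_{2m}(q)`: the boxes `Box14` and `BoxK` (helper25)
-/

set_option autoImplicit false
set_option linter.unusedSectionVars false

namespace Cfsg.Agent.SM.Om

open Module QuadraticMap Cfsg Cfsg.Geo Cfsg.Agent.H884.El Cfsg.Agent.OrdDiv
open Cfsg.Agent.H278.Cov (Red Ext)
open Cfsg.Agent.H915.LD (Core toSoc toSoc_surjective ker_toSoc)
open Cfsg.Agent.H100.Ppd (Nat' conjSoc scalar_of_conjSoc mem_normalizer)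
open Cfsg.Agent.H290.ElReg (Fth)
open scoped MatrixGroups Matrix

namespace Sv

theorem pp_of {q e r : ℕ} (hr : isPrimeB r = true) (he : 0 < e) (h1 : q ^ e % r = 1)
    (h2 : ((List.range e).all fun i => Nat.beq i 0 || !Nat.beq (q ^ i % r) 1) = true) : PP q e r := by
  have hp := prime_of hr
  have key : ∀ i, (q : ZMod r) ^ i = 1 ↔ q ^ i % r = 1 := fun i => by
    rw [← Nat.cast_pow, ← Nat.cast_one (R := ZMod r), ZMod.natCast_eq_natCast_iff', Nat.mod_eq_of_lt hp.one_lt]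
  refine ⟨hp, (orderOf_eq_iff he).2 ⟨(key e).2 h1, fun i hi h0 h => ?_⟩⟩
  have h3 := List.all_eq_true.1 h2 i (List.mem_range.2 hi)
  rw [(key i).1 h] at h3
  simp only [Bool.or_eq_true, Nat.beq_eq] at h3
  rcases h3 with h3 | h3
  · omega
  · exact absurd h3 (by decide)

variable {n : ℕ} {F : Type} [Field F] [Fintype F] {Q : QuadraticForm F (Fin n → F)} {m : ℕ} {X P : Subgroup (GL (Fin n) F)}

theorem card_og (h : Spc Q m) : Nat.card (Og Q) ∣ oM (Fintype.card F) m := by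
  obtain ⟨z, hz, e⟩ := h.ord
  rcases hz with rfl | ⟨rfl, ho⟩
  · exact ⟨_, by rw [← one_mul (oM _ _), ← e, mul_comm]⟩
  · obtain ⟨c, hc⟩ : 2 ∣ Nat.gcd 4 (Fintype.card F ^ m + 1) := Nat.dvd_gcd (by norm_num) (even_iff_two_dvd.1 ho.pow.add_one)
    rw [hc, mul_assoc] at e
    exact ⟨c, by rw [← Nat.eq_of_mul_eq_mul_left two_pos e, mul_comm]⟩

theorem card_sc : Nat.card (scalars (Fin n) F) ∣ Fintype.card F - 1 := by
  classical
  rw [← Fintype.card_units, ← Nat.card_eq_fintype_card]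
  exact Subgroup.card_range_dvd _

theorem sc_one (hq : Fintype.card F = 2) {g : GL (Fin n) F} (hg : g ∈ scalars (Fin n) F) : g = 1 := by
  have h1 := card_sc (n := n) (F := F)
  rw [hq, show 2 - 1 = 1 from rfl, Nat.dvd_one, Subgroup.card_eq_one] at h1
  rwa [h1, Subgroup.mem_bot] at hg

/-- the action on the socle -/
noncomputable def act (hC : Core P) (hn : ∀ h ∈ X, ∀ x ∈ P, h * x * h⁻¹ ∈ P) : X →* MulAut (H915.LD.Soc P) :=
  (conjSoc hC.absIrred).comp (Subgroup.inclusion fun g hg => mem_normalizer (hn g hg))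

theorem act_ker (hC : Core P) (hn : ∀ h ∈ X, ∀ x ∈ P, h * x * h⁻¹ ∈ P) {x : X} (hx : act hC hn x = 1) :
    (x : GL (Fin n) F) ∈ scalars (Fin n) F := scalar_of_conjSoc hC hx

theorem card_dvd (hC : Core P) (hn : ∀ h ∈ X, ∀ x ∈ P, h * x * h⁻¹ ∈ P) :
    Nat.card X ∣ (Fintype.card F - 1) * Nat.card (MulAut (H915.LD.Soc P)) := by
  rw [← (act hC hn).ker.card_mul_index, Subgroup.index_ker]
  refine Nat.mul_dvd_mul (Dvd.dvd.trans ?_ (card_sc (n := n))) (Subgroup.card_subgroup_dvd_card _)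
  rw [← Subgroup.card_map_of_injective X.subtype_injective]
  apply Subgroup.card_dvd_of_le
  rintro _ ⟨x, hx, rfl⟩
  exact act_ker hC hn hx

theorem act_inj (hq : Fintype.card F = 2) (hC : Core P) (hn : ∀ h ∈ X, ∀ x ∈ P, h * x * h⁻¹ ∈ P) :
    Function.Injective (act hC hn) :=
  (injective_iff_map_eq_one _).2 fun _ hx => Subtype.ext (sc_one hq (act_ker hC hn hx))

theorem fth (hq : Fintype.card F = 2) : Fth n F (H915.LD.Soc P) :=
  Fth.congr (S := P) ⟨P.subtype, P.subtype_injective⟩ (MulEquiv.ofBijective (toSoc P)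
    ⟨(injective_iff_map_eq_one _).2 fun x hx => Subtype.ext (sc_one hq (by
      have h1 : x ∈ (toSoc P).ker := hx
      rw [ker_toSoc] at h1
      exact h1)), toSoc_surjective P⟩)

theorem soc_dvd (hP : P ≤ X) : Nat.card (H915.LD.Soc P) ∣ Nat.card X :=
  (Subgroup.card_quotient_dvd_card _).trans (Subgroup.card_dvd_of_le hP)

/-- a group between the alternating and the symmetric group -/
theorem no_alt {G S : Type} [Group G] [Group S] {c N : ℕ} (hc : 7 ≤ c) (e : S ≃* alternatingGroup (Fin c)) (φ : G →* MulAut S)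
    (hφ : Function.Injective φ) (hd : Nat.card S ∣ Nat.card G) (U : Subgroup G) (hU : U.index = N) (h : NoIdx c N) : False := by
  let E : MulAut S ≃* Equiv.Perm (Fin c) :=
    (MulAut.congr e).trans (MulEquiv.ofBijective _ (S2119.result c (by omega) (by omega))).symm
  let ψ : G →* Equiv.Perm (Fin c) := E.toMonoidHom.comp φ
  have hψ : Function.Injective ψ := E.injective.comp hφ
  have h1 : (U.map ψ).index = N * ψ.range.index := by rw [Subgroup.index_map_of_injective _ hψ, hU]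
  have : Nontrivial (Fin c) := Fin.nontrivial_iff_two_le.2 (by omega)
  have h2 : Nat.card G * ψ.range.index = Nat.card S * 2 := by
    rw [Nat.card_congr (MonoidHom.ofInjective hψ).toEquiv, Subgroup.card_mul_index, Nat.card_congr e.toEquiv,
      ← alternatingGroup.index_eq_two (α := Fin c), Subgroup.card_mul_index]
  obtain ⟨k, hk⟩ := hd
  have h3 : 0 < Nat.card S := by
    rw [Nat.card_congr e.toEquiv]
    exact Nat.card_pos
  rw [hk, mul_assoc] at h2
  have h4 : ψ.range.index ∣ 2 := ⟨k, by rw [← Nat.eq_of_mul_eq_mul_left h3 h2, mul_comm]⟩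
  rcases (Nat.dvd_prime Nat.prime_two).1 h4 with h5 | h5
  · exact (h _).1 (by rw [h1, h5, mul_one])
  · exact (h _).2 (by rw [h1, h5, mul_comm])

/-- **the almost simple case** -/
theorem core (hDf : BoxDf) (h : Spc Q m) (hX : X ≤ Og Q) (hnX : ¬ Og Q ≤ X) {q : ℕ} (hq : Fintype.card F = q) (hp : q.Prime)
    (h10 : 10 ≤ n) (h248 : n ≤ 248) {k r : ℕ} (hk : k ≤ n) (hk2 : n < 2 * k) (hr : PP q k r) (h17 : 17 ≤ r) (hrX : r ∣ Nat.card X)
    {N : ℕ} {Ns : List ℕ} (hN : N ∈ Ns) (hNX : N ∣ Nat.card X) {l : List (ℕ × ℕ)} (hv : valid l (prodl l) = true)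
    (hl : prodl l = oM q m) {b : Bool} (hb : b = true → q = 2) {al : List ℕ}
    (hc : (cands l (prodl l)).all (chk l (tst (q - 1) r Ns) q r n b al) = true) (hP : P ≤ X) (hC : Core P)
    (hn : ∀ h ∈ X, ∀ x ∈ P, h * x * h⁻¹ ∈ P) : ∃ c ∈ al, Nonempty (H915.LD.Soc P ≃* alternatingGroup (Fin c)) := by
  have := Fact.mk hp
  have : CharP F q := H290.ElReg.charP_of_pow hp (a := 1) (by rw [hq, pow_one])
  have := hC.simple
  have hd : Nat.card (H915.LD.Soc P) ∣ prodl l := by
    rw [hl, ← hq]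
    exact (soc_dvd (hP.trans hX)).trans (card_og h)
  rcases sieve hC.nonabelian hv hd (tst_of (hq ▸ card_dvd hC hn) hrX hN hNX) hp h248 (fun h1 => fth (hq.trans (hb h1))) hc with
    ⟨h1, h2⟩ | h1
  · exact absurd ((nat_kill h (hP.trans hX)
      (hDf F q n k r P h10 hk hk2 (by rwa [Nat.card_eq_fintype_card, hq]) h17 hC h2 h1)).trans hP) hnX
  · exact h1

theorem boxK (hSt : BoxSt) (hDf : BoxDf) (hIdx : BoxIdx) {m q r N1 N2 : ℕ} (hp : q.Prime) (h5 : 5 ≤ m) (h248 : m ≤ 124)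
    (hpp : ¬ IsPrimePow (2 * m)) (hr : PP q (2 * m) r) (h17 : 17 ≤ r)
    (h1 : N1 * (q - 1) = (q ^ m + 1) * (q ^ (m - 1) - 1)) (h2 : N2 * Nat.gcd 2 (q - 1) = q ^ (m - 1) * (q ^ m + 1))
    {l : List (ℕ × ℕ)} (hv : valid l (prodl l) = true) (hl : prodl l = oM q m) {b : Bool} (hb : b = true → q = 2) {al : List ℕ}
    (hc : (cands l (prodl l)).all (chk l (tst (q - 1) r [N1, N2]) q r (2 * m) b al) = true)
    (hal : ∀ c ∈ al, q = 2 ∧ 7 ≤ c ∧ NoIdx c N1 ∧ NoIdx c N2) : BoxK m q r := by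
  rintro F _ _ n Q X Y h hq hrX ⟨v, hv0, hY⟩
  obtain rfl : n = 2 * m := h.dim
  have hr' : PP (Nat.card F) (2 * m) r := by rwa [Nat.card_eq_fintype_card, hq]
  rcases hSt F (2 * m) (2 * m) r X (hq ▸ hp) (by omega) le_rfl (by omega) hpp hr' (hr.lt (by omega)) hrX with
    k | ⟨s, K, k1, -, k2, k3⟩ | ⟨P, k1, k2, k3⟩
  · exact absurd k (not_red h.toSpc h.leX hr' hrX)
  · exact ⟨r, s, K, hr', hrX, k1, k2, k3⟩
  · exfalso
    have hI := hIdx F (2 * m) m Q v h.toSpc hv0
    rw [hq] at hI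
    have hq1 : 0 < q - 1 := by have := hp.two_le; omega
    have hN : (St (F ∙ v)).relIndex (Og Q) ∈ [N1, N2] := by
      by_cases h0 : Q v = 0
      · rw [Nat.eq_of_mul_eq_mul_right hq1 ((hI.1 h0).1.trans h1.symm)]
        simp
      · rw [Nat.eq_of_mul_eq_mul_right (Nat.gcd_pos_of_pos_right 2 hq1) ((hI.2 h0).trans h2.symm)]
        simp
    obtain ⟨c, c1, ⟨e⟩⟩ := core hDf h.toSpc h.leX h.nX hq hp (by omega) (by omega) le_rfl (by omega) hr h17 hrX hN
      (h.relIndex_dvd hY) hv hl hb hc k1 k2 k3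
    obtain ⟨c2, c3, c4, c5⟩ := hal c c1
    refine no_alt c3 e (act k2 k3) (act_inj (hq.trans c2) k2 k3) (soc_dvd k1) ((St (F ∙ v)).subgroupOf X) (h.relIndex hY) ?_
    simp only [List.mem_cons, List.not_mem_nil, or_false] at hN
    rcases hN with hN | hN <;> rwa [hN]

theorem not_pp {a b n : ℕ} (ha : a.Prime) (hb : b.Prime) (hab : a ≠ b) (h1 : a ∣ n) (h2 : b ∣ n) : ¬ IsPrimePow n := by
  intro h
  obtain ⟨p, k, hp, -, rfl⟩ := (isPrimePow_nat_iff n).1 h
  exact hab (((Nat.prime_dvd_prime_iff_eq ha hp).1 (ha.dvd_of_dvd_pow h1)).trans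
    ((Nat.prime_dvd_prime_iff_eq hb hp).1 (hb.dvd_of_dvd_pow h2)).symm)

end Sv

open Sv

theorem box14_of (hSt : BoxSt) (hDf : BoxDf) : Box14 := by
  intro F _ _ Q Y h hY hnY hq h13 h17 h31
  have hr : PP 2 8 17 := pp_of (by decide) (by decide) (by decide) (by decide)
  have hF : Nat.card F = 2 := by rw [Nat.card_eq_fintype_card, hq]
  rcases hSt F 14 8 17 Y (hq ▸ Nat.prime_two) (by omega) (by omega) (by omega)
    (not_pp Nat.prime_two (by decide : Nat.Prime 7) (by omega) (by omega) (by omega)) (hF ▸ hr) (by omega) h17 with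
    k | ⟨s, K, k1, k0, k2, k3⟩ | ⟨P, k1, k2, k3⟩
  · exact k
  · exfalso
    have ht : PP (Nat.card F) 5 31 := hF ▸ pp_of (by decide) (by decide) (by decide) (by decide)
    obtain rfl : s = 2 := (Nat.prime_dvd_prime_iff_eq k1 Nat.prime_two).1 k0
    rcases fld_odd h hY ht (by decide) (by omega) (by omega) h31 k1 k2 k3 with e | e <;> omega
  · obtain ⟨c, c1, -⟩ := core hDf h hY hnY hq Nat.prime_two (by omega) (by omega) (by omega) (by omega) hr le_rfl h17
      (List.mem_singleton_self 403) (Nat.Coprime.mul_dvd_of_dvd_of_dvd (by decide : Nat.Coprime 13 31) h13 h31) v14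
      (by decide +kernel) (by decide) c14 k1 k2 k3
    exact absurd c1 List.not_mem_nil

theorem boxK_of (hSt : BoxSt) (hDf : BoxDf) (hAlt : BoxAlt) (hIdx : BoxIdx) : BoxK 9 2 19 ∧ BoxK 9 3 37 ∧ BoxK 10 2 41 := by
  have p18 : ¬ IsPrimePow (2 * 9) := not_pp Nat.prime_two Nat.prime_three (by omega) (by omega) (by omega)
  refine ⟨boxK hSt hDf hIdx Nat.prime_two (by omega) (by omega) p18
      (pp_of (by decide) (by decide) (by decide) (by decide)) (by omega) (by decide) (by decide) v18 (by decide +kernel)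
      (fun _ => rfl) c18 fun c hc => ?_,
    boxK hSt hDf hIdx Nat.prime_three (by omega) (by omega) p18
      (pp_of (by decide) (by decide) (by decide) (by decide)) (by omega) (by decide) (by decide) v183 (by decide +kernel)
      (by decide) c183 fun c hc => absurd hc List.not_mem_nil,
    boxK hSt hDf hIdx Nat.prime_two (by omega) (by omega) (not_pp Nat.prime_two Nat.prime_five (by omega) (by omega) (by omega))
      (pp_of (by decide) (by decide) (by decide) (by decide)) (by omega) (by decide) (by decide) v20 (by decide +kernel)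
      (fun _ => rfl) c20 fun c hc => absurd hc List.not_mem_nil⟩
  obtain ⟨-, -, -, a1, a2, a3, a4⟩ := hAlt
  simp only [List.mem_cons, List.not_mem_nil, or_false] at hc
  rcases hc with rfl | rfl
  · exact ⟨rfl, by omega, a2, a1⟩
  · exact ⟨rfl, by omega, a4, a3⟩

end Cfsg.Agent.SM.Om
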